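import Cfsg.Agent.Lib.Classical.Dickson.MaxList

/-!
# Polyhedral maximal subgroups of `PSL₂`
-/

set_option autoImplicit false
set_option linter.unusedSectionVars false

namespace Cfsg.Agent.Classical.Dickson

open Cfsg.Agent.Small Cfsg.Agent.Small.SL2C
open Cfsg.Agent.Classical.SL2Four (IsPair pairGroup)

variable {F : Type*} [Field F] [Fintype F]

local notation "SL2" => Matrix.SpecialLinearGroup (Fin 2) F
local notation "P2" => Matrix.ProjectiveSpecialLinearGroup (Fin 2) F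
local notation "M2" => Matrix (Fin 2) (Fin 2) F

/-- The traces of the elements of small order. -/
theorem trace_of_pow {w : SL2} {n : ℕ} (h : PSL2.pr w ^ n = 1) :
    (IsSc w.1 ∧ (w.1.trace = 2 ∨ w.1.trace = -2)) ∨
      (¬ IsSc w.1 ∧ (n = 2 → w.1.trace = 0) ∧ (n = 3 → w.1.trace ^ 2 = 1) ∧
        (n = 4 → w.1.trace = 0 ∨ w.1.trace ^ 2 = 2) ∧
        (n = 5 → w.1.trace ^ 4 - 3 * w.1.trace ^ 2 + 1 = 0)) := by
  by_cases hs : IsSc w.1
  · refine Or.inl ⟨hs, ?_⟩
    rcases isSc_SL hs with e | e <;> rw [e] <;> simp <;> norm_num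
  refine Or.inr ⟨hs, ?_⟩
  rw [← map_pow, pr_eq_one_iff] at h
  obtain ⟨t, ht⟩ : ∃ t, t = w.1.trace := ⟨_, rfl⟩
  rw [← ht]
  have h2 : (w ^ 2).1 = t • w.1 + (-1 : F) • (1 : M2) := by
    rw [pow_two, val_mul', sq_eq, ← ht, neg_one_smul, sub_eq_add_neg]
  have step : ∀ k a b, (w ^ k).1 = a • w.1 + b • (1 : M2) → (w ^ (k + 1)).1 = (a * t + b) • w.1 + (-a) • (1 : M2) :=
    fun k a b hk => by
      rw [pow_succ, val_mul', hk, Matrix.add_mul, Matrix.smul_mul, Matrix.smul_mul, Matrix.one_mul, sq_eq, ← ht]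
      module
  have h3 := step 2 _ _ h2
  have h4 := step 3 _ _ h3
  have h5 := step 4 _ _ h4
  have key : ∀ a b : F, IsSc (a • w.1 + b • (1 : M2)) → a = 0 := fun a b ⟨c, hc⟩ => by
    by_contra ha
    refine hs ⟨a⁻¹ * (c - b), ?_⟩
    rw [mul_smul, sub_smul, ← hc, add_sub_cancel_right, smul_smul, inv_mul_cancel₀ ha, one_smul]
  refine ⟨?_, ?_, ?_, ?_⟩ <;> rintro rfl
  · exact key _ _ (h2 ▸ h)
  · have := key _ _ (h3 ▸ h)
    linear_combination this
  · have := key _ _ (h4 ▸ h)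
    rcases mul_eq_zero.mp (show t * (t ^ 2 - 2) = 0 by linear_combination this) with e | e
    · exact Or.inl e
    · exact Or.inr (sub_eq_zero.mp e)
  · have := key _ _ (h5 ▸ h)
    linear_combination this

/-- The subfield fixed by the `k`-th power of Frobenius. -/
def frobSub (F : Type*) [Field F] (p k : ℕ) [Fact p.Prime] [CharP F p] : Subfield F :=
  (iterateFrobenius F p k).eqLocusField (RingHom.id F)

theorem mem_frobSub {p k : ℕ} [Fact p.Prime] [CharP F p] {x : F} : x ∈ frobSub F p k ↔ x ^ (p ^ k) = x := by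
  show iterateFrobenius F p k x = x ↔ _
  rw [iterateFrobenius_def]

theorem frobSub_ne_top {p k : ℕ} [Fact p.Prime] [CharP F p] (hk : 1 ≤ k) (h : p ^ k < Fintype.card F) :
    frobSub F p k ≠ ⊤ := fun htop => by
  obtain ⟨u, hu⟩ := IsCyclic.exists_generator (α := Fˣ)
  have hord : orderOf u = Fintype.card F - 1 := by
    rw [orderOf_eq_card_of_forall_mem_zpowers hu, Nat.card_units, Nat.card_eq_fintype_card]
  have hp1 : 1 < p ^ k := Nat.one_lt_pow (by omega) (Fact.out (p := p.Prime)).one_lt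
  have h2 : u ^ (p ^ k - 1) * u = 1 * u := by
    rw [← pow_succ, Nat.sub_add_cancel hp1.le, one_mul]
    exact Units.ext (by rw [Units.val_pow_eq_pow_val]; exact mem_frobSub.mp (htop ▸ Subfield.mem_top _))
  have := Nat.le_of_dvd (by omega) (hord ▸ orderOf_dvd_of_pow_eq_one (mul_right_cancel h2))
  omega

/-- A pair in a polyhedral group normalised by it. -/
structure KleinData (X : Type*) [Group X] where
  x : X
  y : X
  hx : x * x = 1
  hy : y * y = 1
  hxy : x * y = y * x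
  hx1 : x ≠ 1
  hy1 : y ≠ 1
  hne : x ≠ y

theorem KleinData.isPair {X : Type*} [Group X] (d : KleinData X) {M : Subgroup P2} (f : M ≃* X) :
    IsPair (((f.symm d.x : M) : P2), ((f.symm d.y : M) : P2)) := by
  refine ⟨?_, ?_, ?_, fun h => d.hne (f.symm.injective (Subtype.ext h))⟩
  · rw [Subgroup.orderOf_coe, f.symm.orderOf_eq]
    exact orderOf_eq_prime (by rw [pow_two]; exact d.hx) d.hx1
  · rw [Subgroup.orderOf_coe, f.symm.orderOf_eq]
    exact orderOf_eq_prime (by rw [pow_two]; exact d.hy) d.hy1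
  · show ((f.symm d.x : M) : P2) * _ = _
    rw [← Subgroup.coe_mul, ← Subgroup.coe_mul, ← map_mul, ← map_mul, d.hxy]

/-- The Klein four-group of the data. -/
noncomputable def KleinData.grp {X : Type*} [Group X] (d : KleinData X) {M : Subgroup P2} (f : M ≃* X) : Subgroup P2 :=
  pairGroup (d.isPair f)

theorem KleinData.mem_normalizer {X : Type*} [Group X] (d : KleinData X) {M : Subgroup P2} (f : M ≃* X) (z : X)
    (h : ∀ v, v = d.x ∨ v = d.y ∨ v = d.x * d.y → (z * v * z⁻¹ = d.x ∨ z * v * z⁻¹ = d.y ∨ z * v * z⁻¹ = d.x * d.y)) :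
    ((f.symm z : M) : P2) ∈ Subgroup.normalizer (d.grp f : Set P2) := by
  have hk := SL2Four.pairGroup_isKleinFour (d.isPair f)
  have hmem : ∀ v : X, v = d.x ∨ v = d.y ∨ v = d.x * d.y → ((f.symm v : M) : P2) ∈ d.grp f := by
    rintro v (rfl | rfl | rfl)
    · exact Or.inr (Or.inl rfl)
    · exact Or.inr (Or.inr (Or.inl rfl))
    · refine Or.inr (Or.inr (Or.inr ?_))
      rw [map_mul, Subgroup.coe_mul]
      rfl
  rw [Subgroup.mem_normalizer_iff_map_conj_eq]
  have hle : (d.grp f).map (MulAut.conj ((f.symm z : M) : P2)).toMonoidHom ≤ d.grp f := by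
    rintro _ ⟨u, hu, rfl⟩
    have conjmem : ∀ v : X, v = d.x ∨ v = d.y ∨ v = d.x * d.y →
        ((f.symm z : M) : P2) * ((f.symm v : M) : P2) * ((f.symm z : M) : P2)⁻¹ ∈ d.grp f := fun v hv => by
      rw [← Subgroup.coe_inv, ← Subgroup.coe_mul, ← Subgroup.coe_mul, ← map_inv, ← map_mul, ← map_mul]
      exact hmem _ (h v hv)
    rw [MulEquiv.coe_toMonoidHom, MulAut.conj_apply]
    rcases hu with rfl | rfl | rfl | rfl
    · simp
    · exact conjmem _ (Or.inl rfl)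
    · exact conjmem _ (Or.inr (Or.inl rfl))
    · have := conjmem _ (Or.inr (Or.inr rfl))
      rw [map_mul f.symm, Subgroup.coe_mul] at this
      exact this
  refine Subgroup.eq_of_le_of_card_ge hle ?_
  rw [← Nat.card_congr ((d.grp f).equivMapOfInjective _ (MulAut.conj ((f.symm z : M) : P2)).injective).toEquiv]

/-- The order of the normaliser of a Klein four-group. -/
theorem card_normalizer_klein (h2 : (2 : F) ≠ 0) {x y : P2} (h : IsPair (x, y)) :
    (Nat.card (Subgroup.normalizer (pairGroup h : Set P2)) = 12 ∧ (Fintype.card F % 8 = 3 ∨ Fintype.card F % 8 = 5)) ∨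
      (Nat.card (Subgroup.normalizer (pairGroup h : Set P2)) = 24 ∧
        (Fintype.card F % 8 = 1 ∨ Fintype.card F % 8 = 7)) := by
  obtain ⟨A, rfl⟩ := PSL2.pr_surjective x
  obtain ⟨j, rfl⟩ := PSL2.pr_surjective y
  obtain ⟨hA, hj⟩ : A.1.trace = 0 ∧ SL2Four.Anti A j := (SL2Four.isPair_pr_iff h2 (A, j)).mp h
  have hV := SL2Four.pairGroup_isKleinFour h
  have hAV : PSL2.pr A ∈ pairGroup h := Or.inr (Or.inl rfl)
  have hjV : PSL2.pr j ∈ pairGroup h := Or.inr (Or.inr (Or.inl rfl))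
  set V := pairGroup h with hVdef
  set N := Subgroup.normalizer (V : Set P2) with hN
  have hle : V ≤ N := Subgroup.le_normalizer
  haveI := hV
  have hKN := SL2Four.klein_subgroupOf V hle
  have : (V.subgroupOf N).Normal := Subgroup.normal_in_normalizer
  have hC := SL2Four.centralizer_subgroupOf_le V hle (SL2Four.klein_self_centralizing h2 hV)
  have h24 := Classical.card_dvd_of_klein_normal (V.subgroupOf N) hC
  have h3 := SL2Four.three_dvd_normalizer h2 hA hj hV hAV hjV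
  have h4 : 4 ∣ Nat.card N := by
    rw [← (IsKleinFour.card_four : Nat.card V = 4)]
    exact Subgroup.card_dvd_of_le hle
  have h12 : 12 ∣ Nat.card N := Nat.Coprime.mul_dvd_of_dvd_of_dvd (by decide : Nat.Coprime 3 4) h3 h4
  have hodd := SL2Four.card_odd_of_two_ne_zero h2
  rcases (show (Fintype.card F % 8 = 3 ∨ Fintype.card F % 8 = 5) ∨
      (Fintype.card F % 8 = 1 ∨ Fintype.card F % 8 = 7) by omega) with h8 | h8
  · refine Or.inl ⟨?_, h8⟩
    have : Fact (Nat.Prime 2) := ⟨Nat.prime_two⟩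
    have hn8 : ¬ 8 ∣ Nat.card N := by
      intro h'
      obtain ⟨S⟩ : Nonempty (Sylow 2 P2) := inferInstance
      have hS := SL2Four.sylow_psl_klein h2 h8 S
      have h'' : 2 ^ 3 ∣ Nat.card (S : Subgroup P2) :=
        S.pow_dvd_card_of_pow_dvd_card (h'.trans (Subgroup.card_subgroup_dvd_card N))
      rw [IsKleinFour.card_four] at h''
      omega
    have hle' := Nat.le_of_dvd (by norm_num) h24
    obtain ⟨k, hk⟩ := h12
    have hpos := Nat.card_pos (α := N)
    have : k = 1 ∨ k = 2 := by omega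
    rcases this with rfl | rfl
    · exact hk
    · exact absurd (by rw [hk]; norm_num) hn8
  · refine Or.inr ⟨Nat.dvd_antisymm h24 ?_, h8⟩
    exact Nat.Coprime.mul_dvd_of_dvd_of_dvd (by decide : Nat.Coprime 3 8) h3
      (SL2Four.eight_dvd_normalizer h2 h8 hA hj hV hAV hjV)

/-- Any two Klein four-groups are conjugate under `GL₂`. -/
theorem klein_conj (h2 : (2 : F) ≠ 0) {x y x' y' : P2} (h : IsPair (x, y)) (h' : IsPair (x', y')) :
    ∃ g : GL (Fin 2) F, (Subgroup.normalizer (pairGroup h : Set P2)).map (PSL2.conjP g).toMonoidHom =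
      Subgroup.normalizer (pairGroup h' : Set P2) := by
  obtain ⟨A, rfl⟩ := PSL2.pr_surjective x
  obtain ⟨j, rfl⟩ := PSL2.pr_surjective y
  obtain ⟨A', rfl⟩ := PSL2.pr_surjective x'
  obtain ⟨j', rfl⟩ := PSL2.pr_surjective y'
  obtain ⟨hA, hj⟩ : A.1.trace = 0 ∧ SL2Four.Anti A j := (SL2Four.isPair_pr_iff h2 (A, j)).mp h
  obtain ⟨hA', hj'⟩ : A'.1.trace = 0 ∧ SL2Four.Anti A' j' := (SL2Four.isPair_pr_iff h2 (A', j')).mp h'
  obtain ⟨P, hP⟩ := isConj_iff.mp (SL2Four.isConj_of_trace_zero h2 hA hA')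
  have hanti : SL2Four.Anti A' (P * j * P⁻¹) := by
    show A'.1 * (P * j * P⁻¹).1 = -((P * j * P⁻¹).1 * A'.1)
    rw [← hP, ← val_mul', ← val_mul',
      show P * A * P⁻¹ * (P * j * P⁻¹) = P * (A * j) * P⁻¹ by group,
      show P * j * P⁻¹ * (P * A * P⁻¹) = P * (j * A) * P⁻¹ by group]
    simp only [Matrix.SpecialLinearGroup.coe_mul, show A.1 * j.1 = -(j.1 * A.1) from hj, Matrix.mul_neg, Matrix.neg_mul]
  obtain ⟨g, hgA, hgj⟩ := pairs_conj h2 hA' hanti hj'
  obtain ⟨e, he⟩ : ∃ e, e = PSL2.conjP (g * Matrix.SpecialLinearGroup.toGL P) := ⟨_, rfl⟩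
  refine ⟨g * Matrix.SpecialLinearGroup.toGL P, ?_⟩
  rw [← he]
  have hconj : ∀ x : SL2, e (PSL2.pr x) = PSL2.conjP g (PSL2.pr (P * x * P⁻¹)) := fun x => by
    rw [he, map_mul, MulAut.mul_apply, PSL2.conjP_toGL, MulAut.conj_apply, map_mul PSL2.pr, map_mul PSL2.pr, map_inv (PSL2.pr (F := F))]
  have eA : e (PSL2.pr A) = PSL2.pr A' := by rw [hconj, hP, hgA]
  have ej : e (PSL2.pr j) = PSL2.pr j' := by rw [hconj, hgj]
  haveI := SL2Four.pairGroup_isKleinFour h
  have hk : IsKleinFour ↥((pairGroup h).map e.toMonoidHom) :=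
    ⟨(Nat.card_congr ((pairGroup h).equivMapOfInjective _ e.injective).toEquiv).symm.trans IsKleinFour.card_four,
      (Monoid.exponent_eq_of_mulEquiv ((pairGroup h).equivMapOfInjective _ e.injective)).symm.trans IsKleinFour.exponent_two⟩
  have heq : (pairGroup h).map e.toMonoidHom = pairGroup h' :=
    SL2Four.eq_pairGroup (V := (pairGroup h).map e.toMonoidHom) h'
      ⟨_, Or.inr (Or.inl rfl), eA⟩ ⟨_, Or.inr (Or.inr (Or.inl rfl)), ej⟩
  rw [← heq]
  exact Subgroup.map_equiv_normalizer_eq _ e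

/-- If the normaliser of one Klein four-group is maximal, so are all. -/
theorem coatom_normalizer (h2 : (2 : F) ≠ 0) {x y x' y' : P2} (h : IsPair (x, y)) (h' : IsPair (x', y'))
    (hM : IsCoatom (Subgroup.normalizer (pairGroup h : Set P2))) :
    IsCoatom (Subgroup.normalizer (pairGroup h' : Set P2)) := by
  obtain ⟨g, hg⟩ := klein_conj h2 h h'
  rw [← hg]
  exact coatom_conj hM g

def dA4 : KleinData (alternatingGroup (Fin 4)) where
  x := ⟨Equiv.swap 0 1 * Equiv.swap 2 3, Equiv.Perm.mem_alternatingGroup.mpr (by decide)⟩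
  y := ⟨Equiv.swap 0 2 * Equiv.swap 1 3, Equiv.Perm.mem_alternatingGroup.mpr (by decide)⟩
  hx := by decide
  hy := by decide
  hxy := by decide
  hx1 := by decide
  hy1 := by decide
  hne := by decide

def dS4 : KleinData (Equiv.Perm (Fin 4)) where
  x := Equiv.swap 0 1 * Equiv.swap 2 3
  y := Equiv.swap 0 2 * Equiv.swap 1 3
  hx := by decide
  hy := by decide
  hxy := by decide
  hx1 := by decide
  hy1 := by decide
  hne := by decide

def dA5 : KleinData (alternatingGroup (Fin 5)) where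
  x := ⟨Equiv.swap 0 1 * Equiv.swap 2 3, Equiv.Perm.mem_alternatingGroup.mpr (by decide)⟩
  y := ⟨Equiv.swap 0 2 * Equiv.swap 1 3, Equiv.Perm.mem_alternatingGroup.mpr (by decide)⟩
  hx := by decide
  hy := by decide
  hxy := by decide
  hx1 := by decide
  hy1 := by decide
  hne := by decide

theorem dA4_normal : ∀ z : alternatingGroup (Fin 4), ∀ v, v = dA4.x ∨ v = dA4.y ∨ v = dA4.x * dA4.y →
    (z * v * z⁻¹ = dA4.x ∨ z * v * z⁻¹ = dA4.y ∨ z * v * z⁻¹ = dA4.x * dA4.y) := by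
  rintro z v (rfl | rfl | rfl) <;> revert z <;> decide +kernel

theorem dS4_normal : ∀ z : Equiv.Perm (Fin 4), ∀ v, v = dS4.x ∨ v = dS4.y ∨ v = dS4.x * dS4.y →
    (z * v * z⁻¹ = dS4.x ∨ z * v * z⁻¹ = dS4.y ∨ z * v * z⁻¹ = dS4.x * dS4.y) := by
  rintro z v (rfl | rfl | rfl) <;> revert z <;> decide +kernel

theorem dA5_three : ∀ v, v = dA5.x ∨ v = dA5.y ∨ v = dA5.x * dA5.y →
    ((⟨Equiv.swap 0 1 * Equiv.swap 1 2, Equiv.Perm.mem_alternatingGroup.mpr (by decide)⟩ : alternatingGroup (Fin 5)) * v *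
      (⟨Equiv.swap 0 1 * Equiv.swap 1 2, Equiv.Perm.mem_alternatingGroup.mpr (by decide)⟩ : alternatingGroup (Fin 5))⁻¹ = dA5.x ∨
    (⟨Equiv.swap 0 1 * Equiv.swap 1 2, Equiv.Perm.mem_alternatingGroup.mpr (by decide)⟩ : alternatingGroup (Fin 5)) * v *
      (⟨Equiv.swap 0 1 * Equiv.swap 1 2, Equiv.Perm.mem_alternatingGroup.mpr (by decide)⟩ : alternatingGroup (Fin 5))⁻¹ = dA5.y ∨
    (⟨Equiv.swap 0 1 * Equiv.swap 1 2, Equiv.Perm.mem_alternatingGroup.mpr (by decide)⟩ : alternatingGroup (Fin 5)) * v *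
      (⟨Equiv.swap 0 1 * Equiv.swap 1 2, Equiv.Perm.mem_alternatingGroup.mpr (by decide)⟩ : alternatingGroup (Fin 5))⁻¹ = dA5.x * dA5.y) := by
  rintro v (rfl | rfl | rfl) <;> decide +kernel

/-- A maximal subgroup of type `A₄` or `S₄` is the normaliser of its four-group. -/
theorem eq_normalizer (h2 : (2 : F) ≠ 0) (h5 : 5 ≤ Fintype.card F) {X : Type*} [Group X] (d : KleinData X)
    {M : Subgroup P2} (hM : IsCoatom M) (f : M ≃* X)
    (h : ∀ z v, v = d.x ∨ v = d.y ∨ v = d.x * d.y → (z * v * z⁻¹ = d.x ∨ z * v * z⁻¹ = d.y ∨ z * v * z⁻¹ = d.x * d.y)) :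
    Subgroup.normalizer (d.grp f : Set P2) = M := by
  have hle : M ≤ Subgroup.normalizer (d.grp f : Set P2) := fun z hz => by
    have := d.mem_normalizer f (f ⟨z, hz⟩) (h _)
    rwa [f.symm_apply_apply] at this
  refine (hM.le_iff.mp hle).resolve_left fun htop => ?_
  have hP := card_P2 (F := F)
  rw [two_dvd_pred h2] at hP
  have hb : 5 * 24 ≤ Fintype.card F * (Fintype.card F ^ 2 - 1) :=
    Nat.mul_le_mul h5 (Nat.le_sub_of_add_le (Nat.pow_le_pow_left h5 2))
  have hc := card_normalizer_klein h2 (d.isPair f)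
  rw [show Subgroup.normalizer (pairGroup (d.isPair f) : Set P2) = ⊤ from htop, Subgroup.card_top] at hc
  omega

/-- The descent of a polyhedral subgroup. -/
theorem descend (h2 : (2 : F) ≠ 0) {X : Type*} [Group X] (d : KleinData X) {M : Subgroup P2} (f : M ≃* X)
    (L : Subfield F) (σ : X →* ℤˣ) (hσx : σ d.x = 1) (hσy : σ d.y = 1)
    (h : ∀ w : SL2, ∀ hw : PSL2.pr w ∈ M, σ (f ⟨_, hw⟩) = 1 → w.1.trace ∈ L)
    (h' : ∃ c : F, ∀ w : SL2, ∀ hw : PSL2.pr w ∈ M, σ (f ⟨_, hw⟩) ≠ 1 → ∃ l ∈ L, w.1.trace = c * l) :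
    ∃ g : GL (Fin 2) F, M.map (PSL2.conjP g).toMonoidHom ≤ scaledP L := by
  obtain ⟨A, hA⟩ := PSL2.pr_surjective ((f.symm d.x : M) : P2)
  obtain ⟨j, hj⟩ := PSL2.pr_surjective ((f.symm d.y : M) : P2)
  have hp := d.isPair f
  rw [← hA, ← hj] at hp
  obtain ⟨hA0, hAj⟩ : A.1.trace = 0 ∧ SL2Four.Anti A j := (SL2Four.isPair_pr_iff h2 (A, j)).mp hp
  obtain ⟨c₀, hc₀⟩ := h'
  refine exists_conj_scaled h2 hA0 hAj L fun w hw => ?_
  have hwA : PSL2.pr (w * A) ∈ M := by rw [map_mul, hA]; exact mul_mem hw (f.symm d.x).2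
  have hwj : PSL2.pr (w * j) ∈ M := by rw [map_mul, hj]; exact mul_mem hw (f.symm d.y).2
  have hwAj : PSL2.pr (w * (A * j)) ∈ M := by
    rw [map_mul, map_mul, hA, hj]; exact mul_mem hw (mul_mem (f.symm d.x).2 (f.symm d.y).2)
  have eA : σ (f ⟨_, hwA⟩) = σ (f ⟨_, hw⟩) := by
    rw [show (⟨_, hwA⟩ : M) = ⟨_, hw⟩ * f.symm d.x from Subtype.ext (by rw [Subgroup.coe_mul, ← hA, ← map_mul]),
      map_mul, map_mul, f.apply_symm_apply, hσx, mul_one]
  have ej : σ (f ⟨_, hwj⟩) = σ (f ⟨_, hw⟩) := by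
    rw [show (⟨_, hwj⟩ : M) = ⟨_, hw⟩ * f.symm d.y from Subtype.ext (by rw [Subgroup.coe_mul, ← hj, ← map_mul]),
      map_mul, map_mul, f.apply_symm_apply, hσy, mul_one]
  have eAj : σ (f ⟨_, hwAj⟩) = σ (f ⟨_, hw⟩) := by
    rw [show (⟨_, hwAj⟩ : M) = ⟨_, hw⟩ * (f.symm d.x * f.symm d.y) from Subtype.ext (by
        rw [Subgroup.coe_mul, Subgroup.coe_mul, ← hA, ← hj, ← map_mul, ← map_mul]),
      map_mul, map_mul, map_mul, map_mul, f.apply_symm_apply, f.apply_symm_apply, hσx, hσy, mul_one, mul_one]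
  by_cases hs : σ (f ⟨_, hw⟩) = 1
  · refine ⟨1, fun x hx => ⟨x.1.trace, ?_, (one_mul _).symm⟩⟩
    rcases hx with rfl | rfl | rfl | rfl
    exacts [h _ hw hs, h _ hwA (eA.trans hs), h _ hwj (ej.trans hs), h _ hwAj (eAj.trans hs)]
  · refine ⟨c₀, fun x hx => ?_⟩
    rcases hx with rfl | rfl | rfl | rfl
    exacts [hc₀ _ hw hs, hc₀ _ hwA (by rw [eA]; exact hs), hc₀ _ hwj (by rw [ej]; exact hs),
      hc₀ _ hwAj (by rw [eAj]; exact hs)]

theorem a4_orders : ∀ x : alternatingGroup (Fin 4), x * x = 1 ∨ x * x * x = 1 := by decide +kernel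

theorem s4_orders : ∀ x : Equiv.Perm (Fin 4), (Equiv.Perm.sign x = 1 ∧ (x * x = 1 ∨ x * x * x = 1)) ∨
    (Equiv.Perm.sign x ≠ 1 ∧ (x * x = 1 ∨ x * x * x * x = 1) ∧ x ≠ 1) := by decide +kernel

theorem a5_orders : ∀ x : alternatingGroup (Fin 5), x * x = 1 ∨ x * x * x = 1 ∨ x * x * x * x * x = 1 := by decide +kernel

theorem pow_pr_of_iso {X : Type*} [Group X] {M : Subgroup P2} (f : M ≃* X) {w : SL2} (hw : PSL2.pr w ∈ M) {n : ℕ}
    (h : (f ⟨_, hw⟩) ^ n = 1) : PSL2.pr w ^ n = 1 := by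
  rw [← map_pow, map_eq_one_iff _ f.injective] at h
  exact congrArg Subtype.val h

theorem small_trace_mem (L : Subfield F) {t : F} (h : t = 2 ∨ t = -2 ∨ t = 0 ∨ t ^ 2 = 1) : t ∈ L := by
  rcases h with rfl | rfl | rfl | h
  · exact ofNat_mem L 2
  · exact L.neg_mem (ofNat_mem L 2)
  · exact L.zero_mem
  · rcases sq_eq_one_iff.mp h with rfl | rfl
    · exact L.one_mem
    · exact L.neg_mem L.one_mem

theorem trace_two_three (L : Subfield F) {w : SL2} (h : PSL2.pr w ^ 2 = 1 ∨ PSL2.pr w ^ 3 = 1) : w.1.trace ∈ L := by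
  refine small_trace_mem L ?_
  rcases h with h | h <;> rcases trace_of_pow h with ⟨-, e | e⟩ | ⟨-, a, b, -, -⟩
  exacts [Or.inl e, Or.inr (Or.inl e), Or.inr (Or.inr (Or.inl (a rfl))), Or.inl e, Or.inr (Or.inl e),
    Or.inr (Or.inr (Or.inr (b rfl)))]

theorem descend_a4 (h2 : (2 : F) ≠ 0) {M : Subgroup P2} (f : M ≃* alternatingGroup (Fin 4)) (L : Subfield F) :
    ∃ g : GL (Fin 2) F, M.map (PSL2.conjP g).toMonoidHom ≤ scaledP L :=
  descend h2 dA4 f L 1 rfl rfl (fun w hw _ => trace_two_three L (by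
      rcases a4_orders (f ⟨_, hw⟩) with h | h
      · exact Or.inl (pow_pr_of_iso f hw (by rw [pow_two]; exact h))
      · exact Or.inr (pow_pr_of_iso f hw (by rw [pow_succ, pow_two]; exact h))))
    ⟨1, fun w hw h => absurd rfl h⟩

theorem descend_s4 (h2 : (2 : F) ≠ 0) {M : Subgroup P2} (f : M ≃* Equiv.Perm (Fin 4)) (L : Subfield F) :
    ∃ g : GL (Fin 2) F, M.map (PSL2.conjP g).toMonoidHom ≤ scaledP L := by
  classical
  obtain ⟨c, hc⟩ : ∃ c : F, ∀ t : F, t ^ 2 = 2 → t = c ∨ t = -c := by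
    by_cases he : ∃ s : F, s ^ 2 = 2
    · obtain ⟨s, hs⟩ := he
      exact ⟨s, fun t ht => sq_eq_sq_iff_eq_or_eq_neg.mp (ht.trans hs.symm)⟩
    · exact ⟨0, fun t ht => absurd ⟨t, ht⟩ he⟩
  refine descend h2 dS4 f L Equiv.Perm.sign (by decide) (by decide) (fun w hw hs => trace_two_three L ?_) ⟨c, fun w hw hs => ?_⟩
  · rcases s4_orders (f ⟨_, hw⟩) with ⟨-, h | h⟩ | ⟨hs', -⟩
    · exact Or.inl (pow_pr_of_iso f hw (by rw [pow_two]; exact h))
    · exact Or.inr (pow_pr_of_iso f hw (by rw [pow_succ, pow_two]; exact h))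
    · exact absurd hs hs'
  · rcases s4_orders (f ⟨_, hw⟩) with ⟨hs', -⟩ | ⟨-, h, h1⟩
    · exact absurd hs' hs
    have hns : ¬ IsSc w.1 := fun hsc => h1 (by
      rw [map_eq_one_iff _ f.injective]
      exact Subtype.ext (pr_eq_one_iff.mpr hsc))
    rcases h with h | h
    · rcases trace_of_pow (pow_pr_of_iso f hw (n := 2) (by rw [pow_two]; exact h)) with ⟨hsc, -⟩ | ⟨-, a, -⟩
      · exact absurd hsc hns
      · exact ⟨0, L.zero_mem, by rw [a rfl, mul_zero]⟩
    · rcases trace_of_pow (pow_pr_of_iso f hw (n := 4) (by rw [pow_succ, pow_succ, pow_two]; exact h)) with ⟨hsc, -⟩ | ⟨-, -, -, a, -⟩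
      · exact absurd hsc hns
      · rcases a rfl with e | e
        · exact ⟨0, L.zero_mem, by rw [e, mul_zero]⟩
        · rcases hc _ e with e | e
          · exact ⟨1, L.one_mem, by rw [e, mul_one]⟩
          · exact ⟨-1, L.neg_mem L.one_mem, by rw [e]; ring⟩

theorem descend_a5 (h2 : (2 : F) ≠ 0) {M : Subgroup P2} (f : M ≃* alternatingGroup (Fin 5)) (L : Subfield F)
    (hL : ∀ t : F, t ^ 4 - 3 * t ^ 2 + 1 = 0 → t ∈ L) :
    ∃ g : GL (Fin 2) F, M.map (PSL2.conjP g).toMonoidHom ≤ scaledP L :=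
  descend h2 dA5 f L 1 rfl rfl (fun w hw _ => by
      rcases a5_orders (f ⟨_, hw⟩) with h | h | h
      · exact trace_two_three L (Or.inl (pow_pr_of_iso f hw (by rw [pow_two]; exact h)))
      · exact trace_two_three L (Or.inr (pow_pr_of_iso f hw (by rw [pow_succ, pow_two]; exact h)))
      · rcases trace_of_pow (pow_pr_of_iso f hw (n := 5) (by rw [pow_succ, pow_succ, pow_succ, pow_two]; exact h)) with
          ⟨-, e | e⟩ | ⟨-, -, -, -, a⟩
        · exact small_trace_mem L (Or.inl e)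
        · exact small_trace_mem L (Or.inr (Or.inl e))
        · exact hL _ (a rfl))
    ⟨1, fun w hw h => absurd rfl h⟩

end Cfsg.Agent.Classical.Dickson
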