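import Cfsg.Agent.Lib.Classical.Dickson.PGLTorus
import Cfsg.Agent.Lib.Classical.Dickson.Polyhedral

/-!
# Maximal subgroups of `PGL₂` not containing `PSL₂`: tools
-/

set_option autoImplicit false
set_option linter.unusedSectionVars false

namespace Cfsg.Agent.Classical.Dickson

open Cfsg.Agent.Small Cfsg.Agent.Small.SL2C

universe u

variable {F : Type u} [Field F] [Fintype F]

local notation "SL2" => Matrix.SpecialLinearGroup (Fin 2) F
local notation "P2" => Matrix.ProjectiveSpecialLinearGroup (Fin 2) F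
local notation "G2" => Matrix.ProjGenLinGroup (Fin 2) F
local notation "M2" => Matrix (Fin 2) (Fin 2) F
local notation "mk2" => (Matrix.ProjGenLinGroup.mk : GL (Fin 2) F →* Matrix.ProjGenLinGroup (Fin 2) F)
local notation "τ" => (Matrix.ProjectiveSpecialLinearGroup.toPGL :
  Matrix.ProjectiveSpecialLinearGroup (Fin 2) F →* Matrix.ProjGenLinGroup (Fin 2) F)

theorem toPGL_pr (A : SL2) : τ (PSL2.pr A) = mk2 (Matrix.SpecialLinearGroup.toGL A) := rfl

theorem toPGL_conjP (h : GL (Fin 2) F) (y : P2) : τ (PSL2.conjP h y) = mk2 h * τ y * (mk2 h)⁻¹ := by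
  obtain ⟨A, rfl⟩ := PSL2.pr_surjective y
  rw [PSL2.conjP_apply, toPGL_pr, toPGL_pr, ← map_inv mk2, ← map_mul mk2, ← map_mul mk2]
  exact congrArg mk2 (Units.ext rfl)

theorem conjP_scalar (u : Fˣ) (y : P2) : PSL2.conjP (Matrix.GeneralLinearGroup.scalar (Fin 2) u) y = y := by
  obtain ⟨A, rfl⟩ := PSL2.pr_surjective y
  rw [PSL2.conjP_apply]
  exact congrArg PSL2.pr (scalar_mem_torC A u)

theorem range_eq : (MonoidHom.comp mk2 Matrix.SpecialLinearGroup.toGL).range = (τ).range := by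
  ext x
  constructor
  · rintro ⟨A, rfl⟩; exact ⟨PSL2.pr A, rfl⟩
  · rintro ⟨y, rfl⟩
    obtain ⟨A, rfl⟩ := PSL2.pr_surjective y
    exact ⟨A, rfl⟩

theorem range_normal : (τ).range.Normal := ⟨by
  rintro _ ⟨y, rfl⟩ x
  obtain ⟨h, rfl⟩ := Matrix.ProjGenLinGroup.mk_surjective x
  exact ⟨PSL2.conjP h y, toPGL_conjP h y⟩⟩

theorem range_index (h2 : (2 : F) ≠ 0) : (τ).range.index = 2 := by
  have h := (τ).range.card_mul_index
  have hP := card_P2 (F := F)
  rw [two_dvd_pred h2] at hP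
  rw [← Nat.card_congr (MonoidHom.ofInjective Matrix.ProjectiveSpecialLinearGroup.toPGL_injective).toEquiv,
    card_pgl, ← hP] at h
  exact Nat.eq_of_mul_eq_mul_left Nat.card_pos h

/-- A maximal subgroup not containing `PSL₂` is twice as large as its intersection. -/
theorem card_coatom (h2 : (2 : F) ≠ 0) {M : Subgroup G2} (hM : IsCoatom M) (hL : ¬ (τ).range ≤ M) :
    Nat.card M = 2 * Nat.card (M.comap τ) := by
  haveI := finite_pgl F
  haveI : (τ).range.Normal := range_normal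
  have hd : (τ).range.relIndex M ∣ (τ).range.index := Subgroup.relIndex_dvd_index_of_normal _ _
  rw [range_index h2] at hd
  have hne : (τ).range.relIndex M ≠ 1 := fun h => by
    rw [Subgroup.relIndex_eq_one] at h
    have htop : (τ).range ≠ ⊤ := fun e => by
      have := range_index (F := F) h2
      rw [e, Subgroup.index_top] at this; omega
    exact hL ((hM.le_iff.mp h).resolve_left htop).le
  have h2' := ((Nat.dvd_prime Nat.prime_two).mp hd).resolve_left hne
  have h := ((τ).range.subgroupOf M).card_mul_index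
  rw [show ((τ).range.subgroupOf M).index = 2 from h2'] at h
  rw [← h, mul_comm]
  congr 1
  rw [← Subgroup.inf_subgroupOf_right, Nat.card_congr (Subgroup.subgroupOfEquivOfLe (inf_le_right : (τ).range ⊓ M ≤ M)).toEquiv,
    ← Subgroup.map_comap_eq]
  exact (Nat.card_congr ((M.comap τ).equivMapOfInjective _ Matrix.ProjectiveSpecialLinearGroup.toPGL_injective).toEquiv).symm

theorem comap_ne_top {M : Subgroup G2} (hL : ¬ (τ).range ≤ M) : M.comap τ ≠ ⊤ := fun h => hL (by
  rintro _ ⟨y, rfl⟩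
  exact Subgroup.mem_comap.mp (h ▸ Subgroup.mem_top y))

/-- Elements of `M` normalise its part in `PSL₂`. -/
theorem map_comap_eq_self {M : Subgroup G2} {h : GL (Fin 2) F} (hh : mk2 h ∈ M) :
    (M.comap τ).map (PSL2.conjP h).toMonoidHom = M.comap τ := by
  refine Subgroup.eq_of_le_of_card_ge ?_ ?_
  · rintro _ ⟨y, hy, rfl⟩
    show τ (PSL2.conjP h y) ∈ M
    rw [toPGL_conjP]
    exact mul_mem (mul_mem hh hy) (inv_mem hh)
  · rw [card_map_conj]

/-- A maximal subgroup stabilising a proper non-trivial subgroup of `PSL₂` is the full stabiliser. -/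
theorem mem_of_stab [IsSimpleGroup P2] {M : Subgroup G2} (hM : IsCoatom M) {W : Subgroup P2} (hb : W ≠ ⊥) (ht : W ≠ ⊤)
    (hW : ∀ h, mk2 h ∈ M → W.map (PSL2.conjP h).toMonoidHom = W) {h : GL (Fin 2) F}
    (hh : W.map (PSL2.conjP h).toMonoidHom = W) : mk2 h ∈ M := by
  let S : Subgroup (GL (Fin 2) F) :=
    { carrier := {h | W.map (PSL2.conjP h).toMonoidHom = W}
      mul_mem' := fun {a b} ha hb => by
        show W.map (PSL2.conjP (a * b)).toMonoidHom = W
        rw [map_mul]
        show W.map ((PSL2.conjP a).toMonoidHom.comp (PSL2.conjP b).toMonoidHom) = W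
        rw [← Subgroup.map_map, show W.map (PSL2.conjP b).toMonoidHom = W from hb]
        exact ha
      one_mem' := by show W.map (PSL2.conjP 1).toMonoidHom = W; rw [map_one]; exact Subgroup.map_id W
      inv_mem' := fun {a} ha => by
        show W.map (PSL2.conjP a⁻¹).toMonoidHom = W
        conv_lhs => rw [← show W.map (PSL2.conjP a).toMonoidHom = W from ha]
        rw [Subgroup.map_map, map_inv]
        convert Subgroup.map_id W using 2
        ext y; exact (PSL2.conjP a).symm_apply_apply y }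
  have hle : M ≤ S.map mk2 := fun x hx => by
    obtain ⟨a, rfl⟩ := Matrix.ProjGenLinGroup.mk_surjective x
    exact ⟨a, hW a hx, rfl⟩
  have hne : S.map mk2 ≠ ⊤ := fun htop => by
    have hn : W.Normal := ⟨fun y hy z => by
      obtain ⟨A, rfl⟩ := PSL2.pr_surjective z
      obtain ⟨a, ha, he⟩ := htop ▸ Subgroup.mem_top (mk2 (Matrix.SpecialLinearGroup.toGL A))
      obtain ⟨u, hu⟩ := Matrix.ProjGenLinGroup.mk_eq_mk_iff.mp he
      have : W.map (PSL2.conjP (Matrix.SpecialLinearGroup.toGL A)).toMonoidHom = W := by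
        rw [← hu]
        exact S.mul_mem ha (show W.map _ = W by
          convert Subgroup.map_id W using 2
          ext y; exact conjP_scalar u y)
      rw [← this]
      exact ⟨y, hy, by rw [PSL2.conjP_toGL]; rfl⟩⟩
    rcases hn.eq_bot_or_eq_top with e | e
    exacts [hb e, ht e]
  have heq := (hM.le_iff.mp hle).resolve_left hne
  rw [← heq]
  exact ⟨h, hh, rfl⟩

theorem comap_map_conj (M : Subgroup G2) (g : GL (Fin 2) F) :
    (M.map (MulAut.conj (mk2 g)).toMonoidHom).comap τ = (M.comap τ).map (PSL2.conjP g).toMonoidHom := by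
  ext y
  constructor
  · rintro ⟨x, hx, he⟩
    refine ⟨(PSL2.conjP g).symm y, ?_, (PSL2.conjP g).apply_symm_apply y⟩
    show τ ((PSL2.conjP g).symm y) ∈ M
    have := toPGL_conjP g ((PSL2.conjP g).symm y)
    rw [MulEquiv.apply_symm_apply, ← he] at this
    rw [← (MulAut.conj (mk2 g)).injective this]
    exact hx
  · rintro ⟨z, hz, rfl⟩
    exact ⟨τ z, hz, (toPGL_conjP g z).symm⟩

theorem coatom_map_conj {M : Subgroup G2} (hM : IsCoatom M) (x : G2) :
    IsCoatom (M.map (MulAut.conj x).toMonoidHom) :=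
  ((MulAut.conj x).mapSubgroup.isCoatom_iff M).mpr hM

theorem range_map_conj {M : Subgroup G2} (hL : ¬ (τ).range ≤ M) (x : G2) :
    ¬ (τ).range ≤ M.map (MulAut.conj x).toMonoidHom := fun h => hL fun y hy => by
  obtain ⟨z, hz, he⟩ := h ((range_normal (F := F)).conj_mem y hy x)
  rwa [← (MulAut.conj x).injective he]

/-- A conjugate of a semisimple element in its torus comes from the torus normaliser. -/
theorem mem_torN (h2 : (2 : F) ≠ 0) {g : SL2} (ht : g.1.trace * g.1.trace ≠ 4) {h : GL (Fin 2) F}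
    (hh : PSL2.conjSL h g ∈ tor g) : h ∈ torN g := by
  obtain ⟨x, y, he, hd⟩ := exists_of_mem_tor (not_isSc_of_trace ht) hh
  have htr : (PSL2.conjSL h g).1.trace = g.1.trace := by rw [PSL2.conjSL_val, Matrix.trace_units_conj]
  rw [he, comb_trace] at htr
  have hy : (y * y - 1) * (4 - g.1.trace * g.1.trace) = 0 := by
    linear_combination 4 * hd - (2 * x + y * g.1.trace + g.1.trace) * htr
  rcases mul_self_eq_one_iff.mp (sub_eq_zero.mp ((mul_eq_zero.mp hy).resolve_right (sub_ne_zero.mpr (Ne.symm ht)))) with rfl | rfl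
  · have hx : x = 0 := (mul_eq_zero.mp (show (2 : F) * x = 0 by linear_combination htr)).resolve_left h2
    exact Or.inl (Subtype.ext (by rw [he, hx, comb, zero_smul, zero_add, one_smul]))
  · have hx : x = g.1.trace := mul_left_cancel₀ h2 (by linear_combination htr)
    exact Or.inr (Subtype.ext (by rw [he, hx, inv_val, comb, neg_one_smul, sub_eq_add_neg]))

theorem entries_of_trace_two (h2 : (2 : F) ≠ 0) {K : Subfield F} {y : SL2} (hy : y ∈ scaled K)
    (ht : y.1.trace = 2) (i j : Fin 2) : y.1 i j ∈ K := by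
  obtain ⟨c, N, he⟩ := hy
  rw [he, Matrix.trace_smul, Matrix.trace_fin_two] at ht
  have ht' : c * ((N 0 0 : F) + (N 1 1 : F)) = 2 := ht
  have hne : (N 0 0 : F) + (N 1 1 : F) ≠ 0 := fun e => h2 (by rw [← ht', e, mul_zero])
  rw [he]
  show c * (N i j : F) ∈ K
  rw [show c = 2 / ((N 0 0 : F) + (N 1 1 : F)) by rw [eq_div_iff hne]; exact ht']
  exact K.mul_mem (K.div_mem (ofNat_mem K 2) (K.add_mem (N 0 0).2 (N 1 1).2)) (N i j).2

/-- A matrix carrying the two transvections over `K` is over `K` up to a scalar. -/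
theorem over_of_conj (h2 : (2 : F) ≠ 0) {K : Subfield F} {h : GL (Fin 2) F}
    (hu : ∀ i j, (PSL2.conjSL h (PSL2.uS (1 : F))).1 i j ∈ K) (hv : ∀ i j, (PSL2.conjSL h (PSL2.vS (1 : F))).1 i j ∈ K) :
    mk2 h ∈ (pglMap K).range := by
  obtain ⟨a, b, c, d, ha, hb, hc, hd⟩ : ∃ a b c d, a = h.val 0 0 ∧ b = h.val 0 1 ∧ c = h.val 1 0 ∧ d = h.val 1 1 :=
    ⟨_, _, _, _, rfl, rfl, rfl, rfl⟩
  obtain ⟨δ, hδ⟩ : ∃ δ, δ = a * d - b * c := ⟨_, rfl⟩
  have hdet : h.val.det = δ := by rw [Matrix.det_fin_two, hδ, ha, hb, hc, hd]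
  have hδ0 : δ ≠ 0 := fun e => ((Matrix.isUnit_iff_isUnit_det _).mp h.isUnit).ne_zero (hdet.trans e)
  have hinv : (h⁻¹).val = δ⁻¹ • !![d, -b; -c, a] := by
    rw [Matrix.coe_units_inv, Matrix.inv_def, hdet, Ring.inverse_eq_inv', Matrix.adjugate_fin_two, ha, hb, hc, hd]
  have u00 : 1 - a * c / δ ∈ K := by
    have := hu 0 0
    rw [PSL2.conjSL_val, hinv] at this
    convert this using 1
    simp [show (PSL2.uS (1 : F)).1 = !![1, 1; 0, 1] from rfl, Matrix.mul_apply, Fin.sum_univ_two, ← ha, ← hb, ← hc, ← hd]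
    field_simp; rw [hδ]; ring
  have u01 : a * a / δ ∈ K := by
    have := hu 0 1
    rw [PSL2.conjSL_val, hinv] at this
    convert this using 1
    simp [show (PSL2.uS (1 : F)).1 = !![1, 1; 0, 1] from rfl, Matrix.mul_apply, Fin.sum_univ_two, ← ha, ← hb, ← hc, ← hd]
    field_simp; ring
  have u10 : -(c * c / δ) ∈ K := by
    have := hu 1 0
    rw [PSL2.conjSL_val, hinv] at this
    convert this using 1
    simp [show (PSL2.uS (1 : F)).1 = !![1, 1; 0, 1] from rfl, Matrix.mul_apply, Fin.sum_univ_two, ← ha, ← hb, ← hc, ← hd]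
    field_simp; ring
  have v00 : 1 + b * d / δ ∈ K := by
    have := hv 0 0
    rw [PSL2.conjSL_val, hinv] at this
    convert this using 1
    simp [show (PSL2.vS (1 : F)).1 = !![1, 0; 1, 1] from rfl, Matrix.mul_apply, Fin.sum_univ_two, ← ha, ← hb, ← hc, ← hd]
    field_simp; rw [hδ]; ring
  have v01 : -(b * b / δ) ∈ K := by
    have := hv 0 1
    rw [PSL2.conjSL_val, hinv] at this
    convert this using 1
    simp [show (PSL2.vS (1 : F)).1 = !![1, 0; 1, 1] from rfl, Matrix.mul_apply, Fin.sum_univ_two, ← ha, ← hb, ← hc, ← hd]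
    field_simp; ring
  have v10 : d * d / δ ∈ K := by
    have := hv 1 0
    rw [PSL2.conjSL_val, hinv] at this
    convert this using 1
    simp [show (PSL2.vS (1 : F)).1 = !![1, 0; 1, 1] from rfl, Matrix.mul_apply, Fin.sum_univ_two, ← ha, ← hb, ← hc, ← hd]
    field_simp; ring
  have hac : a * c / δ ∈ K := by simpa using K.sub_mem K.one_mem u00
  have hcc : c * c / δ ∈ K := by simpa using K.neg_mem u10
  have hbd : b * d / δ ∈ K := by simpa using K.sub_mem v00 K.one_mem
  have hbb : b * b / δ ∈ K := by simpa using K.neg_mem v01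
  suffices H : ∃ k : F, k ≠ 0 ∧ k * a ∈ K ∧ k * b ∈ K ∧ k * c ∈ K ∧ k * d ∈ K by
    obtain ⟨k, hk, k1, k2, k3, k4⟩ := H
    let N : Matrix (Fin 2) (Fin 2) K := !![⟨k * a, k1⟩, ⟨k * b, k2⟩; ⟨k * c, k3⟩, ⟨k * d, k4⟩]
    have hN : N.det ≠ 0 := fun e => by
      have e' := congrArg (fun x : K => (x : F)) e
      simp [N, Matrix.det_fin_two] at e'
      exact hδ0 ((mul_eq_zero.mp (show (k * k) * δ = 0 by rw [hδ]; linear_combination e')).resolve_left (mul_ne_zero hk hk))
    refine ⟨Matrix.ProjGenLinGroup.mk (Matrix.GeneralLinearGroup.mkOfDetNeZero N hN), ?_⟩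
    show pglMap K (Matrix.ProjGenLinGroup.mk (Matrix.GeneralLinearGroup.mkOfDetNeZero N hN)) = _
    rw [pglMap, Matrix.ProjGenLinGroup.map_mk, eq_comm, Matrix.ProjGenLinGroup.mk_eq_mk_iff]
    refine ⟨Units.mk0 k hk, Units.ext ?_⟩
    ext i j
    fin_cases i <;> fin_cases j <;> simp [N, Matrix.mul_apply, Fin.sum_univ_two, Matrix.diagonal, ← ha, ← hb, ← hc, ← hd] <;>
      ring
  by_cases ha0 : a = 0
  · have hbc : b * c = -δ := by rw [hδ, ha0]; ring
    have hb0 : b ≠ 0 := fun e => hδ0 (by rw [hδ, ha0, e]; ring)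
    have hc0 : c ≠ 0 := fun e => hδ0 (by rw [hδ, ha0, e]; ring)
    refine ⟨c / δ, div_ne_zero hc0 hδ0, by rw [ha0, mul_zero]; exact K.zero_mem, ?_, ?_, ?_⟩
    · rw [show c / δ * b = -1 by field_simp; linear_combination hbc]; exact K.neg_mem K.one_mem
    · rwa [div_mul_eq_mul_div]
    · rw [show c / δ * d = -(b * d / δ) / (b * b / δ) by field_simp; linear_combination d * hbc]
      exact K.div_mem (K.neg_mem hbd) hbb
  · have hX : a * d / δ ∈ K := by
      have h1 : (a * d / δ) * (a * d / δ) ∈ K := by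
        rw [show (a * d / δ) * (a * d / δ) = (a * a / δ) * (d * d / δ) by ring]; exact K.mul_mem u01 v10
      have h3 : (a * d / δ - 1) * (a * d / δ - 1) ∈ K := by
        rw [show (a * d / δ - 1) * (a * d / δ - 1) = (b * b / δ) * (c * c / δ) by field_simp; rw [hδ]; ring]
        exact K.mul_mem hbb hcc
      have h4 := K.div_mem (K.add_mem (K.sub_mem h1 h3) K.one_mem) (ofNat_mem K 2)
      convert h4 using 1
      field_simp; ring
    refine ⟨a / δ, div_ne_zero ha0 hδ0, by rwa [div_mul_eq_mul_div], ?_, by rwa [div_mul_eq_mul_div], by rwa [div_mul_eq_mul_div]⟩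
    by_cases hd0 : d = 0
    · have hc0 : c ≠ 0 := fun e => hδ0 (by rw [hδ, hd0, e]; ring)
      rw [show a / δ * b = -(a * c / δ) / (c * c / δ) by field_simp; rw [hδ, hd0]; ring]
      exact K.div_mem (K.neg_mem hac) hcc
    · rw [show a / δ * b = (a * d / δ) * (b * d / δ) / (d * d / δ) by field_simp]
      exact K.div_mem (K.mul_mem hX hbd) v10

/-- Conjugation preserving a quaternion pair over `K` preserves matrices over `K`. -/
theorem span_conj (h2 : (2 : F) ≠ 0) {K : Subfield F} {A j : SL2} (hA : A.1.trace = 0) (hj : SL2Four.Anti A j)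
    (eA : ∀ i k, A.1 i k ∈ K) (ej : ∀ i k, j.1 i k ∈ K) {h : GL (Fin 2) F}
    (fA : ∀ i k, (PSL2.conjSL h A).1 i k ∈ K) (fj : ∀ i k, (PSL2.conjSL h j).1 i k ∈ K)
    {X : SL2} (hX : ∀ i k, X.1 i k ∈ K) : ∀ i k, (PSL2.conjSL h X).1 i k ∈ K := by
  have hj0 := SL2Four.trace_of_anti h2 hA hj
  have hAj0 : (A.1 * j.1).trace = 0 := by
    have h' : (A.1 * j.1).trace = -((A.1 * j.1).trace) := by
      nth_rewrite 1 [show A.1 * j.1 = -(j.1 * A.1) from hj]
      rw [Matrix.trace_neg, Matrix.trace_mul_comm]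
    exact (mul_eq_zero.mp (show (2 : F) * (A.1 * j.1).trace = 0 by linear_combination h')).resolve_left h2
  have anti : ∀ Y B : M2, Y.trace = 0 → B.trace = 0 → (Y * B).trace = 0 → Y * B = -(B * Y) := fun Y B hY hB hYB => by
    rw [Matrix.trace_fin_two] at hY hB hYB
    simp [Matrix.mul_apply, Fin.sum_univ_two] at hYB
    ext i k
    fin_cases i <;> fin_cases k <;> simp [Matrix.mul_apply, Fin.sum_univ_two]
    · linear_combination hYB + B 0 0 * hY - Y 1 1 * hB
    · linear_combination B 0 1 * hY + Y 0 1 * hB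
    · linear_combination B 1 0 * hY + Y 1 0 * hB
    · linear_combination hYB + B 1 1 * hY - Y 0 0 * hB
  have hrep : X.1 = (2 : F)⁻¹ • (X.1.trace • (1 : M2) - (X.1 * A.1).trace • A.1 - (X.1 * j.1).trace • j.1 -
      (X.1 * (A.1 * j.1)).trace • (A.1 * j.1)) := by
    have sA := SL2Four.sq_of_trace_zero hA
    have sj := SL2Four.sq_of_trace_zero hj0
    have hjA : j.1 * A.1 = -(A.1 * j.1) := by rw [show A.1 * j.1 = -(j.1 * A.1) from hj, neg_neg]
    obtain ⟨Y, hY⟩ : ∃ Y, Y = (2 : F) • X.1 - (X.1.trace • (1 : M2) - (X.1 * A.1).trace • A.1 - (X.1 * j.1).trace • j.1 -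
      (X.1 * (A.1 * j.1)).trace • (A.1 * j.1)) := ⟨_, rfl⟩
    have sAj : A.1 * j.1 * (A.1 * j.1) = -1 := by
      rw [Matrix.mul_assoc, ← Matrix.mul_assoc j.1, hjA, Matrix.neg_mul, Matrix.mul_assoc, sj, Matrix.mul_neg, Matrix.mul_neg,
        Matrix.mul_neg, Matrix.mul_one, neg_neg, sA]
    have e1 : Y.trace = 0 := by
      rw [hY]; simp [hA, hj0, hAj0, Matrix.trace_sub, Matrix.trace_smul]; ring
    have pAAj : A.1 * (A.1 * j.1) = -j.1 := by rw [← Matrix.mul_assoc, sA, Matrix.neg_mul, Matrix.one_mul]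
    have pAjA : A.1 * j.1 * A.1 = j.1 := by rw [Matrix.mul_assoc, hjA, Matrix.mul_neg, pAAj, neg_neg]
    have pAjj : A.1 * j.1 * j.1 = -A.1 := by rw [Matrix.mul_assoc, sj, Matrix.mul_neg, Matrix.mul_one]
    have pjAj : j.1 * (A.1 * j.1) = A.1 := by rw [← Matrix.mul_assoc, hjA, Matrix.neg_mul, pAjj, neg_neg]
    have e2 : (Y * A.1).trace = 0 := by
      rw [hY]
      simp only [Matrix.sub_mul, Matrix.smul_mul, Matrix.one_mul, sA, hjA, pAjA]
      simp [Matrix.trace_sub, hA, hj0, hAj0]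
      ring
    have e3 : (Y * j.1).trace = 0 := by
      rw [hY]
      simp only [Matrix.sub_mul, Matrix.smul_mul, Matrix.one_mul, sj, pAjj]
      simp [Matrix.trace_sub, hA, hj0, hAj0]
      ring
    have e4 : (Y * (A.1 * j.1)).trace = 0 := by
      rw [hY]
      simp only [Matrix.sub_mul, Matrix.smul_mul, Matrix.one_mul, pAAj, pjAj, sAj]
      simp [Matrix.trace_sub, hA, hj0, hAj0]
      ring
    have a1 := anti Y A.1 e1 hA e2
    have a2 := anti Y j.1 e1 hj0 e3
    have a3 := anti Y (A.1 * j.1) e1 hAj0 e4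
    have a4 : Y * (A.1 * j.1) = A.1 * j.1 * Y := by
      rw [← Matrix.mul_assoc, a1, Matrix.neg_mul, Matrix.mul_assoc, a2, Matrix.mul_neg, neg_neg, Matrix.mul_assoc]
    have a5 : (2 : F) • (Y * (A.1 * j.1)) = 0 := by
      rw [two_smul]; nth_rewrite 2 [a3]; rw [← a4, add_neg_cancel]
    have a6 : Y = 0 := by
      have h' := congrArg (· * (A.1 * j.1)) ((smul_eq_zero.mp a5).resolve_left h2)
      simp only [Matrix.zero_mul, Matrix.mul_assoc Y, sAj, Matrix.mul_neg, Matrix.mul_one] at h'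
      exact neg_eq_zero.mp h'
    rw [hY, sub_eq_zero] at a6
    rw [← a6, smul_smul, inv_mul_cancel₀ h2, one_smul]
  have htrK : ∀ B : M2, (∀ i k, B i k ∈ K) → (X.1 * B).trace ∈ K := fun B hB => by
    rw [Matrix.trace_fin_two, Matrix.mul_apply, Matrix.mul_apply, Fin.sum_univ_two, Fin.sum_univ_two]
    exact K.add_mem (K.add_mem (K.mul_mem (hX 0 0) (hB 0 0)) (K.mul_mem (hX 0 1) (hB 1 0)))
      (K.add_mem (K.mul_mem (hX 1 0) (hB 0 1)) (K.mul_mem (hX 1 1) (hB 1 1)))
  have hAjK : ∀ i k, (A.1 * j.1) i k ∈ K := fun i k => by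
    rw [Matrix.mul_apply, Fin.sum_univ_two]
    exact K.add_mem (K.mul_mem (eA i 0) (ej 0 k)) (K.mul_mem (eA i 1) (ej 1 k))
  have fAj : ∀ i k, ((PSL2.conjSL h A).1 * (PSL2.conjSL h j).1) i k ∈ K := fun i k => by
    rw [Matrix.mul_apply, Fin.sum_univ_two]
    exact K.add_mem (K.mul_mem (fA i 0) (fj 0 k)) (K.mul_mem (fA i 1) (fj 1 k))
  intro i k
  have hconj : (PSL2.conjSL h X).1 = (2 : F)⁻¹ • (X.1.trace • (1 : M2) - (X.1 * A.1).trace • (PSL2.conjSL h A).1 -
      (X.1 * j.1).trace • (PSL2.conjSL h j).1 - (X.1 * (A.1 * j.1)).trace • ((PSL2.conjSL h A).1 * (PSL2.conjSL h j).1)) := by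
    rw [← val_mul' (PSL2.conjSL h A), ← map_mul]
    simp only [PSL2.conjSL_val, Matrix.SpecialLinearGroup.coe_mul]
    nth_rewrite 1 [hrep]
    simp only [Matrix.mul_smul, Matrix.smul_mul, Matrix.mul_sub, Matrix.sub_mul, Matrix.mul_one, Units.mul_inv, Matrix.one_mul]
  rw [hconj]
  simp only [Matrix.smul_apply, Matrix.sub_apply, smul_eq_mul]
  refine K.mul_mem (K.inv_mem (ofNat_mem K 2)) (K.sub_mem (K.sub_mem (K.sub_mem ?_ ?_) ?_) ?_)
  · refine K.mul_mem ?_ ?_
    · rw [Matrix.trace_fin_two]; exact K.add_mem (hX 0 0) (hX 1 1)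
    · rw [Matrix.one_apply]; split_ifs
      exacts [K.one_mem, K.zero_mem]
  · exact K.mul_mem (htrK _ eA) (fA i k)
  · exact K.mul_mem (htrK _ ej) (fj i k)
  · exact K.mul_mem (htrK _ hAjK) (fAj i k)

/-- A maximal subgroup inside a subfield group of `PGL₂`. -/
theorem field_max_pgl (h2 : (2 : F) ≠ 0) {M : Subgroup G2} (hM : IsCoatom M) (hL : ¬ (τ).range ≤ M)
    {K : Subfield F} (hK : K ≠ ⊤) (hle : M ≤ (pglMap K).range) :
    ∃ r : ℕ, r.Prime ∧ Odd r ∧ Nat.card K ^ r = Fintype.card F ∧ Nonempty (M ≃* Matrix.ProjGenLinGroup (Fin 2) K) := by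
  classical
  have hne : ∀ K' : Subfield F, K' ≠ ⊤ → (pglMap K').range ≠ ⊤ := fun K' hK' h => by
    have hmem : ∀ x : F, x ∈ K' := fun x => by
      obtain ⟨z, hz⟩ := h ▸ Subgroup.mem_top (mk2 (Matrix.SpecialLinearGroup.toGL (PSL2.uS x)))
      obtain ⟨N, rfl⟩ := Matrix.ProjGenLinGroup.mk_surjective z
      rw [pglMap, Matrix.ProjGenLinGroup.map_mk, Matrix.ProjGenLinGroup.mk_eq_mk_iff] at hz
      obtain ⟨u, hu⟩ := hz
      have e0 : (N.val 0 0 : F) * (u : F) = 1 := by
        have := congrArg (fun M : GL (Fin 2) F => M.val 0 0) hu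
        simp [Matrix.mul_apply, Fin.sum_univ_two, Matrix.diagonal, PSL2.uS] at this
        exact this
      have e1 : (N.val 0 1 : F) * (u : F) = x := by
        have := congrArg (fun M : GL (Fin 2) F => M.val 0 1) hu
        simp [Matrix.mul_apply, Fin.sum_univ_two, Matrix.diagonal, PSL2.uS] at this
        exact this
      have hN0 : (N.val 0 0 : F) ≠ 0 := fun e => by rw [e, zero_mul] at e0; exact zero_ne_one e0
      rw [show x = (N.val 0 1 : F) / (N.val 0 0 : F) by rw [eq_div_iff hN0, ← e1]; linear_combination (N.val 0 1 : F) * e0]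
      exact K'.div_mem (N.val 0 1).2 (N.val 0 0).2
    exact hK' (eq_top_iff.mpr fun x _ => hmem x)
  have heq : (pglMap K).range = M := (hM.le_iff.mp hle).resolve_left (hne K hK)
  obtain ⟨m, hm, hKm⟩ := subfield_pow K
  have hodd : Odd m := by
    rw [← Nat.not_even_iff_odd]
    intro hev
    haveI : Fintype K := Fintype.ofFinite K
    have h1 : M ≤ (τ).range := by
      rw [← heq]
      refine (toPGL_square (L := K) (isSquare_of_even_degree K.subtype hev (by rw [← Nat.card_eq_fintype_card]; exact hKm))).trans ?_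
      rintro _ ⟨y, -, rfl⟩
      exact ⟨y, rfl⟩
    have htop : (τ).range ≠ ⊤ := fun e => by
      have := range_index (F := F) h2
      rw [e, Subgroup.index_top] at this; omega
    exact hL ((hM.le_iff.mp h1).resolve_left htop).le
  have hm1 : m ≠ 1 := by
    rintro rfl
    rw [pow_one] at hKm
    refine hK (SetLike.coe_injective ?_)
    have : (K : Set F) = Set.univ := Set.eq_of_subset_of_ncard_le (Set.subset_univ _) (by
      rw [Set.ncard_univ, Nat.card_eq_fintype_card, ← hKm, ← Nat.card_coe_set_eq]; rfl)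
    rw [this]; rfl
  have hmp : m.Prime := by
    by_contra hnp
    obtain ⟨k, ⟨j, hj⟩, hk2, hkm⟩ := Nat.exists_dvd_of_not_prime2 (by omega) hnp
    obtain ⟨p, hp⟩ := CharP.exists F
    obtain ⟨n, hpp, hn⟩ := FiniteField.card F p
    obtain ⟨f, -, hf⟩ := (Nat.dvd_prime_pow hpp).mp ((dvd_pow_self (Nat.card K) (by omega : m ≠ 0)).trans (dvd_of_eq (hKm.trans hn)))
    have hfm : f * m = n := Nat.pow_right_injective hpp.two_le (show p ^ (f * m) = p ^ (n : ℕ) by rw [pow_mul, ← hf, hKm, hn])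
    have hf0 : 0 < f := Nat.pos_of_ne_zero (by rintro rfl; rw [zero_mul] at hfm; exact n.ne_zero hfm.symm)
    haveI := hp
    haveI : Fact p.Prime := ⟨hpp⟩
    have hKle : K ≤ frobSub F p (f * k) := fun x hx => by
      haveI : Fintype K := Fintype.ofFinite K
      rw [mem_frobSub, pow_mul, ← hf, Nat.card_eq_fintype_card]
      exact congrArg Subtype.val (FiniteField.pow_card_pow k (⟨x, hx⟩ : K))
    obtain ⟨F₁, hc1, -⟩ := Classical.exists_subfield_pow hpp hn (show f * k ∣ (n : ℕ) from ⟨j, by rw [← hfm, hj]; ring⟩)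
      (Nat.mul_pos hf0 (by omega))
    have h1 : F₁ ≤ frobSub F p (f * k) := fun x hx => by
      haveI : Fintype F₁ := Fintype.ofFinite F₁
      rw [mem_frobSub, ← hc1, Nat.card_eq_fintype_card]
      exact congrArg Subtype.val (FiniteField.pow_card (⟨x, hx⟩ : F₁))
    have hne' : frobSub F p (f * k) ≠ ⊤ := frobSub_ne_top (Nat.mul_pos hf0 (by omega))
      (by rw [hn, ← hfm]; exact Nat.pow_lt_pow_right hpp.one_lt (Nat.mul_lt_mul_of_pos_left hkm hf0))
    have hmono : (pglMap K).range ≤ (pglMap (frobSub F p (f * k))).range := by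
      rintro _ ⟨z, rfl⟩
      obtain ⟨N, rfl⟩ := Matrix.ProjGenLinGroup.mk_surjective z
      exact ⟨Matrix.ProjGenLinGroup.mk (N.map (Subfield.inclusion hKle)), congrArg mk2 (Units.ext rfl)⟩
    have h2' : (pglMap (frobSub F p (f * k))).range ≤ (pglMap K).range := by
      rw [heq]; exact ((hM.le_iff.mp (heq ▸ hmono)).resolve_left (hne _ hne')).le
    have hsub : F₁ ≤ K := fun x hx => by
      let N : Matrix.SpecialLinearGroup (Fin 2) (frobSub F p (f * k)) := ⟨!![1, ⟨x, h1 hx⟩; 0, 1], by simp [Matrix.det_fin_two]⟩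
      have hmem : mk2 (Matrix.SpecialLinearGroup.toGL (PSL2.uS x)) ∈ (pglMap (frobSub F p (f * k))).range := by
        refine ⟨Matrix.ProjGenLinGroup.mk (Matrix.SpecialLinearGroup.toGL N), congrArg mk2 (Units.ext ?_)⟩
        ext i k
        fin_cases i <;> fin_cases k <;> simp [N, PSL2.uS] <;> rfl
      obtain ⟨z, hz⟩ := h2' hmem
      obtain ⟨N', rfl⟩ := Matrix.ProjGenLinGroup.mk_surjective z
      rw [pglMap, Matrix.ProjGenLinGroup.map_mk, Matrix.ProjGenLinGroup.mk_eq_mk_iff] at hz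
      obtain ⟨u, hu⟩ := hz
      have e0 : (N'.val 0 0 : F) * (u : F) = 1 := by
        have := congrArg (fun M : GL (Fin 2) F => M.val 0 0) hu
        simp [Matrix.mul_apply, Fin.sum_univ_two, Matrix.diagonal, PSL2.uS] at this
        exact this
      have e1 : (N'.val 0 1 : F) * (u : F) = x := by
        have := congrArg (fun M : GL (Fin 2) F => M.val 0 1) hu
        simp [Matrix.mul_apply, Fin.sum_univ_two, Matrix.diagonal, PSL2.uS] at this
        exact this
      have hN0 : (N'.val 0 0 : F) ≠ 0 := fun e => by rw [e, zero_mul] at e0; exact zero_ne_one e0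
      rw [show x = (N'.val 0 1 : F) / (N'.val 0 0 : F) by rw [eq_div_iff hN0, ← e1]; linear_combination (N'.val 0 1 : F) * e0]
      exact K.div_mem (N'.val 0 1).2 (N'.val 0 0).2
    have hcard : Nat.card F₁ ≤ Nat.card K :=
      Nat.card_le_card_of_injective (Subfield.inclusion hsub) (Subfield.inclusion hsub).injective
    rw [hc1, hf] at hcard
    have := (Nat.pow_le_pow_iff_right hpp.one_lt).mp hcard
    have : f * 1 < f * k := Nat.mul_lt_mul_of_pos_left hk2 hf0
    omega
  exact ⟨m, hmp, hodd, hKm, ⟨(MulEquiv.subgroupCongr heq.symm).trans (MonoidHom.ofInjective (pglMap_injective K)).symm⟩⟩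

/-- `PGL₂(q)` sits inside `PSL₂(q²)`. -/
theorem exists_psl_embedding (h2 : (2 : F) ≠ 0) :
    ∃ (E : Type) (_ : Field E) (_ : Fintype E) (φ : G2 →* Matrix.ProjectiveSpecialLinearGroup (Fin 2) E),
      (2 : E) ≠ 0 ∧ Function.Injective φ ∧ Fintype.card E = Fintype.card F ^ 2 := by
  obtain ⟨p, hp⟩ := CharP.exists F
  obtain ⟨n, hpp, hn⟩ := FiniteField.card F p
  haveI : Fact p.Prime := ⟨hpp⟩
  letI : Fintype (GaloisField p ((n : ℕ) * 2)) := Fintype.ofFinite _
  have hE : Fintype.card (GaloisField p ((n : ℕ) * 2)) = Fintype.card F ^ 2 := by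
    rw [← Nat.card_eq_fintype_card, GaloisField.card p _ (Nat.mul_ne_zero n.ne_zero two_ne_zero), hn, pow_mul]
  obtain ⟨ι⟩ := exists_embedding (F := GaloisField p ((n : ℕ) * 2)) (K := F) 2 one_le_two hE.symm
  obtain ⟨H, ⟨e⟩⟩ := exists_pgl ι (isSquare_of_even_degree ι even_two hE.symm)
  refine ⟨GaloisField p ((n : ℕ) * 2), inferInstance, inferInstance, H.subtype.comp e.symm.toMonoidHom, ?_,
    H.subtype_injective.comp e.symm.injective, hE⟩
  rw [← map_ofNat ι 2]
  exact (map_ne_zero ι).mpr h2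

end Cfsg.Agent.Classical.Dickson
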