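import Cfsg.Agent.Lib.Classical.Dickson.Classify

/-!
# Consequences of Dickson's classification
-/

set_option autoImplicit false
set_option linter.unusedSectionVars false

namespace Cfsg.Agent.Classical.Dickson

open Cfsg.Agent.Small Cfsg.Agent.Small.SL2C

variable {F : Type*} [Field F] [Fintype F]

local notation "SL2" => Matrix.SpecialLinearGroup (Fin 2) F
local notation "P2" => Matrix.ProjectiveSpecialLinearGroup (Fin 2) F

/-- The upper triangular subgroup of `SL₂`. -/
def upperSL (F : Type*) [Field F] : Subgroup (Matrix.SpecialLinearGroup (Fin 2) F) where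
  carrier := {y | y.1 1 0 = 0}
  mul_mem' {a b} ha hb := by
    simp only [Set.mem_ofPred_eq] at ha hb ⊢
    simp [Fusion.Dickson.mul_entry, ha, hb]
  one_mem' := rfl
  inv_mem' {a} ha := by
    simp only [Set.mem_ofPred_eq] at ha ⊢
    obtain ⟨-, -, i3, -⟩ := Fusion.Dickson.inv_entries a
    simp [i3, ha]

/-- The Borel subgroup of `PSL₂`. -/
noncomputable def borelP (F : Type*) [Field F] : Subgroup (Matrix.ProjectiveSpecialLinearGroup (Fin 2) F) :=
  (upperSL F).map PSL2.pr

theorem card_upperSL : Nat.card (upperSL F) = (Fintype.card F - 1) * Fintype.card F := by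
  rw [← Nat.card_eq_fintype_card, ← Nat.card_units, ← Nat.card_prod]
  have hd : ∀ y : upperSL F, y.1.1 0 0 * y.1.1 1 1 = 1 := fun y => by
    have h := Fusion.Dickson.det_eq y.1
    rwa [show y.1.1 1 0 = 0 from y.2, mul_zero, sub_zero] at h
  refine Nat.card_congr
    { toFun := fun y => (⟨y.1.1 0 0, y.1.1 1 1, hd y, by rw [mul_comm]; exact hd y⟩, y.1.1 0 1)
      invFun := fun t => ⟨⟨!![(t.1 : F), t.2; 0, ((t.1⁻¹ : Fˣ) : F)], by simp [Matrix.det_fin_two]⟩, rfl⟩
      left_inv := fun y => ?_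
      right_inv := fun t => ?_ }
  · have hne : y.1.1 0 0 ≠ 0 := fun h => by simpa [h] using hd y
    refine Subtype.ext (Fusion.Dickson.ext' (by simp) (by simp) ?_ (by simp))
    show (0 : F) = y.1.1 1 0
    exact y.2.symm
  · exact Prod.ext (Units.ext (by simp)) (by simp)

theorem center_le_upperSL : Subgroup.center SL2 ≤ upperSL F := fun z hz => by
  obtain ⟨c, hc⟩ := mem_center_iff.mp hz
  show z.1 1 0 = 0
  rw [hc]; simp

theorem card_map_pr {G : Subgroup SL2} (hG : Subgroup.center SL2 ≤ G) :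
    Nat.card G = Nat.card ↥(G.map PSL2.pr) * Nat.gcd 2 (Fintype.card F - 1) := by
  rw [card_G (G := G), card_Z hG]

theorem card_P2 : Nat.card P2 * Nat.gcd 2 (Fintype.card F - 1) = Fintype.card F * (Fintype.card F ^ 2 - 1) := by
  rw [mul_comm, Lead.GLBasic.card_PSL, Small.SL2C.card_SL2]

theorem card_borelP :
    Nat.card (borelP F) * Nat.gcd 2 (Fintype.card F - 1) = (Fintype.card F - 1) * Fintype.card F := by
  rw [borelP, ← card_map_pr center_le_upperSL, card_upperSL]

theorem borelP_le_normalizer :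
    borelP F ≤ Subgroup.normalizer ((PSL2.U : Subgroup P2) : Set P2) := by
  rintro _ ⟨A, hA, rfl⟩
  have hconj : ∀ (B : SL2), B ∈ upperSL F → ∀ x : F,
      PSL2.pr B * PSL2.pr (PSL2.uS x) * (PSL2.pr B)⁻¹ ∈ (PSL2.U : Subgroup P2) := by
    intro B hB x
    have hd := Fusion.Dickson.det_eq B
    rw [show B.1 1 0 = 0 from hB, mul_zero, sub_zero] at hd
    rw [← map_inv, ← map_mul, ← map_mul]
    obtain ⟨i1, i2, i3, i4⟩ := Fusion.Dickson.inv_entries B
    rw [show B * PSL2.uS x * B⁻¹ = PSL2.uS (B.1 0 0 * B.1 0 0 * x) by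
      apply Fusion.Dickson.ext' <;> simp [uS_eq_upU, Fusion.Dickson.mul_entry, i1, i2, i3, i4, show B.1 1 0 = 0 from hB]
      · linear_combination hd
      · ring
      · linear_combination hd]
    exact PSL2.uS_mem _
  rw [Subgroup.mem_normalizer_iff]
  intro g
  constructor
  · intro hg
    obtain ⟨x, rfl⟩ := (PSL2.mem_U g).mp hg
    exact hconj A hA x
  · intro hg
    obtain ⟨x, hx⟩ := (PSL2.mem_U _).mp hg
    have := hconj A⁻¹ (inv_mem hA) x
    rw [hx, map_inv, inv_inv] at this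
    rwa [show (PSL2.pr A)⁻¹ * (PSL2.pr A * g * (PSL2.pr A)⁻¹) * PSL2.pr A = g by group] at this

theorem subfield_pow (K : Subfield F) : ∃ m, 1 ≤ m ∧ Nat.card K ^ m = Fintype.card F := by
  haveI : Fintype K := Fintype.ofFinite K
  refine ⟨Module.finrank K F, Module.finrank_pos, ?_⟩
  rw [Nat.card_eq_fintype_card]
  exact Module.card_eq_pow_finrank.symm

/-- A finite field in `Type` with as many elements. -/
theorem exists_small_field (K : Type*) [Field K] [Fintype K] :
    ∃ (L : Type) (_ : Field L) (_ : Fintype L), Fintype.card L = Fintype.card K ∧ Nonempty (K ≃+* L) := by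
  obtain ⟨p, hp⟩ := CharP.exists K
  haveI : Fact p.Prime := ⟨CharP.char_is_prime K p⟩
  obtain ⟨n, -, hn⟩ := FiniteField.card K p
  letI : Fintype (GaloisField p n) := Fintype.ofFinite _
  have h : Fintype.card (GaloisField p n) = Fintype.card K := by
    rw [← Nat.card_eq_fintype_card, GaloisField.card p n n.ne_zero, hn]
  exact ⟨GaloisField p n, inferInstance, inferInstance, h, ⟨FiniteField.ringEquivOfCardEq h.symm⟩⟩

/-- `PSL₂` of isomorphic fields. -/
noncomputable def pslCongr {K L : Type*} [Field K] [Field L] (e : K ≃+* L) :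
    Matrix.ProjectiveSpecialLinearGroup (Fin 2) K ≃* Matrix.ProjectiveSpecialLinearGroup (Fin 2) L :=
  let E : Matrix.SpecialLinearGroup (Fin 2) K ≃* Matrix.SpecialLinearGroup (Fin 2) L :=
    { toFun := Matrix.SpecialLinearGroup.map (e : K →+* L)
      invFun := Matrix.SpecialLinearGroup.map (e.symm : L →+* K)
      left_inv := fun g => Subtype.ext (Matrix.ext fun i j => e.symm_apply_apply _)
      right_inv := fun g => Subtype.ext (Matrix.ext fun i j => e.apply_symm_apply _)
      map_mul' := map_mul _ }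
  QuotientGroup.congr _ _ E (center_map E)
where
  center_map {A B : Type _} [Group A] [Group B] (E : A ≃* B) :
      (Subgroup.center A).map (E : A →* B) = Subgroup.center B := by
    ext z
    constructor
    · rintro ⟨w, hw, rfl⟩
      refine Subgroup.mem_center_iff.mpr fun g => ?_
      obtain ⟨g, rfl⟩ := E.surjective g
      exact (map_mul E g w).symm.trans ((congrArg E (Subgroup.mem_center_iff.mp hw g)).trans (map_mul E w g))
    · intro hz
      refine ⟨E.symm z, Subgroup.mem_center_iff.mpr fun g => E.injective ?_, E.apply_symm_apply z⟩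
      rw [map_mul, map_mul, E.apply_symm_apply]
      exact Subgroup.mem_center_iff.mp hz _

/-- `PGL₂` of isomorphic fields. -/
noncomputable def pglCongr {K L : Type*} [Field K] [Field L] (e : K ≃+* L) :
    Matrix.ProjGenLinGroup (Fin 2) K ≃* Matrix.ProjGenLinGroup (Fin 2) L :=
  let E : GL (Fin 2) K ≃* GL (Fin 2) L := Units.mapEquiv (RingEquiv.mapMatrix e).toMulEquiv
  QuotientGroup.congr _ _ E (pslCongr.center_map E)

theorem card_pgl (K : Type*) [Field K] [Fintype K] :
    Nat.card (Matrix.ProjGenLinGroup (Fin 2) K) = Fintype.card K * (Fintype.card K ^ 2 - 1) := by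
  rw [Lead.GLBasic.card_PGL, Small.SL2C.card_SL2]

theorem finite_pgl (K : Type*) [Field K] [Fintype K] : Finite (Matrix.ProjGenLinGroup (Fin 2) K) :=
  Finite.of_surjective _ Matrix.ProjGenLinGroup.mk_surjective

theorem card_psl (K : Type*) [Field K] [Fintype K] :
    Nat.card (Matrix.ProjectiveSpecialLinearGroup (Fin 2) K) * Nat.gcd 2 (Fintype.card K - 1) =
      Fintype.card K * (Fintype.card K ^ 2 - 1) :=
  card_P2 (F := K)

theorem two_dvd_pred (h2 : (2 : F) ≠ 0) : Nat.gcd 2 (Fintype.card F - 1) = 2 := by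
  refine Nat.gcd_eq_left ?_
  have := not_two_dvd_iff.mpr h2
  omega

theorem gcd_eq_one_of_even (h2 : (2 : F) = 0) : Nat.gcd 2 (Fintype.card F - 1) = 1 := by
  have := two_dvd_iff.mpr h2
  have := Fintype.one_lt_card (α := F)
  exact Nat.coprime_two_left.mpr (Nat.odd_iff.mpr (by omega))

/-- The classification, stated for a subgroup of `PSL₂`. -/
theorem cases_on (H : Subgroup P2) :
    (∃ k, (k ∣ (Fintype.card F - 1) / Nat.gcd 2 (Fintype.card F - 1) ∨
        k ∣ (Fintype.card F + 1) / Nat.gcd 2 (Fintype.card F - 1)) ∧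
      ((IsCyclic H ∧ Nat.card H = k) ∨ (2 ≤ k ∧ Nonempty (H ≃* DihedralGroup k)))) ∨
    (∃ g : GL (Fin 2) F, H.map (PSL2.conjP g).toMonoidHom ≤ borelP F ∧
      PSL2.pr (PSL2.uS (1 : F)) ∈ H.map (PSL2.conjP g).toMonoidHom) ∨
    ((2 : F) ≠ 0 ∧ Nonempty (H ≃* alternatingGroup (Fin 4))) ∨
    ((2 : F) ≠ 0 ∧ Nonempty (H ≃* Equiv.Perm (Fin 4))) ∨
    ((2 : F) ≠ 0 ∧ Nonempty (H ≃* alternatingGroup (Fin 5))) ∨
    (∃ (K : Subfield F) (m : ℕ), 1 ≤ m ∧ Nat.card K ^ m = Fintype.card F ∧
      ((Nonempty (H ≃* Matrix.ProjGenLinGroup (Fin 2) K) ∧ Nat.card H = Nat.card K * (Nat.card K ^ 2 - 1)) ∨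
        ((2 : F) ≠ 0 ∧ Nonempty (H ≃* Matrix.ProjectiveSpecialLinearGroup (Fin 2) K) ∧
          2 * Nat.card H = Nat.card K * (Nat.card K ^ 2 - 1)))) := by
  classical
  obtain ⟨G, hG⟩ : ∃ G, G = H.comap PSL2.pr := ⟨_, rfl⟩
  have e : ↥(G.map PSL2.pr) ≃* ↥H := MulEquiv.subgroupCongr (by rw [hG, map_comap_pr])
  have hK := classify H
  rw [← hG] at hK
  cases hK with
  | cyclic k hk hc hcard =>
    exact Or.inl ⟨k, hk, Or.inl ⟨isCyclic_of_surjective e e.surjective, (Nat.card_congr e.toEquiv).symm.trans hcard⟩⟩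
  | dihedral k hk h2 hiso => exact Or.inl ⟨k, hk, Or.inr ⟨h2, hiso.map e.symm.trans⟩⟩
  | borel g hg hu =>
    right; left
    refine ⟨g, ?_, ?_⟩ <;> rw [show H.map (PSL2.conjP g).toMonoidHom = (G.map (PSL2.conjSL g).toMonoidHom).map PSL2.pr by
      rw [map_pr_conj, hG, map_comap_pr]]
    · exact Subgroup.map_mono fun y hy => hg y hy
    · exact ⟨_, hu, rfl⟩
  | a4 h2 hiso => exact Or.inr (Or.inr (Or.inl ⟨h2, hiso.map e.symm.trans⟩))
  | s4 h2 hiso => exact Or.inr (Or.inr (Or.inr (Or.inl ⟨h2, hiso.map e.symm.trans⟩)))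
  | a5 h2 hiso => exact Or.inr (Or.inr (Or.inr (Or.inr (Or.inl ⟨h2, hiso.map e.symm.trans⟩))))
  | field g K hlow hhigh hiso =>
    obtain ⟨m, hm, hKm⟩ := subfield_pow K
    refine Or.inr (Or.inr (Or.inr (Or.inr (Or.inr ⟨K, m, hm, hKm, ?_⟩))))
    haveI : Fintype K := Fintype.ofFinite K
    rcases hiso with h | ⟨h2, h⟩ <;> obtain ⟨f⟩ := h
    · refine Or.inl ⟨⟨e.symm.trans f⟩, ?_⟩
      rw [Nat.card_congr (e.symm.trans f).toEquiv, card_pgl, Nat.card_eq_fintype_card]
    · refine Or.inr ⟨h2, ⟨e.symm.trans f⟩, ?_⟩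
      have h2K : (2 : K) ≠ 0 := fun h => h2 (congrArg Subtype.val h)
      have := card_psl K
      rw [two_dvd_pred h2K] at this
      rw [Nat.card_congr (e.symm.trans f).toEquiv, mul_comm, this, Nat.card_eq_fintype_card]

end Cfsg.Agent.Classical.Dickson
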