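import Cfsg.Agent.Lib.Classical.Dickson.Scaled

/-!
# Maximal subgroups normalising a torus element
-/

set_option autoImplicit false
set_option linter.unusedSectionVars false

namespace Cfsg.Agent.Classical.Dickson

open Cfsg.Agent.Small Cfsg.Agent.Small.SL2C

variable {F : Type*} [Field F] [Fintype F]

local notation "SL2" => Matrix.SpecialLinearGroup (Fin 2) F
local notation "P2" => Matrix.ProjectiveSpecialLinearGroup (Fin 2) F

/-- An element with trace `±2` has order dividing `q` modulo the centre. -/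
theorem pr_pow_card_of_trace_sq {g : SL2} (ht : g.1.trace * g.1.trace = 4) :
    (PSL2.pr g) ^ Fintype.card F = 1 := by
  obtain ⟨e, he, hee⟩ : ∃ e : F, g.1.trace = e + e ∧ e * e = 1 := by
    by_cases h2 : (2 : F) = 0
    · refine ⟨1, ?_, one_mul 1⟩
      have h0 : g.1.trace * g.1.trace = 0 := by rw [ht]; linear_combination 2 * h2
      rw [mul_self_eq_zero.mp h0]; linear_combination -h2
    · refine ⟨g.1.trace / 2, by field_simp; ring, ?_⟩
      field_simp; linear_combination ht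
  have hp : ∀ n : ℕ, (g ^ n).1 = ((n : F) * e ^ (n + 1)) • g.1 + ((1 - (n : F)) * e ^ n) • (1 : Matrix (Fin 2) (Fin 2) F) := by
    intro n
    induction n with
    | zero => simp
    | succ n ih =>
      rw [pow_succ, Matrix.SpecialLinearGroup.coe_mul, ih, Matrix.add_mul, Matrix.smul_mul, Matrix.smul_mul,
        Matrix.one_mul, sq_eq, he, Nat.cast_succ]
      have e2 : ∀ k : ℕ, e ^ (k + 2) = e ^ k := fun k => by rw [pow_succ, pow_succ, mul_assoc, hee, mul_one]
      have hA : ((n : F) * e ^ (n + 1)) * (e + e) + (1 - (n : F)) * e ^ n = ((n : F) + 1) * e ^ (n + 2) := by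
        rw [e2]; linear_combination (2 * (n : F) * e ^ n) * hee
      rw [smul_sub, smul_smul, show n + 1 + 1 = n + 2 from rfl]
      rw [show ((1 - ((n : F) + 1)) * e ^ (n + 1)) = -((n : F) * e ^ (n + 1)) by ring, ← hA]
      module
  rw [← map_pow, pr_eq_one_iff]
  refine ⟨(1 - (Fintype.card F : F)) * e ^ Fintype.card F, ?_⟩
  rw [hp, Nat.cast_card_eq_zero, zero_mul, zero_smul, zero_add]

/-- A maximal subgroup normalising the group of a semisimple element is a full dihedral group. -/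
theorem torus_max {M : Subgroup P2} (hM : IsCoatom M) (h4 : 4 ≤ Fintype.card F) {z : P2} (hz1 : z ≠ 1)
    (hco : Nat.Coprime (orderOf z) (Fintype.card F))
    (hnorm : ∀ x ∈ M, x * z * x⁻¹ ∈ Subgroup.zpowers z) :
    ∃ k, (k = (Fintype.card F - 1) / Nat.gcd 2 (Fintype.card F - 1) ∨
        k = (Fintype.card F + 1) / Nat.gcd 2 (Fintype.card F - 1)) ∧
      Nat.card M = 2 * k ∧ Nonempty (M ≃* DihedralGroup k) := by
  classical
  obtain ⟨g, rfl⟩ := PSL2.pr_surjective z
  have hns : ¬ IsSc g.1 := fun h => hz1 (pr_eq_one_iff.mpr h)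
  have ht : g.1.trace * g.1.trace ≠ 4 := fun h => hz1 (by
    have h1 : orderOf (PSL2.pr g) = 1 := (Nat.gcd_eq_left (orderOf_dvd_of_pow_eq_one (pr_pow_card_of_trace_sq h))).symm.trans hco
    exact orderOf_eq_one_iff.mp h1)
  have hd2 : Nat.gcd 2 (Fintype.card F - 1) ≤ 2 := Nat.le_of_dvd two_pos (Nat.gcd_dvd_left _ _)
  have hd0 : 0 < Nat.gcd 2 (Fintype.card F - 1) := Nat.gcd_pos_of_pos_left _ two_pos
  have hdd : Nat.gcd 2 (Fintype.card F - 1) ∣ Fintype.card F - 1 := Nat.gcd_dvd_right _ _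
  have hsol : sol g.1.trace 1 = Fintype.card F - 1 ∨ sol g.1.trace 1 = Fintype.card F + 1 := by
    rcases sol_eq ht with ⟨-, h⟩ | ⟨-, h⟩
    · exact Or.inl h
    · exact Or.inr h
  have hk : 2 ≤ sol g.1.trace 1 / Nat.gcd 2 (Fintype.card F - 1) := by
    rw [Nat.le_div_iff_mul_le hd0]
    rcases hsol with h | h <;> rw [h]
    · rcases Nat.eq_or_lt_of_le hd2 with e | e
      · rw [e] at hdd ⊢; omega
      · omega
    · omega
  obtain ⟨hcN, hiso⟩ := dihedral_normalizer ht hns hk
  have hle : M ≤ (Subgroup.normalizer (tor g : Set SL2)).map PSL2.pr := fun x hx => by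
    obtain ⟨X, rfl⟩ := PSL2.pr_surjective x
    refine ⟨X, ?_, rfl⟩
    obtain ⟨i, hi⟩ := Subgroup.mem_zpowers_iff.mp (hnorm _ hx)
    rw [← map_zpow, ← map_inv, ← map_mul, ← map_mul, eq_comm, PSL2.pr_eq_iff] at hi
    obtain ⟨ε, -, hi⟩ := hi
    have hXg : X * g * X⁻¹ ∈ tor g := mem_tor.mpr (by
      rw [hi, Matrix.smul_mul, Matrix.mul_smul, mem_tor.mp ((tor g).zpow_mem (self_mem_tor g) i)])
    have htr : (X * g * X⁻¹).1.trace = g.1.trace :=
      (trace_conj (isConj_iff.mpr ⟨X, rfl⟩)).symm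
    have hns' : ¬ IsSc (X * g * X⁻¹).1 := not_isSc_of_trace (by rw [htr]; exact ht)
    have htor := (tor_eq ht hXg hns').1
    show X ∈ Subgroup.normalizer (tor g : Set SL2)
    rw [Subgroup.mem_normalizer_iff]
    intro h
    constructor
    · intro hh
      rw [← htor]
      exact mem_tor.mpr (congrArg (fun Y : SL2 => Y.1) (show X * h * X⁻¹ * (X * g * X⁻¹) = X * g * X⁻¹ * (X * h * X⁻¹) by
        rw [show X * h * X⁻¹ * (X * g * X⁻¹) = X * (h * g) * X⁻¹ by group,
          show X * g * X⁻¹ * (X * h * X⁻¹) = X * (g * h) * X⁻¹ by group,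
          show h * g = g * h from Subtype.ext (mem_tor.mp hh)]))
    · intro hh
      rw [← htor] at hh
      have h1 : X * h * X⁻¹ * (X * g * X⁻¹) = X * g * X⁻¹ * (X * h * X⁻¹) := Subtype.ext (mem_tor.mp hh)
      rw [show X * h * X⁻¹ * (X * g * X⁻¹) = X * (h * g) * X⁻¹ by group,
          show X * g * X⁻¹ * (X * h * X⁻¹) = X * (g * h) * X⁻¹ by group] at h1
      exact mem_tor.mpr (congrArg (fun Y : SL2 => Y.1) (mul_left_cancel (mul_right_cancel h1)))
  have hne : (Subgroup.normalizer (tor g : Set SL2)).map PSL2.pr ≠ ⊤ := fun h => by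
    rw [h, Subgroup.card_top] at hcN
    have hP := card_P2 (F := F)
    rw [hcN] at hP
    have h1 : sol g.1.trace 1 / Nat.gcd 2 (Fintype.card F - 1) * Nat.gcd 2 (Fintype.card F - 1) ≤ Fintype.card F + 1 :=
      (Nat.div_mul_le_self _ _).trans (by omega)
    have h5 : 4 * 15 ≤ Fintype.card F * (Fintype.card F ^ 2 - 1) :=
      Nat.mul_le_mul h4 (Nat.le_sub_of_add_le (Nat.pow_le_pow_left h4 2))
    have h6 : 4 * (Fintype.card F + 1) ≤ Fintype.card F * (Fintype.card F ^ 2 - 1) :=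
      Nat.mul_le_mul h4 (by rw [show Fintype.card F ^ 2 - 1 = (Fintype.card F + 1) * (Fintype.card F - 1) from Nat.sq_sub_sq _ 1]; exact Nat.le_mul_of_pos_right _ (by omega))
    rw [mul_assoc] at hP
    omega
  have heq : (Subgroup.normalizer (tor g : Set SL2)).map PSL2.pr = M := (hM.le_iff.mp hle).resolve_left hne
  rw [heq] at hcN hiso
  exact ⟨_, hsol.imp (fun h => by rw [h]) (fun h => by rw [h]), hcN, hiso⟩

/-- A cyclic or dihedral maximal subgroup is a full dihedral group. -/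
theorem torus_case {M : Subgroup P2} (hM : IsCoatom M) (h4 : 4 ≤ Fintype.card F) {k : ℕ}
    (hk : k ∣ (Fintype.card F - 1) / Nat.gcd 2 (Fintype.card F - 1) ∨
      k ∣ (Fintype.card F + 1) / Nat.gcd 2 (Fintype.card F - 1))
    (hc : (IsCyclic M ∧ Nat.card M = k) ∨ (2 ≤ k ∧ Nonempty (M ≃* DihedralGroup k))) :
    ∃ k, (k = (Fintype.card F - 1) / Nat.gcd 2 (Fintype.card F - 1) ∨
        k = (Fintype.card F + 1) / Nat.gcd 2 (Fintype.card F - 1)) ∧
      Nat.card M = 2 * k ∧ Nonempty (M ≃* DihedralGroup k) := by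
  classical
  have hd0 : 0 < Nat.gcd 2 (Fintype.card F - 1) := Nat.gcd_pos_of_pos_left _ two_pos
  have hdd : Nat.gcd 2 (Fintype.card F - 1) ∣ Fintype.card F - 1 := Nat.gcd_dvd_right _ _
  have hco : Nat.Coprime k (Fintype.card F) := by
    have hdp : Nat.gcd 2 (Fintype.card F - 1) ∣ Fintype.card F + 1 := by
      have := dvd_add hdd (Nat.gcd_dvd_left 2 (Fintype.card F - 1))
      rwa [show Fintype.card F - 1 + 2 = Fintype.card F + 1 by omega] at this
    rcases hk with h | h
    · refine Nat.Coprime.coprime_dvd_left (h.trans (Nat.div_dvd_of_dvd hdd)) ?_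
      have := Nat.coprime_one_right (Fintype.card F - 1)
      rwa [← Nat.coprime_add_self_right, show 1 + (Fintype.card F - 1) = Fintype.card F by omega] at this
    · exact Nat.Coprime.coprime_dvd_left (h.trans (Nat.div_dvd_of_dvd hdp)) (by simp)
  rcases hc with ⟨hcy, hck⟩ | ⟨hk2, ⟨e⟩⟩
  · obtain ⟨⟨z, hz⟩, hgen⟩ := hcy.exists_generator
    have hgen' : ∀ x ∈ M, x ∈ Subgroup.zpowers z := fun x hx => by
      obtain ⟨i, hi⟩ := Subgroup.mem_zpowers_iff.mp (hgen ⟨x, hx⟩)
      exact ⟨i, congrArg Subtype.val hi⟩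
    have hz1 : z ≠ 1 := by
      rintro rfl
      have hbot : M = ⊥ := eq_bot_iff.mpr fun x hx => by simpa using hgen' x hx
      obtain ⟨y, hy1⟩ : ∃ y : P2, y ≠ 1 := ⟨PSL2.pr (PSL2.uS 1), fun h => one_ne_zero (PSL2.pr_uS_inj (h.trans (by rw [uS_eq_upU, Fusion.Dickson.upU_zero, map_one])))⟩
      have htop : Subgroup.zpowers y = ⊤ := (hM.le_iff.mp (hbot ▸ bot_le : M ≤ Subgroup.zpowers y)).resolve_right
        (fun h => hy1 (by
          have := Subgroup.mem_zpowers y
          rw [h, hbot] at this; exact this))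
      have hcy : IsCyclic P2 := ⟨⟨y, fun x => by show x ∈ Subgroup.zpowers y; rw [htop]; trivial⟩⟩
      letI := hcy.commGroup
      have h := congrArg (fun x : P2 => x) (mul_comm (PSL2.pr (PSL2.uS (1 : F))) (PSL2.pr (PSL2.vS 1)))
      rw [← map_mul, ← map_mul] at h
      obtain ⟨ε, -, he⟩ := (PSL2.pr_eq_iff _ _).mp h
      have h00 := congrFun (congrFun he 0) 0
      have h01 := congrFun (congrFun he 0) 1
      simp [show (PSL2.uS (1 : F)).1 = !![1, 1; 0, 1] from rfl, show (PSL2.vS (1 : F)).1 = !![1, 0; 1, 1] from rfl, Matrix.mul_apply, Fin.sum_univ_two] at h00 h01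
      exact one_ne_zero (by linear_combination h00 - h01 : (1 : F) = 0)
    refine torus_max hM h4 hz1 ?_ fun x hx => ?_
    · refine Nat.Coprime.coprime_dvd_left ?_ hco
      rw [← hck, ← Subgroup.orderOf_mk z hz]
      exact orderOf_dvd_natCard _
    · obtain ⟨i, rfl⟩ := hgen' x hx
      exact ⟨1, by group⟩
  · haveI : NeZero k := ⟨by omega⟩
    have hord : orderOf ((e.symm (DihedralGroup.r 1) : M) : P2) = k := by
      rw [Subgroup.orderOf_coe, e.symm.orderOf_eq, DihedralGroup.orderOf_r_one]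
    refine torus_max hM h4 (z := ((e.symm (DihedralGroup.r 1) : M) : P2)) (fun h => by rw [h, orderOf_one] at hord; omega) (by rw [hord]; exact hco) fun x hx => ?_
    obtain ⟨y, hy⟩ : ∃ y, e ⟨x, hx⟩ = y := ⟨_, rfl⟩
    have hx' : x = ((e.symm y : M) : P2) := by rw [← hy, e.symm_apply_apply]
    obtain ⟨i, hi⟩ : ∃ i : ℤ, y * DihedralGroup.r 1 * y⁻¹ = DihedralGroup.r 1 ^ i := by
      rcases y with j | j
      · exact ⟨1, by simp⟩
      · exact ⟨-1, by simp⟩
    refine ⟨i, ?_⟩
    show _ ^ i = _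
    rw [hx', ← Subgroup.coe_inv, ← Subgroup.coe_mul, ← Subgroup.coe_mul, ← Subgroup.coe_zpow, ← map_inv, ← map_mul,
      ← map_mul, ← map_zpow, hi]

end Cfsg.Agent.Classical.Dickson
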