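import Cfsg.Agent.Lib.Fusion.DicksonTI
import Cfsg.Agent.Lib.Lie.OrderSixty

/-!
# Recognising the dihedral and polyhedral groups
-/

set_option autoImplicit false

namespace Cfsg.Agent.Classical.Dickson

open Cfsg.Agent.Fusion.Dickson (classSet)

variable {P : Type*} [Group P] [Finite P]

/-- A cyclic subgroup of index two inverted by an involution outside. -/
theorem dihedral_of {C : Subgroup P} (hC : IsCyclic C) {t : P} (ht : t ∉ C) (ht2 : t * t = 1)
    (hinv : ∀ c ∈ C, t * c * t⁻¹ = c⁻¹) (hcard : Nat.card P = 2 * Nat.card C) :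
    Nonempty (P ≃* DihedralGroup (Nat.card C)) := by
  haveI : NeZero (Nat.card C) := ⟨Nat.card_pos.ne'⟩
  obtain ⟨e⟩ : Nonempty (Multiplicative (ZMod (Nat.card C)) ≃* C) := ⟨zmodCyclicMulEquiv hC⟩
  let c : ZMod (Nat.card C) → P := fun i => (e (Multiplicative.ofAdd i) : C)
  have hc : ∀ i j, c (i + j) = c i * c j := fun i j => by
    simp only [c, ofAdd_add, map_mul, Subgroup.coe_mul]
  have hcm : ∀ i, c i ∈ C := fun i => (e _).2
  have htc : ∀ i, t * c i = c (-i) * t := fun i => by
    have h := hinv _ (hcm i)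
    rw [mul_inv_eq_iff_eq_mul] at h
    rw [h]
    congr 1
    simp only [c, ofAdd_neg, map_inv, Subgroup.coe_inv]
  have htc' : ∀ i, c i * t = t * c (-i) := fun i => by rw [htc, neg_neg]
  let f : DihedralGroup (Nat.card C) →* P := MonoidHom.mk'
    (fun | .r i => c i | .sr i => t * c i) (fun x y => by
      rcases x with i | i <;> rcases y with j | j
      · exact hc i j
      · show t * c (j - i) = c i * (t * c j)
        rw [← mul_assoc, htc', mul_assoc, ← hc, neg_add_eq_sub]
      · show t * c (i + j) = t * c i * c j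
        rw [hc, mul_assoc]
      · show c (j - i) = t * c i * (t * c j)
        rw [show t * c i * (t * c j) = t * (c i * t) * c j by group, htc', ← mul_assoc t t, ht2, one_mul,
          ← hc, neg_add_eq_sub])
  have hcinj : ∀ i j, c i = c j → i = j := fun i j h =>
    Multiplicative.ofAdd.injective (e.injective (Subtype.ext h))
  have hinj : Function.Injective f := by
    rintro (i | i) (j | j) h
    · exact congrArg _ (hcinj i j h)
    · exfalso; change c i = t * c j at h
      exact ht (by rw [show t = c i * (c j)⁻¹ by rw [h]; group]; exact mul_mem (hcm i) (inv_mem (hcm j)))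
    · exfalso; change t * c i = c j at h
      exact ht (by rw [show t = c j * (c i)⁻¹ by rw [← h]; group]; exact mul_mem (hcm j) (inv_mem (hcm i)))
    · exact congrArg _ (hcinj i j (mul_left_cancel (show t * c i = t * c j from h)))
  exact ⟨(MulEquiv.ofBijective f (hinj.bijective_of_nat_card_le (by
    rw [hcard, DihedralGroup.nat_card]))).symm⟩

theorem card_normalizer_of_normal {C : Subgroup P} (h : C.Normal) :
    Nat.card (Subgroup.normalizer (C : Set P)) = Nat.card P := by
  rw [Subgroup.normalizer_eq_top_iff.mpr h, Subgroup.card_top]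

/-- A group of order twelve with a self-normalising subgroup of order three. -/
theorem a4_of {C : Subgroup P} (h12 : Nat.card P = 12) (h3 : Nat.card C = 3)
    (hN : Nat.card (Subgroup.normalizer (C : Set P)) = 3) : Nonempty (P ≃* alternatingGroup (Fin 4)) := by
  classical
  have hidx : C.index = 4 := by
    have := C.card_mul_index
    rw [h3, h12] at this
    omega
  let e : P ⧸ C ≃ Fin 4 := Finite.equivFinOfCardEq hidx
  let φ : P →* Equiv.Perm (Fin 4) := e.permCongrHom.toMonoidHom.comp (MulAction.toPermHom P (P ⧸ C))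
  have hker : φ.ker = C.normalCore := by
    rw [Subgroup.normalCore_eq_ker]
    ext g
    simp only [φ, MonoidHom.mem_ker, MonoidHom.comp_apply, MulEquiv.coe_toMonoidHom,
      MulEquiv.map_eq_one_iff]
  have hinj : Function.Injective φ := by
    rw [← MonoidHom.ker_eq_bot_iff, hker]
    haveI : Fact (Nat.Prime 3) := ⟨Nat.prime_three⟩
    haveI : C.normalCore.Normal := Subgroup.normalCore_normal C
    have hd := Subgroup.card_dvd_of_le C.normalCore_le
    rw [h3, Nat.dvd_prime Nat.prime_three] at hd
    rcases hd with h | h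
    · exact Subgroup.card_eq_one.mp h
    · exfalso
      have he : C.normalCore = C := Subgroup.eq_of_le_of_card_ge C.normalCore_le (by omega)
      have hn := card_normalizer_of_normal (he ▸ (inferInstance : C.normalCore.Normal))
      omega
  have h2 : φ.range.index = 2 := by
    have h := φ.range.card_mul_index
    rw [← Nat.card_congr (MonoidHom.ofInjective hinj).toEquiv, h12, Nat.card_perm, Nat.card_fin,
      show Nat.factorial 4 = 24 from rfl] at h
    omega
  exact ⟨(MonoidHom.ofInjective hinj).trans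
    (MulEquiv.subgroupCongr (Equiv.Perm.eq_alternatingGroup_of_index_eq_two h2))⟩

/-- A group of order twenty-four with a subgroup of order three whose normaliser has order six and
which is self-centralising. -/
theorem s4_of {C : Subgroup P} (h24 : Nat.card P = 24) (h3 : Nat.card C = 3)
    (hN : Nat.card (Subgroup.normalizer (C : Set P)) = 6)
    (hcent : ∀ n ∈ Subgroup.normalizer (C : Set P), n ∉ C → ∀ c ∈ C, c ≠ 1 → n * c ≠ c * n) :
    Nonempty (P ≃* Equiv.Perm (Fin 4)) := by
  classical
  obtain ⟨N, hNdef⟩ : ∃ N, N = Subgroup.normalizer (C : Set P) := ⟨_, rfl⟩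
  rw [← hNdef] at hN hcent
  have hidx : N.index = 4 := by
    have := N.card_mul_index
    rw [hN, h24] at this
    omega
  let e : P ⧸ N ≃ Fin 4 := Finite.equivFinOfCardEq hidx
  let φ : P →* Equiv.Perm (Fin 4) := e.permCongrHom.toMonoidHom.comp (MulAction.toPermHom P (P ⧸ N))
  have hker : φ.ker = N.normalCore := by
    rw [Subgroup.normalCore_eq_ker]
    ext g
    simp only [φ, MonoidHom.mem_ker, MonoidHom.comp_apply, MulEquiv.coe_toMonoidHom,
      MulEquiv.map_eq_one_iff]
  haveI : Fact (Nat.Prime 3) := ⟨Nat.prime_three⟩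
  haveI hKn : N.normalCore.Normal := Subgroup.normalCore_normal N
  have hKC : ∀ x ∈ N.normalCore, x ∈ C → x = 1 := by
    intro x hxK hxC
    by_contra hne
    have hCK : C ≤ N.normalCore := fun c hc => by
      obtain ⟨k, hk⟩ := (Submonoid.mem_powers_iff _ _).mp
        (mem_powers_of_prime_card (G := C) h3 (g := ⟨x, hxC⟩) (g' := ⟨c, hc⟩)
          fun e => hne (congrArg Subtype.val e))
      have := congrArg Subtype.val hk
      rw [SubmonoidClass.coe_pow] at this
      exact (show x ^ k = c from this) ▸ pow_mem hxK k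
    have hC : C.Normal := ⟨fun c hc g => by
      by_contra hout
      have hmem : g * c * g⁻¹ ∈ N := N.normalCore_le (hKn.conj_mem c (hCK hc) g)
      have hp : (g * c * g⁻¹) ^ 3 = 1 := by
        rw [conj_pow, show c ^ 3 = 1 from by
          have := pow_card_eq_one' (x := (⟨c, hc⟩ : C))
          rw [h3] at this
          exact congrArg Subtype.val this, mul_one, mul_inv_cancel]
      have hCN : C ≤ N := hNdef ▸ Subgroup.le_normalizer
      haveI hnn : (C.subgroupOf N).Normal := by rw [hNdef]; exact Subgroup.normal_in_normalizer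
      have hi : (C.subgroupOf N).index = 2 := by
        have := (C.subgroupOf N).index_mul_card
        rw [Nat.card_congr (Subgroup.subgroupOfEquivOfLe hCN).toEquiv, h3, hN] at this
        omega
      have h2 := Subgroup.sq_mem_of_index_two hi ⟨g * c * g⁻¹, hmem⟩
      rw [Subgroup.mem_subgroupOf] at h2
      apply hout
      have e4 : g * c * g⁻¹ = ((g * c * g⁻¹) ^ 2) ^ 2 := by
        rw [← pow_mul, pow_succ, hp, one_mul]
      rw [e4]
      exact pow_mem (by simpa using h2) 2⟩
    have := card_normalizer_of_normal hC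
    rw [← hNdef, hN, h24] at this
    omega
  have hinj : Function.Injective φ := by
    rw [← MonoidHom.ker_eq_bot_iff, hker, Subgroup.eq_bot_iff_forall]
    intro x hx
    have hxN : x ∈ N := N.normalCore_le hx
    by_cases hxC : x ∈ C
    · exact hKC x hx hxC
    by_contra hne
    haveI : Nontrivial C := (Finite.one_lt_card_iff_nontrivial).mp (by omega)
    obtain ⟨⟨c, hc⟩, hc1⟩ := exists_ne (1 : C)
    refine hcent x hxN hxC c hc (fun e => hc1 (Subtype.ext e)) ?_
    have h1 : x * c * x⁻¹ * c⁻¹ ∈ C :=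
      mul_mem ((Subgroup.mem_normalizer_iff.mp (hNdef ▸ hxN) c).mp hc) (inv_mem hc)
    have h2 : x * c * x⁻¹ * c⁻¹ ∈ N.normalCore := by
      have := mul_mem hx (hKn.conj_mem _ (inv_mem hx) c)
      rwa [show x * (c * x⁻¹ * c⁻¹) = x * c * x⁻¹ * c⁻¹ by group] at this
    have := hKC _ h2 h1
    rwa [mul_inv_eq_one, mul_inv_eq_iff_eq_mul] at this
  refine ⟨MulEquiv.ofBijective φ (hinj.bijective_of_nat_card_le ?_)⟩
  rw [h24, Nat.card_perm, Nat.card_fin]
  rfl

/-- The class sizes `15`, `20`, `24` force simplicity. -/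
theorem a5_of {K : Type*} [Group K] [Finite K] (π : K →* P) (hπ : Function.Surjective π)
    (Z : Subgroup K) [Z.Normal] (hker : π.ker = Z) (h60 : Nat.card K = 60 * Nat.card Z)
    (A : Fin 3 → Subgroup K) (hle : ∀ i, Z ≤ A i)
    (hprime : ∀ i, Nat.card (A i) = ![2, 3, 5] i * Nat.card Z)
    (hsize : ∀ i, (classSet Z (A i)).ncard = ![15, 20, 24] i * Nat.card Z)
    (hdisj : ∀ i j, i ≠ j → Disjoint (classSet Z (A i)) (classSet Z (A j)))
    (hcover : ∀ y, y ∉ Z → ∃ i, y ∈ classSet Z (A i)) :
    Nonempty (P ≃* alternatingGroup (Fin 5)) := by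
  classical
  have hP : Nat.card P = 60 := by
    have e := Nat.card_congr (QuotientGroup.quotientKerEquivOfSurjective π hπ).toEquiv
    have h := Subgroup.card_eq_card_quotient_mul_card_subgroup π.ker
    rw [e, h60, hker] at h
    exact (Nat.eq_of_mul_eq_mul_right Nat.card_pos h).symm
  have hz : 0 < Nat.card Z := Nat.card_pos
  haveI : IsSimpleGroup P := by
    haveI : Nontrivial P := (Finite.one_lt_card_iff_nontrivial).mp (by omega)
    constructor
    intro M hM
    haveI hMn : (M.comap π).Normal := hM.comap π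
    obtain ⟨N, hN⟩ : ∃ N, N = M.comap π := ⟨_, rfl⟩
    have hZN : Z ≤ N := by rw [hN, ← hker]; exact Subgroup.ker_le_comap π M
    have hcl : ∀ i, (∃ y ∈ classSet Z (A i), y ∈ N) → classSet Z (A i) ⊆ N := by
      rintro i ⟨_, ⟨x, a, ha, haZ, rfl⟩, hyN⟩
      have haN : a ∈ N := by
        have := (hN ▸ hMn).conj_mem _ hyN x⁻¹
        rwa [show x⁻¹ * (x * a * x⁻¹) * x⁻¹⁻¹ = a by group] at this
      have hAN : A i ≤ N := by
        have hmid : Z ≤ A i ⊓ N := le_inf (hle i) hZN
        obtain ⟨m, hm⟩ := Subgroup.card_dvd_of_le hmid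
        have hdvd := Subgroup.card_dvd_of_le (inf_le_left : A i ⊓ N ≤ A i)
        rw [hm, hprime i, mul_comm] at hdvd
        have hmp : m ∣ ![2, 3, 5] i := (Nat.mul_dvd_mul_iff_right hz).mp hdvd
        have hpr : Nat.Prime (![2, 3, 5] i) := by fin_cases i <;> norm_num
        rcases (Nat.dvd_prime hpr).mp hmp with h | h
        · exfalso
          rw [h, mul_one] at hm
          exact haZ ((Subgroup.eq_of_le_of_card_ge hmid hm.le).symm ▸ ⟨ha, haN⟩)
        · rw [← Subgroup.eq_of_le_of_card_ge (inf_le_left : A i ⊓ N ≤ A i) (by rw [hm, h, hprime i, mul_comm])]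
          exact inf_le_right
      rintro _ ⟨x', a', ha', -, rfl⟩
      exact (hN ▸ hMn).conj_mem _ (hAN ha') x'
    have hdisjZ : ∀ i, Disjoint (Z : Set K) (classSet Z (A i)) := fun i => by
      rw [Set.disjoint_left]
      rintro _ hyZ ⟨x, a, -, haZ, rfl⟩
      apply haZ
      have := (inferInstance : Z.Normal).conj_mem _ hyZ x⁻¹
      rwa [show x⁻¹ * (x * a * x⁻¹) * x⁻¹⁻¹ = a by group] at this
    have hpart : ∀ i, ∃ t, (t = 0 ∨ t = 1) ∧
        ((N : Set K) ∩ classSet Z (A i)).ncard = t * (![15, 20, 24] i * Nat.card Z) := fun i => by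
      by_cases h : ∃ y ∈ classSet Z (A i), y ∈ N
      · exact ⟨1, Or.inr rfl, by rw [Set.inter_eq_right.mpr (hcl i h), hsize i, one_mul]⟩
      · refine ⟨0, Or.inl rfl, ?_⟩
        rw [zero_mul, Set.ncard_eq_zero (Set.toFinite _), Set.eq_empty_iff_forall_notMem]
        exact fun y hy => h ⟨y, hy.2, hy.1⟩
    have hset : (N : Set K) = (Z : Set K) ∪ ((N : Set K) ∩ classSet Z (A 0)) ∪
        ((N : Set K) ∩ classSet Z (A 1)) ∪ ((N : Set K) ∩ classSet Z (A 2)) := by
      ext y
      simp only [Set.mem_union, Set.mem_inter_iff, SetLike.mem_coe]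
      constructor
      · intro hy
        by_cases hyZ : y ∈ Z
        · exact Or.inl (Or.inl (Or.inl hyZ))
        · obtain ⟨i, hi⟩ := hcover y hyZ
          fin_cases i
          · exact Or.inl (Or.inl (Or.inr ⟨hy, hi⟩))
          · exact Or.inl (Or.inr ⟨hy, hi⟩)
          · exact Or.inr ⟨hy, hi⟩
      · rintro (((hy | hy) | hy) | hy)
        exacts [hZN hy, hy.1, hy.1, hy.1]
    obtain ⟨t0, ht0, e0⟩ := hpart 0
    obtain ⟨t1, ht1, e1⟩ := hpart 1
    obtain ⟨t2, ht2, e2⟩ := hpart 2
    have dz : ∀ i, Disjoint (Z : Set K) ((N : Set K) ∩ classSet Z (A i)) := fun i =>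
      (hdisjZ i).mono_right Set.inter_subset_right
    have dd : ∀ i j, i ≠ j → Disjoint ((N : Set K) ∩ classSet Z (A i)) ((N : Set K) ∩ classSet Z (A j)) :=
      fun i j h => (hdisj i j h).mono Set.inter_subset_right Set.inter_subset_right
    have hcount : Nat.card N = (1 + 15 * t0 + 20 * t1 + 24 * t2) * Nat.card Z := by
      have h := congrArg Set.ncard hset
      rw [Set.ncard_union_eq (Set.disjoint_union_left.mpr ⟨Set.disjoint_union_left.mpr ⟨dz 2, dd 0 2 (by decide)⟩,
          dd 1 2 (by decide)⟩), Set.ncard_union_eq (Set.disjoint_union_left.mpr ⟨dz 1, dd 0 1 (by decide)⟩),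
        Set.ncard_union_eq (dz 0), e0, e1, e2, ← Nat.card_coe_set_eq, ← Nat.card_coe_set_eq] at h
      simp only [Matrix.cons_val_zero, Matrix.cons_val_one, Matrix.cons_val] at h
      calc Nat.card N = _ := h
        _ = Nat.card Z + t0 * (15 * Nat.card Z) + t1 * (20 * Nat.card Z) + t2 * (24 * Nat.card Z) := rfl
        _ = _ := by ring
    have hdvdN := N.card_subgroup_dvd_card
    rw [hcount, h60] at hdvdN
    have h2 := (Nat.mul_dvd_mul_iff_right hz).mp hdvdN
    have hback : N.map π = M := by rw [hN, Subgroup.map_comap_eq_self_of_surjective hπ]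
    have hall : (t0 = 0 ∧ t1 = 0 ∧ t2 = 0) ∨ (t0 = 1 ∧ t1 = 1 ∧ t2 = 1) := by
      rcases ht0 with rfl | rfl <;> rcases ht1 with rfl | rfl <;> rcases ht2 with rfl | rfl <;>
        (revert h2; norm_num)
    rcases hall with ⟨rfl, rfl, rfl⟩ | ⟨rfl, rfl, rfl⟩
    · left
      rw [← hback, ← Subgroup.eq_of_le_of_card_ge hZN (by rw [hcount]; simp), Subgroup.map_eq_bot_iff, hker]
    · right
      rw [← hback, Subgroup.eq_top_of_card_eq N (by rw [hcount, h60]), Subgroup.map_top_of_surjective π hπ]
  exact Cfsg.Agent.Lie.simple_sixty hP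

end Cfsg.Agent.Classical.Dickson
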