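import Cfsg.Agent.Lib.Classical.Dickson.SubfieldMax
import Cfsg.Agent.Lib.Char.Burnside

/-!
# Solvable subgroups of `PSL₂`
-/

set_option autoImplicit false
set_option linter.unusedSectionVars false

namespace Cfsg.Agent.Classical.Dickson

open Cfsg.Agent.Small Cfsg.Agent.Small.SL2C

theorem dihedral_solvable (k : ℕ) : Group.IsSolvable (DihedralGroup k) := by
  let f : Multiplicative (ZMod k) →* DihedralGroup k :=
    { toFun := fun i => DihedralGroup.r i.toAdd
      map_one' := DihedralGroup.r_zero
      map_mul' := fun a b => (DihedralGroup.r_mul_r a.toAdd b.toAdd).symm }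
  let g : DihedralGroup k →* Multiplicative (ZMod 2) :=
    { toFun := fun x => match x with
        | .r _ => 1
        | .sr _ => Multiplicative.ofAdd 1
      map_one' := rfl
      map_mul' := fun x y => by rcases x with i | i <;> rcases y with j | j <;> simp <;> decide }
  refine Group.isSolvable_of_ker_le_range f g fun x hx => ?_
  rcases x with i | i
  · exact ⟨Multiplicative.ofAdd i, rfl⟩
  · exact absurd (MonoidHom.mem_ker.mp hx) (by show Multiplicative.ofAdd (1 : ZMod 2) ≠ 1; decide)

theorem upperSL_solvable (F : Type*) [Field F] : Group.IsSolvable (upperSL F) := by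
  have hd : ∀ y : upperSL F, y.1.1 0 0 * y.1.1 1 1 = 1 := fun y => by
    have h := Fusion.Dickson.det_eq y.1
    rwa [show y.1.1 1 0 = 0 from y.2, mul_zero, sub_zero] at h
  let g : upperSL F →* Fˣ :=
    { toFun := fun y => ⟨y.1.1 0 0, y.1.1 1 1, hd y, by rw [mul_comm]; exact hd y⟩
      map_one' := Units.ext rfl
      map_mul' := fun a b => Units.ext (by
        show (a.1 * b.1).1 0 0 = a.1.1 0 0 * b.1.1 0 0
        rw [Fusion.Dickson.mul_entry, show b.1.1 1 0 = 0 from b.2, mul_zero, add_zero]) }
  let f : Multiplicative F →* upperSL F :=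
    { toFun := fun x => ⟨Fusion.Dickson.upU x.toAdd, rfl⟩
      map_one' := Subtype.ext Fusion.Dickson.upU_zero
      map_mul' := fun a b => Subtype.ext (PSL2.uS_add a.toAdd b.toAdd) }
  refine Group.isSolvable_of_ker_le_range f g fun y hy => ?_
  have h00 : y.1.1 0 0 = 1 := congrArg Units.val (MonoidHom.mem_ker.mp hy)
  exact ⟨Multiplicative.ofAdd (y.1.1 0 1), Subtype.ext (Fusion.Dickson.eq_upU (show y.1.1 1 0 = 0 from y.2) h00).symm⟩

theorem borelP_solvable (F : Type*) [Field F] [Fintype F] : Group.IsSolvable (borelP F) := by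
  haveI := upperSL_solvable F
  exact Group.isSolvable_of_surjective (MonoidHom.subgroupMap_surjective PSL2.pr (upperSL F))

/-- Groups of order `2^a 3^b` are solvable. -/
theorem solvable_of_two_three {G : Type*} [Group G] [Finite G] {a b : ℕ} (h : Nat.card G = 2 ^ a * 3 ^ b) :
    Group.IsSolvable G :=
  Cfsg.Agent.Char.isSolvable_of_two_primes Nat.prime_two Nat.prime_three _ h fun r hr hd => by
    rcases hr.dvd_mul.mp hd with hd | hd
    · exact Or.inl ((Nat.prime_dvd_prime_iff_eq hr Nat.prime_two).mp (hr.dvd_of_dvd_pow hd))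
    · exact Or.inr ((Nat.prime_dvd_prime_iff_eq hr Nat.prime_three).mp (hr.dvd_of_dvd_pow hd))

/-- A subgroup that is neither of type `A₅` nor over a field with at least four elements is solvable. -/
theorem solvable_or {F : Type*} [Field F] [Fintype F] (H : Subgroup (Matrix.ProjectiveSpecialLinearGroup (Fin 2) F)) :
    Group.IsSolvable H ∨ ((2 : F) ≠ 0 ∧ Nonempty (H ≃* alternatingGroup (Fin 5))) ∨
      ∃ (K : Subfield F) (m : ℕ), 1 ≤ m ∧ Nat.card K ^ m = Fintype.card F ∧ 4 ≤ Nat.card K ∧
        (Nat.card H = Nat.card K * (Nat.card K ^ 2 - 1) ∨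
          ((2 : F) ≠ 0 ∧ 2 * Nat.card H = Nat.card K * (Nat.card K ^ 2 - 1))) := by
  rcases cases_on H with ⟨k, -, ⟨hc, -⟩ | ⟨-, ⟨e⟩⟩⟩ | ⟨g, hg, -⟩ | ⟨-, ⟨f⟩⟩ | ⟨-, ⟨f⟩⟩ | h | ⟨K, m, hm, hKm, hK⟩
  · left
    haveI := hc
    letI := IsCyclic.commGroup (α := H)
    infer_instance
  · left
    haveI := dihedral_solvable k
    exact Group.isSolvable_of_isSolvable_injective (f := e.toMonoidHom) e.injective
  · left
    haveI := borelP_solvable F
    exact Group.isSolvable_of_isSolvable_injective
      (f := (Subgroup.inclusion hg).comp ((PSL2.conjP g).subgroupMap H).toMonoidHom)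
      ((Subgroup.inclusion_injective hg).comp ((PSL2.conjP g).subgroupMap H).injective)
  · exact Or.inl (solvable_of_two_three (a := 2) (b := 1) (by
      rw [Nat.card_congr f.toEquiv, nat_card_alternatingGroup, Nat.card_fin]; rfl))
  · exact Or.inl (solvable_of_two_three (a := 3) (b := 1) (by
      rw [Nat.card_congr f.toEquiv, Nat.card_perm, Nat.card_fin]; rfl))
  · exact Or.inr (Or.inl h)
  · by_cases h4 : 4 ≤ Nat.card K
    · exact Or.inr (Or.inr ⟨K, m, hm, hKm, h4, hK.imp (fun h => h.2) fun h => ⟨h.1, h.2.2⟩⟩)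
    · left
      have h2 : 2 ≤ Nat.card K := Finite.one_lt_card
      obtain h | h : Nat.card K = 2 ∨ Nat.card K = 3 := by omega
      all_goals rw [h] at hK
      · rcases hK with ⟨-, hc⟩ | ⟨-, -, hc⟩
        · exact solvable_of_two_three (a := 1) (b := 1) hc
        · exact solvable_of_two_three (a := 0) (b := 1) (by norm_num at hc ⊢; omega)
      · rcases hK with ⟨-, hc⟩ | ⟨-, -, hc⟩
        · exact solvable_of_two_three (a := 3) (b := 1) hc
        · exact solvable_of_two_three (a := 2) (b := 1) (by norm_num at hc ⊢; omega)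

end Cfsg.Agent.Classical.Dickson
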