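import Cfsg.Agent.Lib.Classical.Dickson.Polyhedral

/-!
# Dihedral groups that are not maximal for small fields
-/

set_option autoImplicit false
set_option linter.unusedSectionVars false

namespace Cfsg.Agent.Classical.Dickson

open Cfsg.Agent.Small Cfsg.Agent.Small.SL2C

section

variable {G : Type*} [Group G] [Finite G]

/-- A maximal Sylow subgroup lies in no proper larger subgroup with the same prime power. -/
theorem no_sylow_max {M H : Subgroup G} (hM : IsCoatom M) {p a : ℕ} [Fact p.Prime] (hcM : Nat.card M = p ^ a)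
    (hp : ¬ p ^ (a + 1) ∣ Nat.card G) (hH : H ≠ ⊤) (hdvd : p ^ a ∣ Nat.card H) (hlt : p ^ a < Nat.card H) : False := by
  have hfac : (Nat.card G).factorization p = a := by
    have hne : Nat.card G ≠ 0 := Nat.card_pos.ne'
    have h1 : a ≤ (Nat.card G).factorization p :=
      ((Fact.out (p := p.Prime)).pow_dvd_iff_le_factorization hne).mp (hcM ▸ Subgroup.card_subgroup_dvd_card M)
    have h2 : ¬ a + 1 ≤ (Nat.card G).factorization p := fun h =>
      hp (((Fact.out (p := p.Prime)).pow_dvd_iff_le_factorization hne).mpr h)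
    omega
  obtain ⟨K, hK⟩ := Sylow.exists_subgroup_card_pow_prime (G := H) p hdvd
  have hK' : Nat.card (K.map H.subtype) = p ^ a := by
    rw [← Nat.card_congr (K.equivMapOfInjective _ H.subtype_injective).toEquiv, hK]
  let P : Sylow p G := Sylow.ofCard M (by rw [hcM, hfac])
  let Q : Sylow p G := Sylow.ofCard (K.map H.subtype) (by rw [hK', hfac])
  obtain ⟨c, hc⟩ := MulAction.exists_smul_eq G Q P
  have hle : M ≤ H.map (MulAut.conj c).toMonoidHom := by
    have h := congrArg (fun S : Sylow p G => (S : Subgroup G)) hc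
    rw [show M = (P : Subgroup G) from rfl, ← h]
    exact Subgroup.map_mono (Subgroup.map_subtype_le K)
  rcases hM.le_iff.mp hle with h | h
  · refine hH ?_
    rw [eq_top_iff]
    intro x _
    obtain ⟨y, hy, he⟩ := h ▸ Subgroup.mem_top ((MulAut.conj c) x)
    exact (MulAut.conj c).injective he ▸ hy
  · have := congrArg (fun S : Subgroup G => Nat.card S) h
    rw [hcM, ← Nat.card_congr (H.equivMapOfInjective (MulAut.conj c).toMonoidHom (MulAut.conj c).injective).toEquiv] at this
    omega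

/-- A maximal normaliser of a Sylow subgroup of prime order lies in no larger group with that normaliser. -/
theorem no_prime_max [IsSimpleGroup G] {M H : Subgroup G} (hM : IsCoatom M) {r : ℕ} [Fact r.Prime] (hr : r ≠ 2)
    (hcM : Nat.card M = 2 * r) (hp : ¬ r ^ 2 ∣ Nat.card G) (hH : H ≠ ⊤) {X : Type*} [Group X] (f : H ≃* X)
    {z t : X} (hz : orderOf z = r) (ht : orderOf t = 2) (hzt : t * z * t⁻¹ = z⁻¹) (hlt : 2 * r < Nat.card X) : False := by
  have hr' : r.Prime := Fact.out
  obtain ⟨w, hw⟩ := exists_prime_orderOf_dvd_card' (G := M) r (by rw [hcM]; exact dvd_mul_left _ _)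
  have hn : (Subgroup.zpowers w).Normal := Subgroup.normal_of_index_eq_two (by
    have h := (Subgroup.zpowers w).card_mul_index
    rw [Nat.card_zpowers, hw, hcM, mul_comm 2] at h
    exact Nat.eq_of_mul_eq_mul_left hr'.pos h)
  obtain ⟨Z, hZ⟩ : ∃ Z, Z = Subgroup.zpowers (w : G) := ⟨_, rfl⟩
  have hwo : orderOf (w : G) = r := by rw [Subgroup.orderOf_coe, hw]
  have hMN : Subgroup.normalizer (Z : Set G) = M := by
    refine (hM.le_iff.mp fun x hx => ?_).resolve_left fun htop => ?_
    · rw [Subgroup.mem_normalizer_iff_map_conj_eq]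
      refine Subgroup.eq_of_le_of_card_ge ?_ ?_
      · rw [hZ, MonoidHom.map_zpowers, Subgroup.zpowers_le]
        obtain ⟨i, hi⟩ := Subgroup.mem_zpowers_iff.mp (hn.conj_mem w (Subgroup.mem_zpowers w) ⟨x, hx⟩)
        exact ⟨i, by simpa using congrArg Subtype.val hi⟩
      · rw [← Nat.card_congr (Z.equivMapOfInjective _ (MulAut.conj x).injective).toEquiv]
    · rcases (Subgroup.normalizer_eq_top_iff.mp htop).eq_bot_or_eq_top with h | h
      · rw [hZ, Subgroup.zpowers_eq_bot] at h
        rw [h, orderOf_one] at hwo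
        exact hr'.one_lt.ne hwo
      · refine hM.1 (eq_top_iff.mpr (h ▸ ?_))
        rw [hZ, Subgroup.zpowers_le]; exact w.2
  have hz' : orderOf ((f.symm z : H) : G) = r := by rw [Subgroup.orderOf_coe, f.symm.orderOf_eq, hz]
  have hfac : (Nat.card G).factorization r = 1 := by
    have hne : Nat.card G ≠ 0 := Nat.card_pos.ne'
    have h1 : 1 ≤ (Nat.card G).factorization r :=
      (hr'.pow_dvd_iff_le_factorization hne).mp (by rw [pow_one, ← hwo]; exact orderOf_dvd_natCard _)
    have h2 : ¬ 2 ≤ (Nat.card G).factorization r := fun h => hp ((hr'.pow_dvd_iff_le_factorization hne).mpr h)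
    omega
  let P : Sylow r G := Sylow.ofCard Z (by rw [hZ, Nat.card_zpowers, hwo, hfac, pow_one])
  let Q : Sylow r G := Sylow.ofCard (Subgroup.zpowers ((f.symm z : H) : G)) (by rw [Nat.card_zpowers, hz', hfac, pow_one])
  obtain ⟨c, hc⟩ := MulAction.exists_smul_eq G P Q
  have hNz : M.map (MulAut.conj c).toMonoidHom = Subgroup.normalizer (Subgroup.zpowers ((f.symm z : H) : G) : Set G) := by
    have h : Z.map (MulAut.conj c).toMonoidHom = Subgroup.zpowers ((f.symm z : H) : G) :=
      congrArg (fun S : Sylow r G => (S : Subgroup G)) hc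
    rw [← hMN, ← h]
    exact Subgroup.map_equiv_normalizer_eq _ (MulAut.conj c)
  have hM' : IsCoatom (M.map (MulAut.conj c).toMonoidHom) := ((MulAut.conj c).mapSubgroup.isCoatom_iff M).mpr hM
  have hcM' : Nat.card (M.map (MulAut.conj c).toMonoidHom) = 2 * r := by
    rw [← Nat.card_congr (M.equivMapOfInjective _ (MulAut.conj c).injective).toEquiv, hcM]
  have hzN : ((f.symm z : H) : G) ∈ M.map (MulAut.conj c).toMonoidHom := by
    rw [hNz]; exact Subgroup.le_normalizer (Subgroup.mem_zpowers _)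
  have htN : ((f.symm t : H) : G) ∈ M.map (MulAut.conj c).toMonoidHom := by
    rw [hNz, Subgroup.mem_normalizer_iff_map_conj_eq, MonoidHom.map_zpowers]
    simp only [MonoidHom.coe_coe]
    rw [MulAut.conj_apply, ← Subgroup.coe_inv, ← Subgroup.coe_mul, ← Subgroup.coe_mul, ← map_inv, ← map_mul, ← map_mul,
      hzt, map_inv, Subgroup.coe_inv, Subgroup.zpowers_inv]
  have hle : M.map (MulAut.conj c).toMonoidHom ≤ H := by
    have hd : 2 * r ∣ Nat.card ↥(M.map (MulAut.conj c).toMonoidHom ⊓ H) := by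
      refine Nat.Coprime.mul_dvd_of_dvd_of_dvd ((Nat.coprime_primes Nat.prime_two hr').mpr (Ne.symm hr)) ?_ ?_
      · rw [← ht, ← f.symm.orderOf_eq, ← Subgroup.orderOf_coe, ← Subgroup.orderOf_mk _ (Subgroup.mem_inf.mpr ⟨htN, (f.symm t).2⟩)]
        exact orderOf_dvd_natCard _
      · nth_rewrite 1 [← hz']
        rw [← Subgroup.orderOf_mk _ (Subgroup.mem_inf.mpr ⟨hzN, (f.symm z).2⟩)]
        exact orderOf_dvd_natCard _
    have := Subgroup.eq_of_le_of_card_ge (inf_le_left : M.map (MulAut.conj c).toMonoidHom ⊓ H ≤ _)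
      (hcM' ▸ Nat.le_of_dvd Nat.card_pos hd)
    exact this ▸ inf_le_right
  rcases hM'.le_iff.mp hle with h | h
  · exact hH h
  · rw [← h, Nat.card_congr f.toEquiv] at hcM'
    omega

end

theorem s4_three_inv : ∃ z t : Equiv.Perm (Fin 4), (z * z * z = 1 ∧ z ≠ 1) ∧ (t * t = 1 ∧ t ≠ 1) ∧ t * z * t⁻¹ = z⁻¹ :=
  ⟨Equiv.swap 0 1 * Equiv.swap 1 2, Equiv.swap 0 1, by decide, by decide, by decide⟩

theorem a5_five_inv : ∃ z t : alternatingGroup (Fin 5), (z * z * z * z * z = 1 ∧ z ≠ 1) ∧ (t * t = 1 ∧ t ≠ 1) ∧ t * z * t⁻¹ = z⁻¹ := by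
  decide +kernel

def dD2 : KleinData (DihedralGroup 2) where
  x := DihedralGroup.r 1
  y := DihedralGroup.sr 0
  hx := by decide
  hy := by decide
  hxy := by decide
  hx1 := by decide
  hy1 := by decide
  hne := by decide

theorem dD2_normal : ∀ z : DihedralGroup 2, ∀ v, v = dD2.x ∨ v = dD2.y ∨ v = dD2.x * dD2.y →
    (z * v * z⁻¹ = dD2.x ∨ z * v * z⁻¹ = dD2.y ∨ z * v * z⁻¹ = dD2.x * dD2.y) := by
  rintro z v (rfl | rfl | rfl) <;> revert z <;> decide +kernel

end Cfsg.Agent.Classical.Dickson
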