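import Cfsg.Agent.Lib.Classical.Dickson.PGLBase
import Cfsg.Agent.Lib.Classical.Dickson.SmallMax

/-!
# The maximal subgroups of `PGL₂` not containing `PSL₂`
-/

set_option autoImplicit false
set_option linter.unusedSectionVars false

namespace Cfsg.Agent.Classical.Dickson

open Cfsg.Agent.Small Cfsg.Agent.Small.SL2C

universe u

variable {F : Type u} [Field F] [Fintype F]

local notation "SL2" => Matrix.SpecialLinearGroup (Fin 2) F
local notation "P2" => Matrix.ProjectiveSpecialLinearGroup (Fin 2) F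
local notation "G2" => Matrix.ProjGenLinGroup (Fin 2) F
local notation "M2" => Matrix (Fin 2) (Fin 2) F
local notation "mk2" => (Matrix.ProjGenLinGroup.mk : GL (Fin 2) F →* Matrix.ProjGenLinGroup (Fin 2) F)
local notation "τ" => (Matrix.ProjectiveSpecialLinearGroup.toPGL :
  Matrix.ProjectiveSpecialLinearGroup (Fin 2) F →* Matrix.ProjGenLinGroup (Fin 2) F)

/-- The types of maximal subgroups of `PGL₂` not containing `PSL₂`. -/
def PGLType (M : Subgroup (Matrix.ProjGenLinGroup (Fin 2) F)) : Prop :=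
  (Nat.card M = Fintype.card F * (Fintype.card F - 1) ∧
    2 * Nat.card (M.comap (Matrix.ProjectiveSpecialLinearGroup.toPGL :
      Matrix.ProjectiveSpecialLinearGroup (Fin 2) F →* Matrix.ProjGenLinGroup (Fin 2) F)) =
      Fintype.card F * (Fintype.card F - 1)) ∨
  (∃ s : ℕ, ((s = Fintype.card F - 1 ∧ Fintype.card F ≠ 5) ∨ s = Fintype.card F + 1) ∧
    Nonempty (M ≃* DihedralGroup s) ∧
    Nonempty (M.comap (Matrix.ProjectiveSpecialLinearGroup.toPGL :
      Matrix.ProjectiveSpecialLinearGroup (Fin 2) F →* Matrix.ProjGenLinGroup (Fin 2) F) ≃* DihedralGroup (s / 2))) ∨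
  ((Fintype.card F).Prime ∧ (Fintype.card F % 8 = 3 ∨ Fintype.card F % 8 = 5) ∧ Nonempty (M ≃* Equiv.Perm (Fin 4)) ∧
    Nonempty (M.comap (Matrix.ProjectiveSpecialLinearGroup.toPGL :
      Matrix.ProjectiveSpecialLinearGroup (Fin 2) F →* Matrix.ProjGenLinGroup (Fin 2) F) ≃* alternatingGroup (Fin 4))) ∨
  (∃ (K : Subfield F) (r : ℕ), r.Prime ∧ Odd r ∧ Nat.card K ^ r = Fintype.card F ∧
    Nonempty (M ≃* Matrix.ProjGenLinGroup (Fin 2) K) ∧
    2 * Nat.card (M.comap (Matrix.ProjectiveSpecialLinearGroup.toPGL :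
      Matrix.ProjectiveSpecialLinearGroup (Fin 2) F →* Matrix.ProjGenLinGroup (Fin 2) F)) =
      Nat.card K * (Nat.card K ^ 2 - 1))

variable {M : Subgroup (Matrix.ProjGenLinGroup (Fin 2) F)}

theorem dA4_auto : ∀ v : alternatingGroup (Fin 4), v ≠ 1 → v * v = 1 → v = dA4.x ∨ v = dA4.y ∨ v = dA4.x * dA4.y := by
  decide +kernel

theorem dD2_auto : ∀ v : DihedralGroup 2, v ≠ 1 → v * v = 1 → v = dD2.x ∨ v = dD2.y ∨ v = dD2.x * dD2.y := by
  decide +kernel

theorem dS4_auto : ∀ v w : Equiv.Perm (Fin 4), v ≠ 1 → v * v = 1 → w * w = v →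
    v = dS4.x ∨ v = dS4.y ∨ v = dS4.x * dS4.y := by decide +kernel

theorem dS4_square : ∃ w w' : Equiv.Perm (Fin 4), w * w = dS4.x ∧ w' * w' = dS4.y := by decide +kernel

/-- A normalised pair gives a stable four-group. -/
theorem grp_stable {X : Type*} [Group X] (d : KleinData X) {N : Subgroup P2} (f : N ≃* X)
    (hφ : ∀ φ : X ≃* X, (φ d.x = d.x ∨ φ d.x = d.y ∨ φ d.x = d.x * d.y) ∧
      (φ d.y = d.x ∨ φ d.y = d.y ∨ φ d.y = d.x * d.y))
    {h : GL (Fin 2) F} (hN : N.map (PSL2.conjP h).toMonoidHom = N) :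
    (d.grp f).map (PSL2.conjP h).toMonoidHom = d.grp f := by
  let θ : N ≃* N := ((PSL2.conjP h).subgroupMap N).trans (MulEquiv.subgroupCongr hN)
  obtain ⟨hx, hy⟩ := hφ (f.symm.trans (θ.trans f))
  have hk := SL2Four.pairGroup_isKleinFour (d.isPair f)
  have hmem : ∀ v : X, v = d.x ∨ v = d.y ∨ v = d.x * d.y → ((f.symm v : N) : P2) ∈ d.grp f := by
    rintro v (rfl | rfl | rfl)
    · exact Or.inr (Or.inl rfl)
    · exact Or.inr (Or.inr (Or.inl rfl))
    · refine Or.inr (Or.inr (Or.inr ?_))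
      rw [map_mul, Subgroup.coe_mul]; rfl
  have key : ∀ v : X, (f.symm.trans (θ.trans f)) v = d.x ∨ (f.symm.trans (θ.trans f)) v = d.y ∨
      (f.symm.trans (θ.trans f)) v = d.x * d.y → PSL2.conjP h ((f.symm v : N) : P2) ∈ d.grp f := fun v hv => by
    have h1 : PSL2.conjP h ((f.symm v : N) : P2) = ((f.symm ((f.symm.trans (θ.trans f)) v) : N) : P2) := by
      simp [θ]
      rfl
    rw [h1]; exact hmem _ hv
  refine Subgroup.eq_of_le_of_card_ge ?_ (by rw [card_map_conj])
  rintro _ ⟨u, hu, rfl⟩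
  rcases hu with rfl | rfl | rfl | rfl
  · exact (map_one (PSL2.conjP h)).symm ▸ one_mem (d.grp f)
  · exact key _ hx
  · exact key _ hy
  · show PSL2.conjP h _ ∈ d.grp f
    rw [map_mul]
    exact mul_mem (key _ hx) (key _ hy)

theorem auto_a4 (φ : alternatingGroup (Fin 4) ≃* alternatingGroup (Fin 4)) :
    (φ dA4.x = dA4.x ∨ φ dA4.x = dA4.y ∨ φ dA4.x = dA4.x * dA4.y) ∧
      (φ dA4.y = dA4.x ∨ φ dA4.y = dA4.y ∨ φ dA4.y = dA4.x * dA4.y) :=
  ⟨dA4_auto _ (by simpa using dA4.hx1) (by rw [← map_mul, dA4.hx, map_one]),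
    dA4_auto _ (by simpa using dA4.hy1) (by rw [← map_mul, dA4.hy, map_one])⟩

theorem auto_d2 (φ : DihedralGroup 2 ≃* DihedralGroup 2) :
    (φ dD2.x = dD2.x ∨ φ dD2.x = dD2.y ∨ φ dD2.x = dD2.x * dD2.y) ∧
      (φ dD2.y = dD2.x ∨ φ dD2.y = dD2.y ∨ φ dD2.y = dD2.x * dD2.y) :=
  ⟨dD2_auto _ (by simpa using dD2.hx1) (by rw [← map_mul, dD2.hx, map_one]),
    dD2_auto _ (by simpa using dD2.hy1) (by rw [← map_mul, dD2.hy, map_one])⟩

theorem auto_s4 (φ : Equiv.Perm (Fin 4) ≃* Equiv.Perm (Fin 4)) :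
    (φ dS4.x = dS4.x ∨ φ dS4.x = dS4.y ∨ φ dS4.x = dS4.x * dS4.y) ∧
      (φ dS4.y = dS4.x ∨ φ dS4.y = dS4.y ∨ φ dS4.y = dS4.x * dS4.y) := by
  obtain ⟨w, w', hw, hw'⟩ := dS4_square
  exact ⟨dS4_auto _ (φ w) (by simpa using dS4.hx1) (by rw [← map_mul, dS4.hx, map_one]) (by rw [← map_mul, hw]),
    dS4_auto _ (φ w') (by simpa using dS4.hy1) (by rw [← map_mul, dS4.hy, map_one]) (by rw [← map_mul, hw'])⟩

theorem grp_ne {X : Type*} [Group X] (d : KleinData X) {N : Subgroup P2} (f : N ≃* X) (hN : N ≠ ⊤) :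
    d.grp f ≠ ⊥ ∧ d.grp f ≠ ⊤ := by
  refine ⟨fun h => ?_, fun h => hN (top_le_iff.mp (h ▸ ?_))⟩
  · haveI := SL2Four.pairGroup_isKleinFour (d.isPair f)
    have := (IsKleinFour.card_four : Nat.card (SL2Four.pairGroup (d.isPair f)) = 4)
    rw [show SL2Four.pairGroup (d.isPair f) = d.grp f from rfl, h, Subgroup.card_bot] at this
    omega
  · rintro u (rfl | rfl | rfl | rfl)
    · exact one_mem N
    · exact (f.symm d.x).2
    · exact (f.symm d.y).2
    · exact mul_mem (f.symm d.x).2 (f.symm d.y).2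

/-- The normaliser of a stable four-group in `PSL₂` lies in the group. -/
theorem normalizer_le_comap [IsSimpleGroup P2] (hM : IsCoatom M) {W : Subgroup P2} (hb : W ≠ ⊥) (ht : W ≠ ⊤)
    (hW : ∀ h, mk2 h ∈ M → W.map (PSL2.conjP h).toMonoidHom = W) :
    Subgroup.normalizer (W : Set P2) ≤ M.comap τ := fun z hz => by
  obtain ⟨A, rfl⟩ := PSL2.pr_surjective z
  show τ (PSL2.pr A) ∈ M
  rw [toPGL_pr]
  refine mem_of_stab hM hb ht hW ?_
  rw [PSL2.conjP_toGL]
  exact (Subgroup.mem_normalizer_iff_map_conj_eq.mp hz)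

theorem klein_data [IsSimpleGroup P2] (h2 : (2 : F) ≠ 0) (hM : IsCoatom M) (hL : ¬ (τ).range ≤ M) {X : Type*} [Group X]
    (d : KleinData X) (f : M.comap τ ≃* X)
    (hφ : ∀ φ : X ≃* X, (φ d.x = d.x ∨ φ d.x = d.y ∨ φ d.x = d.x * d.y) ∧
      (φ d.y = d.x ∨ φ d.y = d.y ∨ φ d.y = d.x * d.y)) :
    (∀ h, mk2 h ∈ M → (d.grp f).map (PSL2.conjP h).toMonoidHom = d.grp f) ∧
      ((Nat.card (Subgroup.normalizer (d.grp f : Set P2)) = 12 ∧ (Fintype.card F % 8 = 3 ∨ Fintype.card F % 8 = 5)) ∨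
        (Nat.card (Subgroup.normalizer (d.grp f : Set P2)) = 24 ∧ (Fintype.card F % 8 = 1 ∨ Fintype.card F % 8 = 7))) ∧
      Nat.card (Subgroup.normalizer (d.grp f : Set P2)) ≤ Nat.card X := by
  have hst := fun h hh => grp_stable d f hφ (h := h) (map_comap_eq_self hh)
  obtain ⟨hb, ht⟩ := grp_ne d f (comap_ne_top hL)
  refine ⟨hst, card_normalizer_klein h2 (d.isPair f), ?_⟩
  rw [← Nat.card_congr f.toEquiv]
  exact Subgroup.card_le_of_le (normalizer_le_comap hM hb ht hst)

theorem no_trivial (h2 : (2 : F) ≠ 0) (h4 : 4 ≤ Fintype.card F) (hM : IsCoatom M) (hc : Nat.card M = 2) : False := by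
  haveI := finite_pgl F
  haveI : Fact (Nat.Prime 2) := ⟨Nat.prime_two⟩
  have h8 : 4 ∣ Nat.card G2 := by
    rw [card_pgl]
    obtain ⟨m, hm⟩ := Nat.odd_iff.mpr (SL2Four.card_odd_of_two_ne_zero h2)
    refine Dvd.dvd.mul_left ⟨m * (m + 1), ?_⟩ _
    rw [hm, show (2 * m + 1) ^ 2 = 4 * (m * (m + 1)) + 1 by ring, Nat.add_sub_cancel]
  obtain ⟨K, hK, hle⟩ := Sylow.exists_subgroup_card_pow_succ (p := 2) (n := 1) (G := G2) h8 (H := M) (by rw [hc]; rfl)
  rcases hM.le_iff.mp hle with h | h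
  · rw [h, Subgroup.card_top, card_pgl] at hK
    have : 4 * 15 ≤ Fintype.card F * (Fintype.card F ^ 2 - 1) :=
      Nat.mul_le_mul h4 (Nat.le_sub_of_add_le (Nat.pow_le_pow_left h4 2))
    norm_num at hK
    omega
  · rw [h, hc] at hK; norm_num at hK

theorem torus_type (h2 : (2 : F) ≠ 0) (h4 : 4 ≤ Fintype.card F) (hM : IsCoatom M) (hL : ¬ (τ).range ≤ M) {z : P2}
    (hz1 : z ≠ 1) (hco : Nat.Coprime (orderOf z) (Fintype.card F))
    (hz : ∀ h, mk2 h ∈ M → PSL2.conjP h z ∈ Subgroup.zpowers z) :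
    ∃ s : ℕ, (s = Fintype.card F - 1 ∨ s = Fintype.card F + 1) ∧ Nonempty (M ≃* DihedralGroup s) ∧
      Nonempty (M.comap τ ≃* DihedralGroup (s / 2)) ∧ Nat.card (M.comap τ) = s := by
  classical
  haveI := finite_pgl F
  obtain ⟨g, rfl⟩ := PSL2.pr_surjective z
  have hns : ¬ IsSc g.1 := fun h => hz1 (pr_eq_one_iff.mpr h)
  have ht : g.1.trace * g.1.trace ≠ 4 := fun h => hz1 (by
    have h1 : orderOf (PSL2.pr g) = 1 := (Nat.gcd_eq_left (orderOf_dvd_of_pow_eq_one (pr_pow_card_of_trace_sq h))).symm.trans hco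
    exact orderOf_eq_one_iff.mp h1)
  obtain ⟨hcD, hisoD⟩ := pgl_dihedral h2 ht
  have hs : sol g.1.trace 1 = Fintype.card F - 1 ∨ sol g.1.trace 1 = Fintype.card F + 1 := by
    rcases sol_eq ht with ⟨-, h⟩ | ⟨-, h⟩
    · exact Or.inl h
    · exact Or.inr h
  have hle : M ≤ (torN g).map mk2 := fun x hx => by
    obtain ⟨h, rfl⟩ := Matrix.ProjGenLinGroup.mk_surjective x
    refine ⟨h, mem_torN h2 ht ?_, rfl⟩
    obtain ⟨i, hi⟩ := Subgroup.mem_zpowers_iff.mp (hz h hx)
    rw [PSL2.conjP_apply, ← map_zpow, eq_comm, PSL2.pr_eq_iff] at hi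
    obtain ⟨ε, -, hi⟩ := hi
    exact mem_tor.mpr (by
      rw [hi, Matrix.smul_mul, Matrix.mul_smul, mem_tor.mp ((tor g).zpow_mem (self_mem_tor g) i)])
  have hne : (torN g).map mk2 ≠ ⊤ := fun h => by
    rw [h, Subgroup.card_top, card_pgl] at hcD
    have : 4 * 15 ≤ Fintype.card F * (Fintype.card F ^ 2 - 1) :=
      Nat.mul_le_mul h4 (Nat.le_sub_of_add_le (Nat.pow_le_pow_left h4 2))
    have h6 : 4 * (Fintype.card F + 1) ≤ Fintype.card F * (Fintype.card F ^ 2 - 1) :=
      Nat.mul_le_mul h4 (by rw [show Fintype.card F ^ 2 - 1 = (Fintype.card F + 1) * (Fintype.card F - 1) from Nat.sq_sub_sq _ 1]; exact Nat.le_mul_of_pos_right _ (by omega))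
    omega
  have heq := (hM.le_iff.mp hle).resolve_left hne
  rw [heq] at hcD hisoD
  have hcN : Nat.card (M.comap τ) = sol g.1.trace 1 := by
    have := card_coatom h2 hM hL
    omega
  have hd := two_dvd_pred h2
  have hodd := SL2Four.card_odd_of_two_ne_zero h2
  obtain ⟨hcN', hisoN⟩ := dihedral_normalizer ht hns (by rw [hd]; omega)
  rw [hd] at hcN' hisoN
  have hle' : (Subgroup.normalizer (tor g : Set SL2)).map PSL2.pr ≤ M.comap τ := by
    rintro _ ⟨A, hA, rfl⟩
    show τ (PSL2.pr A) ∈ M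
    rw [← heq, toPGL_pr]
    refine ⟨_, mem_torN h2 ht ?_, rfl⟩
    rw [show PSL2.conjSL (Matrix.SpecialLinearGroup.toGL A) g = A * g * A⁻¹ from Subtype.ext (by
      rw [PSL2.conjSL_val, Matrix.SpecialLinearGroup.coe_mul, Matrix.SpecialLinearGroup.coe_mul]; rfl)]
    exact (Subgroup.mem_normalizer_iff.mp hA g).mp (self_mem_tor g)
  have heqN := Subgroup.eq_of_le_of_card_ge hle' (by rw [hcN, hcN']; omega)
  rw [heqN] at hisoN
  exact ⟨_, hs, hisoD, hisoN, hcN⟩

theorem field_type (h2 : (2 : F) ≠ 0) (hM : IsCoatom M) (hL : ¬ (τ).range ≤ M) (g : GL (Fin 2) F) {K : Subfield F}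
    (hK : K ≠ ⊤)
    (hconj : ∀ h : GL (Fin 2) F, mk2 h ∈ M.map (MulAut.conj (mk2 g)).toMonoidHom →
      (∀ i j, (PSL2.conjSL h (PSL2.uS (1 : F))).1 i j ∈ K) ∧ (∀ i j, (PSL2.conjSL h (PSL2.vS (1 : F))).1 i j ∈ K)) :
    ∃ (K : Subfield F) (r : ℕ), r.Prime ∧ Odd r ∧ Nat.card K ^ r = Fintype.card F ∧
      Nonempty (M ≃* Matrix.ProjGenLinGroup (Fin 2) K) ∧
      2 * Nat.card (M.comap τ) = Nat.card K * (Nat.card K ^ 2 - 1) := by
  have hle : M.map (MulAut.conj (mk2 g)).toMonoidHom ≤ (pglMap K).range := fun x hx => by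
    obtain ⟨h, rfl⟩ := Matrix.ProjGenLinGroup.mk_surjective x
    exact over_of_conj h2 (hconj h hx).1 (hconj h hx).2
  obtain ⟨r, hr, ho, hKr, ⟨e⟩⟩ := field_max_pgl h2 (coatom_map_conj hM _) (range_map_conj hL _) hK hle
  have e' : M ≃* Matrix.ProjGenLinGroup (Fin 2) K :=
    (M.equivMapOfInjective (MulAut.conj (mk2 g)).toMonoidHom (MulAut.conj (mk2 g)).injective).trans e
  refine ⟨K, r, hr, ho, hKr, ⟨e'⟩, ?_⟩
  haveI : Fintype K := Fintype.ofFinite K
  rw [← card_coatom h2 hM hL, Nat.card_congr e'.toEquiv, card_pgl, Nat.card_eq_fintype_card]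

theorem borel_type (h2 : (2 : F) ≠ 0) (hM : IsCoatom M) (hL : ¬ (τ).range ≤ M) (g : GL (Fin 2) F)
    (hle : (M.comap τ).map (PSL2.conjP g).toMonoidHom ≤ borelP F)
    (hu : PSL2.pr (PSL2.uS (1 : F)) ∈ (M.comap τ).map (PSL2.conjP g).toMonoidHom) :
    Nat.card M = Fintype.card F * (Fintype.card F - 1) ∧ 2 * Nat.card (M.comap τ) = Fintype.card F * (Fintype.card F - 1) := by
  obtain ⟨M', hM'⟩ : ∃ M', M' = M.map (MulAut.conj (mk2 g)).toMonoidHom := ⟨_, rfl⟩
  rw [← comap_map_conj, ← hM'] at hle hu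
  let U : Subgroup (GL (Fin 2) F) :=
    { carrier := {h | h.val 1 0 = 0}
      mul_mem' := fun {a b} ha hb => by
        show (a * b).val 1 0 = 0
        rw [Units.val_mul, Matrix.mul_apply, Fin.sum_univ_two, show a.val 1 0 = 0 from ha, show b.val 1 0 = 0 from hb]
        ring
      one_mem' := by show (1 : M2) 1 0 = 0; simp
      inv_mem' := fun {a} ha => by
        show (a⁻¹).val 1 0 = 0
        rw [Matrix.coe_units_inv, Matrix.inv_def, Matrix.adjugate_fin_two]
        simp [show a.val 1 0 = 0 from ha] }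
  have hMU : M' ≤ U.map mk2 := fun x hx => by
    obtain ⟨h, rfl⟩ := Matrix.ProjGenLinGroup.mk_surjective x
    refine ⟨h, ?_, rfl⟩
    have h1 : PSL2.conjP h (PSL2.pr (PSL2.uS (1 : F))) ∈ borelP F := by
      refine hle ?_
      rw [← map_comap_eq_self hx]
      exact ⟨_, hu, rfl⟩
    rw [PSL2.conjP_apply] at h1
    obtain ⟨y, hy, he⟩ := h1
    obtain ⟨ε, -, he'⟩ := (PSL2.pr_eq_iff _ _).mp he.symm
    have h10 : (PSL2.conjSL h (PSL2.uS (1 : F))).1 1 0 = 0 := by
      rw [he', Matrix.smul_apply, show y.1 1 0 = 0 from hy, smul_zero]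
    rw [PSL2.conjSL_val, Matrix.coe_units_inv, Matrix.inv_def, Matrix.adjugate_fin_two] at h10
    have hd : h.val.det ≠ 0 := ((Matrix.isUnit_iff_isUnit_det _).mp h.isUnit).ne_zero
    simp [show (PSL2.uS (1 : F)).1 = !![1, 1; 0, 1] from rfl, Matrix.mul_apply, Fin.sum_univ_two] at h10
    show h.val 1 0 = 0
    have : h.val 1 0 * h.val 1 0 * h.val.det⁻¹ = 0 := by linear_combination -h10
    exact mul_self_eq_zero.mp ((mul_eq_zero.mp this).resolve_right (inv_ne_zero hd))
  have hne : U.map mk2 ≠ ⊤ := fun h => by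
    obtain ⟨a, ha, he⟩ := h ▸ Subgroup.mem_top (mk2 (Matrix.SpecialLinearGroup.toGL (PSL2.wS : SL2)))
    obtain ⟨u, hu'⟩ := Matrix.ProjGenLinGroup.mk_eq_mk_iff.mp he
    have := congrArg (fun M : GL (Fin 2) F => M.val 1 0) hu'
    simp [Matrix.mul_apply, Fin.sum_univ_two, show a.val 1 0 = 0 from ha, Matrix.diagonal,
      Matrix.SpecialLinearGroup.toGL, show (PSL2.wS : SL2).1 = !![0, 1; -1, 0] from rfl] at this
  have heq : U.map mk2 = M' := ((hM' ▸ coatom_map_conj hM (mk2 g)).le_iff.mp hMU).resolve_left hne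
  have hN' : M'.comap τ = borelP F := le_antisymm hle (by
    rintro _ ⟨A, hA, rfl⟩
    show τ (PSL2.pr A) ∈ M'
    rw [← heq, toPGL_pr]
    exact ⟨_, hA, rfl⟩)
  have hc : Nat.card (M.comap τ) = Nat.card (borelP F) := by
    rw [← hN', hM', comap_map_conj, card_map_conj]
  have hB := card_borelP (F := F)
  rw [two_dvd_pred h2, ← hc, mul_comm (Fintype.card F - 1)] at hB
  exact ⟨by rw [card_coatom h2 hM hL, mul_comm, hB], by rw [mul_comm, hB]⟩

theorem a4_type [IsSimpleGroup P2] (h2 : (2 : F) ≠ 0) (hM : IsCoatom M) (hL : ¬ (τ).range ≤ M)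
    (f : M.comap τ ≃* alternatingGroup (Fin 4)) : PGLType M := by
  classical
  haveI := finite_pgl F
  obtain ⟨hst, hcard, hle⟩ := klein_data h2 hM hL dA4 f auto_a4
  rw [nat_card_alternatingGroup, Nat.card_fin] at hle
  rw [show Nat.factorial 4 / 2 = 12 from rfl] at hle
  have h8 : Fintype.card F % 8 = 3 ∨ Fintype.card F % 8 = 5 := by
    rcases hcard with ⟨-, h⟩ | ⟨h, -⟩
    · exact h
    · omega
  have hcN : Nat.card (M.comap τ) = 12 := by rw [Nat.card_congr f.toEquiv, nat_card_alternatingGroup, Nat.card_fin]; rfl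
  have hcM : Nat.card M = 24 := by rw [card_coatom h2 hM hL, hcN]
  obtain ⟨p, hp⟩ := CharP.exists F
  obtain ⟨n, hpp, hn⟩ := FiniteField.card F p
  haveI := hp
  haveI : Fact p.Prime := ⟨hpp⟩
  rcases Nat.lt_or_ge 1 (n : ℕ) with hn2 | hn2
  · have hodd : Odd (n : ℕ) := by
      rw [← Nat.not_even_iff_odd]
      rintro ⟨j, hj⟩
      have hpo : Odd p := hpp.odd_of_ne_two (fun e => by subst e; exact h2 (CharP.cast_eq_zero F 2))
      have hodd' : Odd (p ^ j) := hpo.pow
      obtain ⟨i, hi⟩ := hodd'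
      have : Fintype.card F % 8 = 1 := by
        rw [hn, hj, pow_add, hi, show (2 * i + 1) * (2 * i + 1) = 4 * (i * (i + 1)) + 1 by ring]
        obtain ⟨k, hk⟩ := Nat.even_mul_succ_self i
        rw [hk, show 4 * (k + k) + 1 = 1 + 8 * k by ring, Nat.add_mul_mod_self_left]
      omega
    obtain ⟨g, hg⟩ := descend_a4 h2 f (frobSub F p 1)
    have hK : frobSub F p 1 ≠ ⊤ := frobSub_ne_top le_rfl (hn ▸ Nat.pow_lt_pow_right hpp.one_lt hn2)
    obtain ⟨m, hm, hKm⟩ := subfield_pow (frobSub F p 1)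
    have hmodd : Odd m := by
      obtain ⟨f', -, hf⟩ := (Nat.dvd_prime_pow hpp).mp ((dvd_pow_self (Nat.card (frobSub F p 1)) (by omega : m ≠ 0)).trans (dvd_of_eq (hKm.trans hn)))
      have : f' * m = n := Nat.pow_right_injective hpp.two_le (show p ^ (f' * m) = p ^ (n : ℕ) by rw [pow_mul, ← hf, hKm, hn])
      exact (Nat.odd_mul.mp (this ▸ hodd)).2
    obtain ⟨A, hA⟩ := PSL2.pr_surjective (PSL2.conjP g ((f.symm dA4.x : M.comap τ) : P2))
    obtain ⟨j, hj⟩ := PSL2.pr_surjective (PSL2.conjP g ((f.symm dA4.y : M.comap τ) : P2))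
    have hAN : PSL2.pr A ∈ (M.comap τ).map (PSL2.conjP g).toMonoidHom := hA ▸ ⟨_, (f.symm dA4.x).2, rfl⟩
    have hjN : PSL2.pr j ∈ (M.comap τ).map (PSL2.conjP g).toMonoidHom := hj ▸ ⟨_, (f.symm dA4.y).2, rfl⟩
    have hpair : SL2Four.IsPair (PSL2.pr A, PSL2.pr j) := by
      obtain ⟨h1, h2', h3, h4⟩ := dA4.isPair f
      rw [hA, hj]
      exact ⟨by rw [(PSL2.conjP g).orderOf_eq]; exact h1, by rw [(PSL2.conjP g).orderOf_eq]; exact h2',
        h3.map (PSL2.conjP g), fun e => h4 ((PSL2.conjP g).injective e)⟩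
    obtain ⟨hA0, hAj⟩ : A.1.trace = 0 ∧ SL2Four.Anti A j := (SL2Four.isPair_pr_iff h2 (A, j)).mp hpair
    have hent : ∀ y : SL2, PSL2.pr y ∈ (M.comap τ).map (PSL2.conjP g).toMonoidHom → ∀ a b, y.1 a b ∈ frobSub F p 1 :=
      fun y hy => scaled_odd hmodd hKm (mem_scaledP (hg hy))
    refine Or.inr (Or.inr (Or.inr ?_))
    refine field_type h2 hM hL g hK fun h hh => ?_
    have hst' : ∀ y : SL2, PSL2.pr y ∈ (M.comap τ).map (PSL2.conjP g).toMonoidHom →
        ∀ a b, (PSL2.conjSL h y).1 a b ∈ frobSub F p 1 := fun y hy => hent _ (by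
      rw [← PSL2.conjP_apply]
      rw [← comap_map_conj] at hy ⊢
      rw [← map_comap_eq_self hh]
      exact ⟨_, hy, rfl⟩)
    have hfA := hst' A hAN
    have hfj := hst' j hjN
    refine ⟨fun a b => span_conj h2 hA0 hAj (hent A hAN) (hent j hjN) hfA hfj ?_ a b,
      fun a b => span_conj h2 hA0 hAj (hent A hAN) (hent j hjN) hfA hfj ?_ a b⟩ <;>
    · intro i k
      fin_cases i <;> fin_cases k <;> simp [PSL2.uS, PSL2.vS] <;>
        first | exact (frobSub F p 1).one_mem | exact (frobSub F p 1).zero_mem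
  · have hq : Fintype.card F = p := by rw [hn, show (n : ℕ) = 1 by have := n.pos; omega, pow_one]
    obtain ⟨E, i1, i2, φ, h2E, hφ, hE⟩ := exists_psl_embedding (F := F) h2
    have hinj : Function.Injective (φ.comp τ) := hφ.comp Matrix.ProjectiveSpecialLinearGroup.toPGL_injective
    have hpair : SL2Four.IsPair ((φ.comp τ) ((f.symm dA4.x : M.comap τ) : P2), (φ.comp τ) ((f.symm dA4.y : M.comap τ) : P2)) := by
      obtain ⟨h1, h2', h3, h4⟩ := dA4.isPair f
      exact ⟨by rw [orderOf_injective _ hinj]; exact h1, by rw [orderOf_injective _ hinj]; exact h2', h3.map _, fun e => h4 (hinj e)⟩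
    haveI := SL2Four.pairGroup_isKleinFour hpair
    obtain ⟨NE, hNE⟩ : ∃ NE, NE = Subgroup.normalizer (SL2Four.pairGroup hpair : Set (Matrix.ProjectiveSpecialLinearGroup (Fin 2) E)) := ⟨_, rfl⟩
    have hcE : Nat.card NE = 24 := by
      have hEq : Fintype.card E % 8 = 1 := by
        rw [hE, Nat.pow_mod]
        rcases h8 with h | h <;> rw [h]
      rcases card_normalizer_klein h2E hpair with ⟨-, h⟩ | ⟨h, -⟩
      · omega
      · rw [hNE]; exact h
    have hmapV : (dA4.grp f).map (φ.comp τ) = SL2Four.pairGroup hpair := by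
      haveI : IsKleinFour ↥(dA4.grp f) := SL2Four.pairGroup_isKleinFour _
      have hk : IsKleinFour ↥((dA4.grp f).map (φ.comp τ)) :=
        ⟨(Nat.card_congr ((dA4.grp f).equivMapOfInjective _ hinj).toEquiv).symm.trans IsKleinFour.card_four,
          (Monoid.exponent_eq_of_mulEquiv ((dA4.grp f).equivMapOfInjective _ hinj)).symm.trans IsKleinFour.exponent_two⟩
      exact SL2Four.eq_pairGroup (V := (dA4.grp f).map (φ.comp τ)) hpair ⟨_, Or.inr (Or.inl rfl), rfl⟩
        ⟨_, Or.inr (Or.inr (Or.inl rfl)), rfl⟩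
    have hleE : M.map φ ≤ NE := by
      rintro _ ⟨x, hx, rfl⟩
      obtain ⟨h, rfl⟩ := Matrix.ProjGenLinGroup.mk_surjective x
      rw [hNE, Subgroup.mem_normalizer_iff_map_conj_eq, ← hmapV, Subgroup.map_map]
      conv_rhs => rw [← hst h hx, Subgroup.map_map]
      congr 1
      ext y
      show φ (mk2 h) * φ (τ y) * (φ (mk2 h))⁻¹ = φ (τ (PSL2.conjP h y))
      rw [toPGL_conjP, map_mul, map_mul, map_inv]
    have heqE : M.map φ = NE := Subgroup.eq_of_le_of_card_ge hleE (by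
      rw [hcE, ← Nat.card_congr (M.equivMapOfInjective _ hφ).toEquiv, hcM])
    have hiso : Nonempty (NE ≃* Equiv.Perm (Fin 4)) := by
      subst hNE
      have hle' : SL2Four.pairGroup hpair ≤ Subgroup.normalizer (SL2Four.pairGroup hpair : Set _) := Subgroup.le_normalizer
      haveI := SL2Four.klein_subgroupOf (SL2Four.pairGroup hpair) hle'
      haveI : ((SL2Four.pairGroup hpair).subgroupOf (Subgroup.normalizer (SL2Four.pairGroup hpair : Set _))).Normal :=
        Subgroup.normal_in_normalizer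
      exact Classical.equiv_symm_four _ (SL2Four.centralizer_subgroupOf_le _ hle'
        (SL2Four.klein_self_centralizing h2E inferInstance)) hcE
    obtain ⟨e⟩ := hiso
    exact Or.inr (Or.inr (Or.inl ⟨hq ▸ hpp, h8,
      ⟨((M.equivMapOfInjective _ hφ).trans (MulEquiv.subgroupCongr heqE)).trans e⟩, ⟨f⟩⟩))

/-- The list for `PGL₂`. -/
theorem pgl_cases (h2 : (2 : F) ≠ 0) (h4 : 4 ≤ Fintype.card F) (hM : IsCoatom M) (hL : ¬ (τ).range ≤ M) :
    PGLType M := by
  classical
  haveI := finite_pgl F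
  haveI : IsSimpleGroup P2 :=
    Matrix.ProjectiveSpecialLinearGroup.rank_two_simple (by rw [Nat.card_eq_fintype_card]; omega)
  have hd := two_dvd_pred h2
  have hodd : Fintype.card F % 2 = 1 := SL2Four.card_odd_of_two_ne_zero h2
  obtain ⟨G, hG⟩ : ∃ G, G = (M.comap τ).comap PSL2.pr := ⟨_, rfl⟩
  have e1 : G.map PSL2.pr = M.comap τ := by rw [hG, map_comap_pr]
  have e : ↥(G.map PSL2.pr) ≃* ↥(M.comap τ) := MulEquiv.subgroupCongr e1
  have hcM := card_coatom h2 hM hL
  have hco : ∀ k, (k ∣ (Fintype.card F - 1) / 2 ∨ k ∣ (Fintype.card F + 1) / 2) → Nat.Coprime k (Fintype.card F) := fun k hk => by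
    rcases hk with h | h
    · refine Nat.Coprime.coprime_dvd_left (h.trans (Nat.div_dvd_of_dvd (by omega))) ?_
      have := Nat.coprime_one_right (Fintype.card F - 1)
      rwa [← Nat.coprime_add_self_right, show 1 + (Fintype.card F - 1) = Fintype.card F by omega] at this
    · exact Nat.Coprime.coprime_dvd_left (h.trans (Nat.div_dvd_of_dvd (by omega))) (by simp)
  have htor : ∀ z : M.comap τ, (z : P2) ≠ 1 → Nat.Coprime (orderOf (z : P2)) (Fintype.card F) →
      (∀ φ : M.comap τ ≃* M.comap τ, φ z ∈ Subgroup.zpowers z) →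
      ∃ s : ℕ, (s = Fintype.card F - 1 ∨ s = Fintype.card F + 1) ∧ Nonempty (M ≃* DihedralGroup s) ∧
        Nonempty (M.comap τ ≃* DihedralGroup (s / 2)) ∧ Nat.card (M.comap τ) = s := fun z hz1 hc hchar =>
    torus_type h2 h4 hM hL hz1 hc fun h hh => by
      obtain ⟨i, hi⟩ := Subgroup.mem_zpowers_iff.mp
        (hchar (((PSL2.conjP h).subgroupMap (M.comap τ)).trans (MulEquiv.subgroupCongr (map_comap_eq_self hh))))
      exact ⟨i, (congrArg Subtype.val hi)⟩
  have hK := classify (M.comap τ)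
  rw [← hG] at hK
  cases hK with
  | cyclic k hk hc hcard =>
    rw [hd] at hk
    have hcy : IsCyclic (M.comap τ) := isCyclic_of_surjective e e.surjective
    have hcN : Nat.card (M.comap τ) = k := (Nat.card_congr e.toEquiv).symm.trans hcard
    obtain ⟨z, hz⟩ := hcy.exists_generator
    have hord : orderOf z = k := by rw [orderOf_eq_card_of_forall_mem_zpowers hz, hcN]
    by_cases hk1 : k = 1
    · exact (no_trivial h2 h4 hM (by omega)).elim
    obtain ⟨s, hs, hD, hN, hcs⟩ := htor z (fun h => hk1 (by rw [← hord, ← Subgroup.orderOf_coe, h, orderOf_one]))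
      (by rw [Subgroup.orderOf_coe, hord]; exact hco k hk) (fun φ => hz _)
    refine Or.inr (Or.inl ⟨s, hs.imp (fun hh => ⟨hh, fun h5 => ?_⟩) id, hD, hN⟩)
    rcases hk with h | h <;> have := Nat.le_of_dvd (by omega) h
    · omega
    · rw [h5] at h
      have : k = 4 := by omega
      rw [this] at h; norm_num at h
  | dihedral k hk hk2 hiso =>
    rw [hd] at hk
    obtain ⟨f⟩ := hiso.map e.symm.trans
    have hcN : Nat.card (M.comap τ) = 2 * k := by rw [Nat.card_congr f.toEquiv, DihedralGroup.nat_card]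
    by_cases hk2' : k = 2
    · subst hk2'
      obtain ⟨-, hcard, hle⟩ := klein_data h2 hM hL dD2 f auto_d2
      rw [DihedralGroup.nat_card] at hle
      exfalso
      rcases hcard with ⟨h, -⟩ | ⟨h, -⟩ <;> omega
    haveI : NeZero k := ⟨by omega⟩
    have hord : orderOf (f.symm (DihedralGroup.r 1)) = k := by rw [f.symm.orderOf_eq, DihedralGroup.orderOf_r_one]
    obtain ⟨s, hs, hD, hN, hcs⟩ := htor (f.symm (DihedralGroup.r 1))
      (fun h => by rw [← Subgroup.orderOf_coe, h, orderOf_one] at hord; omega)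
      (by rw [Subgroup.orderOf_coe, hord]; exact hco k hk) (fun φ => by
        have ho : orderOf (f (φ (f.symm (DihedralGroup.r 1)))) = k := by rw [f.orderOf_eq, φ.orderOf_eq, hord]
        obtain ⟨i, hi⟩ : ∃ i, f (φ (f.symm (DihedralGroup.r 1))) = DihedralGroup.r i := by
          rcases hv : f (φ (f.symm (DihedralGroup.r 1))) with i | i
          · exact ⟨i, rfl⟩
          · rw [hv, DihedralGroup.orderOf_sr] at ho; omega
        refine ⟨(i.val : ℤ), f.injective ?_⟩
        show f (f.symm (DihedralGroup.r 1) ^ (i.val : ℤ)) = _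
        rw [zpow_natCast, map_pow, f.apply_symm_apply, hi, DihedralGroup.r_one_pow, ZMod.natCast_zmod_val])
    refine Or.inr (Or.inl ⟨s, hs.imp (fun hh => ⟨hh, fun h5 => ?_⟩) id, hD, hN⟩)
    omega
  | borel g hg hu =>
    refine Or.inl (borel_type h2 hM hL g ?_ ?_) <;> rw [← e1, ← map_pr_conj]
    · exact Subgroup.map_mono fun y hy => hg y hy
    · exact ⟨_, hu, rfl⟩
  | a4 _ hiso =>
    obtain ⟨f⟩ := hiso.map e.symm.trans
    exact a4_type h2 hM hL f
  | s4 _ hiso =>
    obtain ⟨f⟩ := hiso.map e.symm.trans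
    exfalso
    obtain ⟨hst, -, -⟩ := klein_data h2 hM hL dS4 f auto_s4
    obtain ⟨E, i1, i2, φ, h2E, hφ, hE⟩ := exists_psl_embedding (F := F) h2
    have hinj : Function.Injective (φ.comp τ) := hφ.comp Matrix.ProjectiveSpecialLinearGroup.toPGL_injective
    have hpair : SL2Four.IsPair ((φ.comp τ) ((f.symm dS4.x : M.comap τ) : P2), (φ.comp τ) ((f.symm dS4.y : M.comap τ) : P2)) := by
      obtain ⟨h1, h2', h3, h4⟩ := dS4.isPair f
      exact ⟨by rw [orderOf_injective _ hinj]; exact h1, by rw [orderOf_injective _ hinj]; exact h2', h3.map _, fun e => h4 (hinj e)⟩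
    haveI : IsKleinFour ↥(dS4.grp f) := SL2Four.pairGroup_isKleinFour _
    have hk : IsKleinFour ↥((dS4.grp f).map (φ.comp τ)) :=
      ⟨(Nat.card_congr ((dS4.grp f).equivMapOfInjective _ hinj).toEquiv).symm.trans IsKleinFour.card_four,
        (Monoid.exponent_eq_of_mulEquiv ((dS4.grp f).equivMapOfInjective _ hinj)).symm.trans IsKleinFour.exponent_two⟩
    have hmapV : (dS4.grp f).map (φ.comp τ) = SL2Four.pairGroup hpair :=
      SL2Four.eq_pairGroup (V := (dS4.grp f).map (φ.comp τ)) hpair ⟨_, Or.inr (Or.inl rfl), rfl⟩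
        ⟨_, Or.inr (Or.inr (Or.inl rfl)), rfl⟩
    have hleE : M.map φ ≤ Subgroup.normalizer (SL2Four.pairGroup hpair : Set (Matrix.ProjectiveSpecialLinearGroup (Fin 2) E)) := by
      rintro _ ⟨x, hx, rfl⟩
      obtain ⟨h, rfl⟩ := Matrix.ProjGenLinGroup.mk_surjective x
      rw [Subgroup.mem_normalizer_iff_map_conj_eq, ← hmapV, Subgroup.map_map]
      conv_rhs => rw [← hst h hx, Subgroup.map_map]
      congr 1
      ext y
      show φ (mk2 h) * φ (τ y) * (φ (mk2 h))⁻¹ = φ (τ (PSL2.conjP h y))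
      rw [toPGL_conjP, map_mul, map_mul, map_inv]
    have := Subgroup.card_le_of_le hleE
    rw [← Nat.card_congr (M.equivMapOfInjective _ hφ).toEquiv, hcM, Nat.card_congr f.toEquiv, Nat.card_perm, Nat.card_fin] at this
    rw [show Nat.factorial 4 = 24 from rfl] at this
    rcases card_normalizer_klein h2E hpair with ⟨h, -⟩ | ⟨h, -⟩ <;> omega
  | a5 _ hiso =>
    obtain ⟨f⟩ := hiso.map e.symm.trans
    have hcN : Nat.card (M.comap τ) = 60 := by rw [Nat.card_congr f.toEquiv, nat_card_alternatingGroup, Nat.card_fin]; rfl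
    obtain ⟨p, hp⟩ := CharP.exists F
    obtain ⟨n, hpp, hn⟩ := FiniteField.card F p
    haveI := hp
    haveI : Fact p.Prime := ⟨hpp⟩
    by_cases hp5 : p = 5
    · subst hp5
      have hn2 : 1 < (n : ℕ) := by
        by_contra hn1
        refine comap_ne_top hL (Subgroup.eq_top_of_card_eq _ ?_)
        have hP := card_P2 (F := F)
        rw [hd, hn, show (n : ℕ) = 1 by have := n.pos; omega] at hP
        rw [hcN]; norm_num [-Nat.card_eq_fintype_card] at hP ⊢; omega
      have h5 : (5 : F) = 0 := by exact_mod_cast CharP.cast_eq_zero F 5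
      obtain ⟨g, hg⟩ := descend_a5 h2 f (frobSub F 5 1) (fun t ht => mem_frobSub.mpr (by
        have h' : t ^ 2 + 1 = 0 := mul_self_eq_zero.mp (by linear_combination ht + t ^ 2 * h5)
        linear_combination (t ^ 3 - t) * h'))
      have hK : frobSub F 5 1 ≠ ⊤ := frobSub_ne_top le_rfl (hn ▸ Nat.pow_lt_pow_right (by norm_num) hn2)
      haveI : Fintype (frobSub F 5 1) := Fintype.ofFinite _
      have hKc : Fintype.card (frobSub F 5 1) = 5 := by
        have hle5 : Fintype.card (frobSub F 5 1) ≤ 5 := by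
          obtain ⟨u, hu⟩ := IsCyclic.exists_generator (α := (frobSub F 5 1)ˣ)
          have hord : orderOf u = Fintype.card (frobSub F 5 1) - 1 := by
            rw [orderOf_eq_card_of_forall_mem_zpowers hu, Nat.card_units, Nat.card_eq_fintype_card]
          have h4u : u ^ 4 = 1 := by
            have h5u : u ^ 4 * u = 1 * u := by
              rw [← pow_succ, one_mul]
              refine Units.ext (Subtype.ext ?_)
              push_cast
              simpa using mem_frobSub.mp (u : frobSub F 5 1).2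
            exact mul_right_cancel h5u
          have := Nat.le_of_dvd (by norm_num) (hord ▸ orderOf_dvd_of_pow_eq_one h4u)
          omega
        obtain ⟨q', hq'⟩ := CharP.exists (frobSub F 5 1)
        haveI := hq'
        haveI : CharP (frobSub F 5 1) 5 := (RingHom.charP_iff (frobSub F 5 1).subtype (frobSub F 5 1).subtype.injective 5).mpr hp
        have hd5 : 5 ∣ Fintype.card (frobSub F 5 1) := (CharP.cast_eq_zero_iff (frobSub F 5 1) 5 _).mp (Nat.cast_card_eq_zero _)
        have := Nat.le_of_dvd Fintype.card_pos hd5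
        omega
      obtain ⟨m, hm, hKm⟩ := subfield_pow (frobSub F 5 1)
      have hSle : Nat.card (scaledP (frobSub F 5 1)) ≤ 120 := by
        have h := Subgroup.card_le_of_le (scaledP_map_le (frobSub F 5 1))
        rw [← Nat.card_congr ((scaledP (frobSub F 5 1)).equivMapOfInjective _ Matrix.ProjectiveSpecialLinearGroup.toPGL_injective).toEquiv,
          ← Nat.card_congr (MonoidHom.ofInjective (pglMap_injective (frobSub F 5 1))).toEquiv, card_pgl, hKc] at h
        exact h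
      have hsub : ∀ y : SL2, y ∈ scaled (frobSub F 5 1) → PSL2.pr y ^ 5 = 1 →
          PSL2.pr y ∈ (M.comap τ).map (PSL2.conjP g).toMonoidHom := fun y hy h5y => by
        obtain ⟨N', hN'⟩ : ∃ N', N' = (M.comap τ).map (PSL2.conjP g).toMonoidHom := ⟨_, rfl⟩
        rw [← hN'] at hg ⊢
        have hcN' : Nat.card N' = 60 := by rw [hN', card_map_conj, hcN]
        have hidx := (N'.subgroupOf (scaledP (frobSub F 5 1))).card_mul_index
        rw [Nat.card_congr (Subgroup.subgroupOfEquivOfLe hg).toEquiv, hcN'] at hidx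
        have hyS : PSL2.pr y ∈ scaledP (frobSub F 5 1) := ⟨y, hy, rfl⟩
        obtain ⟨i, hi⟩ : ∃ i, i = (N'.subgroupOf (scaledP (frobSub F 5 1))).index := ⟨_, rfl⟩
        rw [← hi] at hidx
        have hi0 : i ≠ 0 := by rw [hi]; exact Subgroup.index_ne_zero_of_finite
        have hi2 : i ≤ 2 := by omega
        obtain hi1 | hi1 : i = 1 ∨ i = 2 := by omega
        · have : (⟨_, hyS⟩ : scaledP (frobSub F 5 1)) ∈ N'.subgroupOf (scaledP (frobSub F 5 1)) := by
            rw [Subgroup.index_eq_one.mp (hi.symm.trans hi1)]; trivial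
          exact this
        · have := Subgroup.mul_self_mem_of_index_two (hi.symm.trans hi1) ((⟨_, hyS⟩ : scaledP (frobSub F 5 1)) ^ 3)
          rw [Subgroup.mem_subgroupOf, ← pow_add, Subgroup.coe_pow, show (3 + 3) = 5 + 1 from rfl, pow_succ, h5y, one_mul] at this
          exact this
      have hone : ∀ n : ℕ, ((PSL2.uS (1 : F)) ^ n).1 = !![1, (n : F); 0, 1] ∧ ((PSL2.vS (1 : F)) ^ n).1 = !![1, 0; (n : F), 1] := by
        intro n
        induction n with
        | zero => simp [Matrix.one_fin_two]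
        | succ n ih =>
          rw [pow_succ, pow_succ, Matrix.SpecialLinearGroup.coe_mul, Matrix.SpecialLinearGroup.coe_mul, ih.1, ih.2,
            show (PSL2.uS (1 : F)).1 = !![1, 1; 0, 1] from rfl, show (PSL2.vS (1 : F)).1 = !![1, 0; 1, 1] from rfl]
          simp [Matrix.mul_fin_two, add_comm]
      have hu5 : PSL2.pr (PSL2.uS (1 : F)) ^ 5 = 1 := by
        rw [← map_pow, show (PSL2.uS (1 : F)) ^ 5 = 1 from Subtype.ext (by
          rw [(hone 5).1, Nat.cast_ofNat, h5]; exact Matrix.one_fin_two.symm), map_one]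
      have hv5 : PSL2.pr (PSL2.vS (1 : F)) ^ 5 = 1 := by
        rw [← map_pow, show (PSL2.vS (1 : F)) ^ 5 = 1 from Subtype.ext (by
          rw [(hone 5).2, Nat.cast_ofNat, h5]; exact Matrix.one_fin_two.symm), map_one]
      have hus : PSL2.uS (1 : F) ∈ scaled (frobSub F 5 1) := uS_mem_scaled.mpr (frobSub F 5 1).one_mem
      have hvs : PSL2.vS (1 : F) ∈ scaled (frobSub F 5 1) := ⟨1, !![1, 0; 1, 1], by
        ext i j; fin_cases i <;> fin_cases j <;> simp [PSL2.vS] <;> rfl⟩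
      refine Or.inr (Or.inr (Or.inr (field_type h2 hM hL g hK fun h hh => ?_)))
      have hst' : ∀ y : SL2, PSL2.pr y ∈ (M.comap τ).map (PSL2.conjP g).toMonoidHom →
          PSL2.conjSL h y ∈ scaled (frobSub F 5 1) := fun y hy => mem_scaledP (hg (by
        rw [← PSL2.conjP_apply]
        rw [← comap_map_conj] at hy ⊢
        rw [← map_comap_eq_self hh]
        exact ⟨_, hy, rfl⟩))
      exact ⟨entries_of_trace_two h2 (hst' _ (hsub _ hus hu5)) (by
          rw [PSL2.conjSL_val, Matrix.trace_units_conj]; simp [PSL2.uS, Matrix.trace_fin_two]; norm_num),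
        entries_of_trace_two h2 (hst' _ (hsub _ hvs hv5)) (by
          rw [PSL2.conjSL_val, Matrix.trace_units_conj]; simp [PSL2.vS, Matrix.trace_fin_two]; norm_num)⟩
    · exfalso
      obtain ⟨E, i1, i2, φ, h2E, hφ, hE⟩ := exists_psl_embedding (F := F) h2
      have hcMφ : Nat.card (M.map φ) = 120 := by
        rw [← Nat.card_congr (M.equivMapOfInjective _ hφ).toEquiv, hcM, hcN]
      have hleN : (M.comap τ).map (φ.comp τ) ≤ M.map φ := by
        rintro _ ⟨y, hy, rfl⟩; exact ⟨τ y, hy, rfl⟩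
      have hinj : Function.Injective (φ.comp τ) := hφ.comp Matrix.ProjectiveSpecialLinearGroup.toPGL_injective
      rcases rich_overgroup h2E hleN (rich_a5.map (f.symm.trans ((M.comap τ).equivMapOfInjective _ hinj)).toMonoidHom
          (f.symm.trans ((M.comap τ).equivMapOfInjective _ hinj)).injective) with
        ⟨⟨e'⟩⟩ | ⟨⟨e'⟩⟩ | ⟨⟨e'⟩⟩ | ⟨K, m, hm, hKm, hK⟩
      · rw [Nat.card_congr e'.toEquiv, nat_card_alternatingGroup, Nat.card_fin] at hcMφ; norm_num [Nat.factorial] at hcMφ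
      · rw [Nat.card_congr e'.toEquiv, Nat.card_perm, Nat.card_fin] at hcMφ; norm_num [Nat.factorial] at hcMφ
      · rw [Nat.card_congr e'.toEquiv, nat_card_alternatingGroup, Nat.card_fin] at hcMφ; norm_num [Nat.factorial] at hcMφ
      · rw [hcMφ] at hK
        have hlt : Nat.card K ≤ 6 := by
          by_contra h7
          have h7' : 7 ≤ Nat.card K := by omega
          have h336 : 7 * 48 ≤ Nat.card K * (Nat.card K ^ 2 - 1) :=
            Nat.mul_le_mul h7' (Nat.le_sub_of_add_le (Nat.pow_le_pow_left h7' 2))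
          omega
        have hK5 : Nat.card K = 5 := by
          obtain h | h | h | h | h | h | h : Nat.card K = 0 ∨ Nat.card K = 1 ∨ Nat.card K = 2 ∨ Nat.card K = 3 ∨
              Nat.card K = 4 ∨ Nat.card K = 5 ∨ Nat.card K = 6 := by omega
          all_goals first | exact h | (rw [h] at hK; norm_num at hK)
        rw [hK5, hE, hn, ← pow_mul] at hKm
        have h55 : 5 ∣ p ^ ((n : ℕ) * 2) := hKm ▸ dvd_pow_self 5 (by omega)
        exact hp5 ((Nat.prime_dvd_prime_iff_eq (by norm_num) hpp).mp (Nat.Prime.dvd_of_dvd_pow (by norm_num) h55)).symm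
  | field g K hlow hhigh hiso =>
    refine Or.inr (Or.inr (Or.inr ?_))
    have hgle : (M.comap τ).map (PSL2.conjP g).toMonoidHom ≤ scaledP K := by
      rw [← e1, ← map_pr_conj]
      refine Subgroup.map_mono fun y hy => ?_
      obtain ⟨c, N, hN, he⟩ := hhigh y hy
      exact ⟨c, Matrix.of fun i j => ⟨N i j, hN i j⟩, he.trans (congrArg (c • ·) (Matrix.ext fun i j => rfl))⟩
    refine field_type h2 hM hL g (K := K) (fun hKtop => ?_) fun h hh => ?_
    · haveI : Fintype K := Fintype.ofFinite K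
      have hKc : Fintype.card K = Fintype.card F := by
        rw [← Nat.card_eq_fintype_card, ← Nat.card_eq_fintype_card, hKtop]
        exact Nat.card_congr Subfield.topEquiv.toEquiv
      refine comap_ne_top hL (Subgroup.eq_top_of_le_card _ ?_)
      rw [← e1]
      have hP := card_P2 (F := F)
      rcases hiso with ⟨⟨f⟩⟩ | ⟨-, ⟨f⟩⟩
      · rw [Nat.card_congr f.toEquiv, card_pgl, hKc, ← hP]
        exact Nat.le_mul_of_pos_right _ (Nat.gcd_pos_of_pos_left _ two_pos)
      · have := card_psl K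
        rw [hKc, ← hP, ← Nat.card_congr f.toEquiv] at this
        exact (Nat.eq_of_mul_eq_mul_right (Nat.gcd_pos_of_pos_left _ two_pos) this).ge
    have hmem : ∀ y : SL2, y ∈ G.map (PSL2.conjSL g).toMonoidHom → y.1.trace = 2 →
        ∀ i j, (PSL2.conjSL h y).1 i j ∈ K := fun y hy ht => by
      refine entries_of_trace_two h2 (mem_scaledP (hgle ?_)) (by rw [PSL2.conjSL_val, Matrix.trace_units_conj, ht])
      have h1 : PSL2.pr y ∈ (M.comap τ).map (PSL2.conjP g).toMonoidHom := by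
        rw [← e1, ← map_pr_conj]; exact ⟨y, hy, rfl⟩
      rw [← PSL2.conjP_apply]
      rw [← comap_map_conj] at h1 ⊢
      rw [← map_comap_eq_self hh]
      exact ⟨_, h1, rfl⟩
    exact ⟨hmem _ (hlow 1 K.one_mem).1 (by simp [PSL2.uS, Matrix.trace_fin_two]; norm_num),
      hmem _ (hlow 1 K.one_mem).2 (by simp [PSL2.vS, Matrix.trace_fin_two]; norm_num)⟩

end Cfsg.Agent.Classical.Dickson
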