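import Mathlib

/-!
# The class equations in Dickson's classification
-/

set_option autoImplicit false

namespace Cfsg.Agent.Classical.Dickson

/-- A class contributes at least a quarter, and a self-normalising one at least half. -/
theorem quarter {K X a ε : ℤ} (hK : 0 ≤ K) (ha : 2 ≤ a) (hε : ε = 1 ∨ ε = 2)
    (hX : X * (ε * a) = K * (a - 1)) : K ≤ 4 * X ∧ (ε = 1 → K ≤ 2 * X) := by
  rcases hε with rfl | rfl <;> refine ⟨?_, ?_⟩
  · by_contra hc; push Not at hc; nlinarith
  · intro _; by_contra hc; push Not at hc; nlinarith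
  · by_contra hc; push Not at hc; nlinarith
  · intro h; omega

/-- One class. -/
theorem one_class {g z a ε X : ℤ} (hz : 0 < z) (ha : 2 ≤ a) (hε : ε = 1 ∨ ε = 2) (hle : ε * a ≤ g)
    (hX : X * (ε * a) = z * g * (a - 1)) (hsum : X + z = z * g) : ε = 1 ∧ g = a := by
  have hx : X = z * (g - 1) := by linear_combination hsum
  subst hx
  have h1 : (g - 1) * (ε * a) = g * (a - 1) :=
    mul_left_cancel₀ hz.ne' (by linear_combination hX)
  rcases hε with rfl | rfl
  · exact ⟨rfl, by linarith⟩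
  · exfalso; nlinarith

/-- Two classes. -/
theorem two_class {g z a b ε δ X Y : ℤ} (hz : 0 < z) (hg : 0 < g) (ha : 2 ≤ a) (hb : 2 ≤ b)
    (hε : ε = 1 ∨ ε = 2) (hδ : δ = 1 ∨ δ = 2) (hla : ε * a ≤ g) (hlb : δ * b ≤ g)
    (hX : X * (ε * a) = z * g * (a - 1)) (hY : Y * (δ * b) = z * g * (b - 1))
    (hsum : X + Y + z = z * g) :
    (ε = 1 ∧ δ = 2 ∧ ((a = 2 ∧ g = 2 * b) ∨ (a = 3 ∧ b = 2 ∧ g = 12))) ∨
      (δ = 1 ∧ ε = 2 ∧ ((b = 2 ∧ g = 2 * a) ∨ (b = 3 ∧ a = 2 ∧ g = 12))) := by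
  have h1 : (g - 1) * (ε * a) * (δ * b) = g * ((a - 1) * (δ * b) + (b - 1) * (ε * a)) :=
    mul_left_cancel₀ hz.ne' (by linear_combination (δ * b) * hX + (ε * a) * hY - (ε * a) * (δ * b) * hsum)
  rcases hε with rfl | rfl <;> rcases hδ with rfl | rfl
  · exfalso
    nlinarith [mul_le_mul_of_nonneg_left (show (0 : ℤ) ≤ (a - 1) * (b - 1) - 1 by nlinarith) hg.le]
  · left
    refine ⟨rfl, rfl, ?_⟩
    have h2 : g * (2 * b + a - a * b) = 2 * a * b := by linear_combination h1
    have hab : a * (b - 1) < 2 * b := by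
      by_contra hc; push Not at hc
      nlinarith
    have ha4 : a < 4 := by nlinarith
    interval_cases a
    · left; refine ⟨rfl, ?_⟩; linarith
    · right
      have : b < 3 := by linarith
      obtain rfl : b = 2 := by omega
      exact ⟨rfl, rfl, by linarith⟩
  · right
    refine ⟨rfl, rfl, ?_⟩
    have h2 : g * (2 * a + b - a * b) = 2 * a * b := by linear_combination h1
    have hab : b * (a - 1) < 2 * a := by
      by_contra hc; push Not at hc
      nlinarith
    have hb4 : b < 4 := by nlinarith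
    interval_cases b
    · left; refine ⟨rfl, ?_⟩; linarith
    · right
      have : a < 3 := by linarith
      obtain rfl : a = 2 := by omega
      exact ⟨rfl, rfl, by linarith⟩
  · exfalso
    have h2 : g * (a + b) = 2 * a * b := mul_left_cancel₀ (two_ne_zero (α := ℤ)) (by linear_combination h1)
    nlinarith

/-- Three classes. -/
theorem three_class {g z a b c ε δ γ X Y W : ℤ} (hz : 0 < z) (hg : 0 < g) (ha : 2 ≤ a) (hb : 2 ≤ b) (hc : 2 ≤ c)
    (hε : ε = 1 ∨ ε = 2) (hδ : δ = 1 ∨ δ = 2) (hγ : γ = 1 ∨ γ = 2)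
    (hab : a ≤ b) (hbc : b ≤ c) (hla : ε * a ≤ g) (hlc : γ * c ≤ g)
    (hX : X * (ε * a) = z * g * (a - 1)) (hY : Y * (δ * b) = z * g * (b - 1))
    (hW : W * (γ * c) = z * g * (c - 1))
    (hsum : X + Y + W + z = z * g) :
    ε = 2 ∧ δ = 2 ∧ γ = 2 ∧ a = 2 ∧ ((b = 2 ∧ g = 2 * c) ∨ (b = 3 ∧ c = 3 ∧ g = 12) ∨
      (b = 3 ∧ c = 4 ∧ g = 24) ∨ (b = 3 ∧ c = 5 ∧ g = 60)) := by
  have hzg : 0 ≤ z * g := by positivity
  obtain ⟨qX, qX'⟩ := quarter hzg ha hε hX
  obtain ⟨qY, qY'⟩ := quarter hzg hb hδ hY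
  obtain ⟨qW, qW'⟩ := quarter hzg hc hγ hW
  obtain rfl : ε = 2 := hε.resolve_left fun h => by have := qX' h; linarith
  obtain rfl : δ = 2 := hδ.resolve_left fun h => by have := qY' h; linarith
  obtain rfl : γ = 2 := hγ.resolve_left fun h => by have := qW' h; linarith
  refine ⟨rfl, rfl, rfl, ?_⟩
  have h1 : g * (a * b + b * c + c * a - a * b * c) = 2 * (a * b * c) := mul_left_cancel₀ hz.ne' (by
    linear_combination (b * c) * hX + (a * c) * hY + (a * b) * hW - 2 * (a * b * c) * hsum)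
  have hpos : 0 < a * b + b * c + c * a - a * b * c := by
    by_contra hn; push Not at hn
    have : 0 < a * b * c := by positivity
    nlinarith
  have ha3 : a < 3 := by
    by_contra hn; push Not at hn
    have h3 : 3 * (b * c) ≤ a * (b * c) := mul_le_mul_of_nonneg_right hn (by positivity)
    nlinarith [mul_le_mul_of_nonneg_right hab (show (0 : ℤ) ≤ c by omega),
      mul_le_mul_of_nonneg_left hbc (show (0 : ℤ) ≤ a by omega)]
  obtain rfl : a = 2 := by omega
  refine ⟨rfl, ?_⟩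
  have hb4 : b < 4 := by
    by_contra hn; push Not at hn
    nlinarith [mul_le_mul_of_nonneg_right hn (show (0 : ℤ) ≤ c by omega)]
  interval_cases b
  · left; refine ⟨rfl, ?_⟩; linarith
  · have hc6 : c < 6 := by linarith
    interval_cases c
    · right; left; exact ⟨rfl, rfl, by linarith⟩
    · right; right; left; exact ⟨rfl, rfl, by linarith⟩
    · right; right; right; exact ⟨rfl, rfl, by linarith⟩

/-- No split torus in the normaliser of the transvections: one further class. -/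
theorem unip_one {g z Q a ε U X : ℤ} (hz : 0 < z) (hg : 0 < g) (hQ : 2 ≤ Q) (ha : 2 ≤ a)
    (hε : ε = 1 ∨ ε = 2) (hU : U * Q = z * g * (Q - 1)) (hX : X * (ε * a) = z * g * (a - 1))
    (hsum : U + X + z = z * g) :
    ε = 2 ∧ ((Q = 2 ∧ g = 2 * a) ∨ (Q = 3 ∧ a = 2 ∧ g = 12)) := by
  rcases hε with rfl | rfl
  · exfalso
    have h1 : (g - 1) * a * Q = g * ((Q - 1) * a + (a - 1) * Q) :=
      mul_left_cancel₀ hz.ne' (by linear_combination a * hU + Q * hX - a * Q * hsum)
    nlinarith [mul_le_mul_of_nonneg_left (show (0 : ℤ) ≤ (a - 1) * (Q - 1) - 1 by nlinarith) hg.le]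
  · refine ⟨rfl, ?_⟩
    have h1 : g * (2 * a + Q - a * Q) = 2 * a * Q :=
      mul_left_cancel₀ hz.ne' (by linear_combination (2 * a) * hU + Q * hX - 2 * a * Q * hsum)
    have hQ4 : Q < 4 := by
      by_contra hn; push Not at hn
      have h0 : 2 * a + Q - a * Q ≤ 0 := by
        nlinarith [mul_nonneg (show (0 : ℤ) ≤ a - 2 by omega) (show (0 : ℤ) ≤ Q - 4 by omega)]
      have : g * (2 * a + Q - a * Q) ≤ 0 := mul_nonpos_of_nonneg_of_nonpos hg.le h0
      have : 0 < a * Q := by positivity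
      linarith
    interval_cases Q
    · left; exact ⟨rfl, by linarith⟩
    · right
      have : a < 3 := by nlinarith
      obtain rfl : a = 2 := by omega
      exact ⟨rfl, rfl, by linarith⟩

/-- A split torus and one further class. -/
theorem torus {g z Q d k b U D X : ℤ} (hz : 0 < z) (hQ : 3 ≤ Q) (hd : 2 ≤ d) (hdQ : d + 1 ≤ Q) (hk : 1 ≤ k)
    (hb : 2 ≤ b) (hg : g = d * Q * (1 + k * Q)) (hU : U * (d * Q) = z * g * (Q - 1))
    (hD : D * (2 * d) = z * g * (d - 1)) (hX : X * (2 * b) = z * g * (b - 1))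
    (hsum : U + D + X + z = z * g) :
    (k = 1 ∧ (d = Q - 1 ∨ 2 * d = Q - 1)) ∨ (Q = 3 ∧ d = 2 ∧ k = 3 ∧ b = 5 ∧ g = 60) := by
  have hdQ0 : 0 < d * Q := by positivity
  have h1 : g * (d * Q - b * Q + 2 * b) = 2 * (d * Q) * b := mul_left_cancel₀ hz.ne' (by
    linear_combination (2 * b) * hU + (b * Q) * hD + (d * Q) * hX - 2 * b * (d * Q) * hsum)
  have h2 : b * (1 + k * (Q - 2)) = d * (1 + k * Q) := by
    have h2' : (1 + k * Q) * (d * Q - b * Q + 2 * b) = 2 * b :=
      mul_left_cancel₀ hdQ0.ne' (by rw [hg] at h1; linear_combination h1)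
    exact mul_left_cancel₀ (show Q ≠ 0 by omega) (by linear_combination -h2')
  have hcop : IsCoprime (1 + k * (Q - 2)) k := ⟨1, -(Q - 2), by ring⟩
  have hdiv : 1 + k * (Q - 2) ∣ k * (2 * d) := ⟨b - d, by linear_combination -h2⟩
  have hdiv2 : 1 + k * (Q - 2) ∣ 2 * d := hcop.dvd_of_dvd_mul_left hdiv
  have hle : 1 + k * (Q - 2) ≤ 2 * d := Int.le_of_dvd (by omega) hdiv2
  have hk4 : k < 4 := by
    by_contra hn; push Not at hn
    nlinarith [mul_le_mul_of_nonneg_right hn (show (0 : ℤ) ≤ Q - 2 by omega)]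
  obtain ⟨m, hm⟩ := hdiv2
  have hm0 : 0 < m := by
    by_contra hn; push Not at hn
    have := mul_nonpos_of_nonneg_of_nonpos (show (0 : ℤ) ≤ 1 + k * (Q - 2) by nlinarith) hn
    omega
  interval_cases k
  · left
    refine ⟨rfl, ?_⟩
    have hm3 : m < 3 := by nlinarith
    interval_cases m <;> omega
  · exfalso
    have hm2 : m < 2 := by nlinarith
    interval_cases m
    omega
  · right
    obtain rfl : Q = 3 := by omega
    obtain rfl : d = 2 := by omega
    refine ⟨rfl, rfl, rfl, by omega, by rw [hg]; norm_num⟩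

end Cfsg.Agent.Classical.Dickson
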