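import Cfsg.Agent.Lib.Classical.Dickson.Setup
import Cfsg.Agent.Lib.Lead.GLBasic

/-!
# The linear case of Dickson's classification
-/

set_option autoImplicit false
set_option linter.unusedSectionVars false

namespace Cfsg.Agent.Classical.Dickson

open Cfsg.Agent.Small Cfsg.Agent.Small.SL2C
open Cfsg.Agent.Fusion.Dickson (scalarsIn shifts pts)

variable {F : Type*} [Field F] [Fintype F]

local notation "SL2" => Matrix.SpecialLinearGroup (Fin 2) F

/-- An additive subgroup containing one and closed under inversion is a subfield. -/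
theorem exists_subfield (S : AddSubgroup F) (h1 : (1 : F) ∈ S) (hinv : ∀ a ∈ S, a⁻¹ ∈ S) :
    ∃ K : Subfield F, ∀ x, x ∈ K ↔ x ∈ S := by
  classical
  have hua : ∀ a ∈ S, ∀ b ∈ S, a * b * a ∈ S := by
    intro a ha b hb
    by_cases hb0 : b = 0
    · simp [hb0]
    by_cases ha0 : a = 0
    · simp [ha0]
    by_cases hab : a * b = 1
    · rw [hab, one_mul]; exact ha
    have e : (a⁻¹ + (b⁻¹ - a)⁻¹)⁻¹ = a - a * b * a := by
      have h2 : b⁻¹ - a ≠ 0 := fun h => hab (by
        rw [sub_eq_zero] at h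
        rw [← h, inv_mul_cancel₀ hb0])
      have h3 : a⁻¹ + (b⁻¹ - a)⁻¹ = b⁻¹ / (a * (b⁻¹ - a)) := by
        field_simp
        ring
      rw [h3, inv_div, div_inv_eq_mul]
      field_simp
    have hm := sub_mem ha (hinv _ (add_mem (hinv _ ha) (hinv _ (sub_mem (hinv _ hb) ha))))
    rwa [e, sub_sub_cancel] at hm
  have hsq : ∀ a ∈ S, a * a ∈ S := fun a ha => by simpa using hua a ha 1 h1
  have hmul : ∀ a ∈ S, ∀ b ∈ S, a * b ∈ S := by
    intro a ha b hb
    by_cases h2 : (2 : F) = 0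
    · haveI : Finite S := inferInstance
      have hinj : Function.Injective fun x : S => (⟨x.1 * x.1, hsq x.1 x.2⟩ : S) := fun x y h => by
        have h' := congrArg Subtype.val h
        refine Subtype.ext (sub_eq_zero.mp (mul_self_eq_zero.mp ?_))
        simp only at h'
        linear_combination h' + (y.1 * y.1 - x.1 * y.1) * h2
      obtain ⟨⟨r, hr⟩, he⟩ := (Finite.injective_iff_surjective.1 hinj) ⟨a, ha⟩
      have he' : r * r = a := congrArg Subtype.val he
      have := hua r hr b hb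
      rwa [← he', show r * r * b = r * b * r by ring]
    · have hd : 2 * (a * b) ∈ S := by
        have := sub_mem (sub_mem (hsq _ (add_mem ha hb)) (hsq a ha)) (hsq b hb)
        rwa [show (a + b) * (a + b) - a * a - b * b = 2 * (a * b) by ring] at this
      by_cases hab : a * b = 0
      · rw [hab]; exact zero_mem _
      have h4 := hinv _ hd
      have h5 := add_mem h4 h4
      rw [show (2 * (a * b))⁻¹ + (2 * (a * b))⁻¹ = (a * b)⁻¹ by field_simp; ring] at h5
      simpa using hinv _ h5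
  exact ⟨{ carrier := S, one_mem' := h1, zero_mem' := zero_mem _, add_mem' := S.add_mem',
           neg_mem' := S.neg_mem', mul_mem' := fun {x y} hx hy => hmul x hx y hy,
           inv_mem' := fun x hx => hinv x hx }, fun _ => Iff.rfl⟩

theorem uS_eq_upU (x : F) : PSL2.uS x = Fusion.Dickson.upU x := rfl

theorem vS_eq_lowL (x : F) : PSL2.vS x = Fusion.Dickson.lowL x := rfl

variable {G : Subgroup (Matrix.SpecialLinearGroup (Fin 2) F)}

/-- With `0` among the points and the translations regular on them, the translations form a field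
`K` and the subgroup lies between `SL₂(K)` and `F^× GL₂(K)`. -/
theorem field_zero (hu : PSL2.uS (1 : F) ∈ G) (h0 : (0 : F) ∈ pts G)
    (hcard : Nat.card (pts G) = Nat.card (shifts G)) :
    ∃ K : Subfield F, Nat.card K = Nat.card (shifts G) ∧
      (∀ x ∈ K, PSL2.uS x ∈ G ∧ PSL2.vS x ∈ G) ∧
      (∀ y ∈ G, ∃ c : F, ∃ M : Matrix (Fin 2) (Fin 2) F, (∀ i j, M i j ∈ K) ∧ (y : SL2).1 = c • M) := by
  have hsub : (shifts G : Set F) ⊆ pts G := fun s hs => by
    simpa using Fusion.Dickson.shifts_add_mem_pts hs h0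
  have heq : (shifts G : Set F) = pts G := Set.eq_of_subset_of_ncard_le hsub
    (by rw [← Nat.card_coe_set_eq, ← Nat.card_coe_set_eq]; exact hcard.le) Fusion.Dickson.pts_finite
  have hpts : ∀ y ∈ G, (y : SL2).1 1 0 ≠ 0 → (y : SL2).1 0 0 / (y : SL2).1 1 0 ∈ shifts G := fun y hy hne => by
    rw [← SetLike.mem_coe, heq]; exact ⟨y, hy, hne, rfl⟩
  obtain ⟨y, hy, hy0, he⟩ := h0
  have ha : y.1 0 0 = 0 := by
    rcases div_eq_zero_iff.1 he.symm with h | h
    exacts [h, absurd h hy0]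
  have hbc : y.1 0 1 * y.1 1 0 = -1 := by
    have := Fusion.Dickson.det_eq y
    rw [ha, zero_mul] at this
    linear_combination -this
  obtain ⟨i1, i2, i3, i4⟩ := Fusion.Dickson.inv_entries y
  have hconj : ∀ s, y * PSL2.uS s * y⁻¹ = PSL2.vS (-(y.1 1 0) ^ 2 * s) := fun s => by
    apply Fusion.Dickson.ext' <;> simp [uS_eq_upU, vS_eq_lowL, Fusion.Dickson.mul_entry, i1, i2, i3, i4, ha]
    · linear_combination -hbc
    · ring
    · linear_combination -hbc
  have hsh : ∀ s, s ∈ shifts G ↔ PSL2.uS s ∈ G := fun s => Iff.rfl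
  have hf : ∀ s ∈ shifts G, (-(y.1 1 0) ^ 2 * s)⁻¹ ∈ shifts G := fun s hs => by
    by_cases h : -(y.1 1 0) ^ 2 * s = 0
    · rw [h, _root_.inv_zero]; exact zero_mem _
    · have := hpts (PSL2.vS (-(y.1 1 0) ^ 2 * s))
        (hconj s ▸ mul_mem (mul_mem hy hs) (inv_mem hy)) (by simpa using h)
      simpa using this
  have hfi : Function.Injective fun s : shifts G => (⟨(-(y.1 1 0) ^ 2 * s.1)⁻¹, hf s.1 s.2⟩ : shifts G) :=
    fun a b hab => Subtype.ext (mul_left_cancel₀ (neg_ne_zero.2 (pow_ne_zero 2 hy0))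
      (inv_injective (congrArg Subtype.val hab)))
  obtain ⟨s0, hs0⟩ := (Finite.injective_iff_surjective.1 hfi) ⟨1, hu⟩
  have hs0' : -(y.1 1 0) ^ 2 * s0.1 = 1 := inv_eq_one.1 (congrArg Subtype.val hs0)
  have hv1 : PSL2.vS (1 : F) ∈ G := by
    rw [← hs0', ← hconj]; exact mul_mem (mul_mem hy s0.2) (inv_mem hy)
  have hw : (PSL2.wS : SL2) ∈ G := by
    rw [← PSL2.uS_vS_uS]
    refine mul_mem (mul_mem hu ?_) hu
    have e : PSL2.vS (-1 : F) = (PSL2.vS (1 : F))⁻¹ := eq_inv_of_mul_eq_one_left (by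
      apply Subtype.ext
      simp [PSL2.val_mul, Matrix.mul_fin_two, Matrix.one_fin_two])
    rw [e]; exact inv_mem hv1
  have hvmem : ∀ s ∈ shifts G, PSL2.vS s ∈ G := fun s hs => by
    have e : PSL2.vS s = PSL2.wS * PSL2.uS (-s) * (PSL2.wS)⁻¹ := by
      rw [PSL2.wS_uS, neg_neg, mul_inv_cancel_right]
    rw [e]
    exact mul_mem (mul_mem hw (neg_mem hs)) (inv_mem hw)
  have hinv : ∀ a ∈ shifts G, a⁻¹ ∈ shifts G := fun a ha => by
    by_cases h : a = 0
    · rw [h, _root_.inv_zero]; exact zero_mem _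
    · simpa using hpts _ (hvmem a ha) (by simpa using h)
  obtain ⟨K, hK⟩ := exists_subfield (shifts G) hu hinv
  refine ⟨K, Nat.card_congr (Equiv.subtypeEquivRight hK), fun x hx =>
    ⟨(hK x).1 hx, hvmem x ((hK x).1 hx)⟩, ?_⟩
  obtain ⟨w, hwdef⟩ : ∃ w : SL2, w = PSL2.wS := ⟨_, rfl⟩
  obtain ⟨w1, w2, w3, w4⟩ := Fusion.Dickson.inv_entries w
  have wv : w.1 0 0 = 0 ∧ w.1 0 1 = 1 ∧ w.1 1 0 = -1 ∧ w.1 1 1 = 0 := by rw [hwdef]; simp
  -- upper triangular elements
  have hup : ∀ z ∈ G, (z : SL2).1 1 0 = 0 →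
      (z : SL2).1 0 0 ≠ 0 ∧ (z : SL2).1 0 0 * (z : SL2).1 0 0 ∈ K ∧ (z : SL2).1 0 1 * (z : SL2).1 0 0 ∈ K := by
    intro z hz h10
    have hd := Fusion.Dickson.det_eq z
    rw [h10, mul_zero, sub_zero] at hd
    have hne : z.1 0 0 ≠ 0 := fun h => by simp [h] at hd
    obtain ⟨j1, j2, j3, j4⟩ := Fusion.Dickson.inv_entries z
    have hsq : z.1 0 0 * z.1 0 0 ∈ K := by
      rw [hK]
      have e : z * PSL2.uS 1 * z⁻¹ = PSL2.uS (z.1 0 0 * z.1 0 0) := by
        apply Fusion.Dickson.ext' <;> simp [uS_eq_upU, Fusion.Dickson.mul_entry, j1, j2, j3, j4, h10]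
        · linear_combination hd
        · ring
        · linear_combination hd
      exact (hsh _).mpr (e ▸ mul_mem (mul_mem hz hu) (inv_mem hz))
    refine ⟨hne, hsq, ?_⟩
    by_cases h01 : z.1 0 1 = 0
    · rw [h01, zero_mul]; exact zero_mem _
    have hm : w * z * w⁻¹ ∈ G := mul_mem (mul_mem (hwdef ▸ hw) hz) (inv_mem (hwdef ▸ hw))
    have e10 : (w * z * w⁻¹).1 1 0 = -z.1 0 1 := by
      simp [Fusion.Dickson.mul_entry, w1, w2, w3, w4, wv, h10]
    have e00 : (w * z * w⁻¹).1 0 0 = z.1 1 1 := by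
      simp [Fusion.Dickson.mul_entry, w1, w2, w3, w4, wv, h10]
    have hq := hpts _ hm (by rw [e10]; simpa using h01)
    rw [e10, e00, ← hK] at hq
    have := inv_mem (neg_mem hq)
    rwa [show (-(z.1 1 1 / -z.1 0 1))⁻¹ = z.1 0 1 * z.1 0 0 by
      rw [div_neg, neg_neg, inv_div, div_eq_iff (fun h => by simp [h] at hd)]
      linear_combination -z.1 0 1 * hd] at this
  intro z hz
  by_cases h10 : (z : SL2).1 1 0 = 0
  · obtain ⟨hne, hsq, hb⟩ := hup z hz h10
    have hd := Fusion.Dickson.det_eq z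
    rw [h10, mul_zero, sub_zero] at hd
    refine ⟨(z : SL2).1 0 0, ((z : SL2).1 0 0)⁻¹ • (z : SL2).1, fun i j => ?_, by
      rw [smul_smul, mul_inv_cancel₀ hne, one_smul]⟩
    rw [Matrix.smul_apply, smul_eq_mul]
    fin_cases i <;> fin_cases j
    · simp [hne]
    · have := mul_mem hb (inv_mem hsq)
      rwa [show (z : SL2).1 0 1 * (z : SL2).1 0 0 * ((z : SL2).1 0 0 * (z : SL2).1 0 0)⁻¹ =
        ((z : SL2).1 0 0)⁻¹ * (z : SL2).1 0 1 by field_simp] at this
    · simp [h10]
    · have := inv_mem hsq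
      rwa [show ((z : SL2).1 0 0 * (z : SL2).1 0 0)⁻¹ = ((z : SL2).1 0 0)⁻¹ * (z : SL2).1 1 1 by
        field_simp; linear_combination -hd] at this
  · obtain ⟨c, hc⟩ : ∃ c, c = (z : SL2).1 1 0 := ⟨_, rfl⟩
    obtain ⟨r, hr⟩ : ∃ r, r = (z : SL2).1 0 0 / c := ⟨_, rfl⟩
    rw [← hc] at h10
    have hrK : r ∈ K := (hK r).mpr (hr ▸ hc ▸ hpts z hz (hc ▸ h10))
    obtain ⟨t, ht⟩ : ∃ t, t = w * (PSL2.uS (-r) * z) := ⟨_, rfl⟩
    have htG : t ∈ G := ht ▸ mul_mem (hwdef ▸ hw) (mul_mem (neg_mem ((hK r).1 hrK)) hz)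
    have t00 : t.1 0 0 = c := by simp [ht, uS_eq_upU, Fusion.Dickson.mul_entry, wv, hc]
    have t01 : t.1 0 1 = (z : SL2).1 1 1 := by simp [ht, uS_eq_upU, Fusion.Dickson.mul_entry, wv]
    have t10 : t.1 1 0 = 0 := by
      simp [ht, uS_eq_upU, Fusion.Dickson.mul_entry, wv]
      rw [← hc, hr]; field_simp; ring
    obtain ⟨-, hsq, hb⟩ := hup t htG t10
    rw [t00] at hsq
    rw [t00, t01] at hb
    have hd := Fusion.Dickson.det_eq z
    rw [← hc] at hd
    refine ⟨c, c⁻¹ • (z : SL2).1, fun i j => ?_, by rw [smul_smul, mul_inv_cancel₀ h10, one_smul]⟩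
    rw [Matrix.smul_apply, smul_eq_mul]
    fin_cases i <;> fin_cases j
    · show c⁻¹ * (z : SL2).1 0 0 ∈ K
      rwa [mul_comm, ← div_eq_mul_inv, ← hr]
    · show c⁻¹ * (z : SL2).1 0 1 ∈ K
      have := mul_mem (sub_mem (mul_mem hrK hb) (one_mem K)) (inv_mem hsq)
      rwa [show (r * ((z : SL2).1 1 1 * c) - 1) * (c * c)⁻¹ = c⁻¹ * (z : SL2).1 0 1 by
        rw [hr]; field_simp; linear_combination hd] at this
    · show c⁻¹ * (z : SL2).1 1 0 ∈ K
      rw [← hc, inv_mul_cancel₀ h10]; exact one_mem K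
    · show c⁻¹ * (z : SL2).1 1 1 ∈ K
      have := mul_mem hb (inv_mem hsq)
      rwa [show (z : SL2).1 1 1 * c * (c * c)⁻¹ = c⁻¹ * (z : SL2).1 1 1 by field_simp] at this

/-- The image of a subgroup between `SL₂(K)` and `F^× GL₂(K)`. -/
theorem image_equiv (K : Subfield F)
    (hlow : ∀ x ∈ K, PSL2.uS x ∈ G ∧ PSL2.vS x ∈ G)
    (hhigh : ∀ y ∈ G, ∃ c : F, ∃ M : Matrix (Fin 2) (Fin 2) F, (∀ i j, M i j ∈ K) ∧ (y : SL2).1 = c • M) :
    ∃ R : Subgroup (Matrix.ProjGenLinGroup (Fin 2) K),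
      (Matrix.ProjectiveSpecialLinearGroup.toPGL (n := Fin 2) (R := K)).range ≤ R ∧
      Nonempty (↥(G.map PSL2.pr) ≃* ↥R) := by
  classical
  choose c M hM he using fun y : G => hhigh y.1 y.2
  have hc0 : ∀ y, c y ≠ 0 := fun y h => by
    have := (y : SL2).2
    rw [he y, h, zero_smul, Matrix.det_zero] at this
    exact zero_ne_one this
  let MK : G → Matrix (Fin 2) (Fin 2) K := fun y => Matrix.of fun i j => ⟨M y i j, hM y i j⟩
  have hMK : ∀ y, (K.subtype).mapMatrix (MK y) = M y := fun y => rfl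
  have hdet : ∀ y, (MK y).det ≠ 0 := fun y h => by
    have h1 := congrArg K.subtype h
    rw [RingHom.map_det, hMK, map_zero] at h1
    have := (y : SL2).2
    rw [he y, Matrix.det_smul, h1, mul_zero] at this
    exact zero_ne_one this
  let gk : G → GL (Fin 2) K := fun y => Matrix.GeneralLinearGroup.mkOfDetNeZero (MK y) (hdet y)
  have key : ∀ (y : G) (g : GL (Fin 2) K) (a : F), (y : SL2).1 = a • K.subtype.mapMatrix g.val →
      Matrix.ProjGenLinGroup.mk (gk y) = Matrix.ProjGenLinGroup.mk g := by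
    intro y g a ha
    rw [Matrix.ProjGenLinGroup.mk_eq_mk_iff]
    have ha0 : a ≠ 0 := fun h => by
      have := (y : SL2).2
      rw [ha, h, zero_smul, Matrix.det_zero] at this
      exact zero_ne_one this
    obtain ⟨i, j, hij⟩ : ∃ i j, M y i j ≠ 0 := by
      by_contra! h
      exact hdet y (by rw [show MK y = 0 from Matrix.ext fun i j => Subtype.ext (h i j), Matrix.det_zero])
    have hrel : ∀ i j, (g.val i j : F) = (c y / a) * M y i j := fun i j => by
      have h1 := congrFun (congrFun ((ha.symm.trans (he y))) i) j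
      simp only [Matrix.smul_apply, smul_eq_mul, RingHom.mapMatrix_apply, Matrix.map_apply] at h1
      rw [div_mul_eq_mul_div, eq_div_iff ha0, mul_comm]
      exact h1
    have hk : c y / a ∈ K := by
      have := mul_mem (g.val i j).2 (inv_mem (hM y i j))
      rwa [hrel, mul_assoc, mul_inv_cancel₀ hij, mul_one] at this
    refine ⟨Units.mk0 ⟨c y / a, hk⟩ fun h => div_ne_zero (hc0 y) ha0 (congrArg Subtype.val h), Units.ext ?_⟩
    ext i j
    rw [Units.val_mul]
    show (((MK y) * Matrix.scalar (Fin 2) (⟨c y / a, hk⟩ : K)) i j : F) = g.val i j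
    rw [Matrix.scalar_apply, Matrix.mul_diagonal, hrel]
    show M y i j * (c y / a) = _
    rw [mul_comm]
  let ψ : G →* Matrix.ProjGenLinGroup (Fin 2) K := MonoidHom.mk' (fun y => Matrix.ProjGenLinGroup.mk (gk y))
    (fun x y => by
      rw [← map_mul]
      refine key (x * y) _ (c x * c y) ?_
      rw [Units.val_mul, map_mul]
      show (x : SL2).1 * (y : SL2).1 = _
      rw [he x, he y, Matrix.smul_mul, Matrix.mul_smul, smul_smul]
      rfl)
  have hker : ψ.ker = scalarsIn G := by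
    ext y
    rw [MonoidHom.mem_ker, mem_Z]
    constructor
    · intro h
      obtain ⟨u, hu⟩ := Matrix.ProjGenLinGroup.mk_eq_mk_iff.mp (show Matrix.ProjGenLinGroup.mk (gk y) =
        Matrix.ProjGenLinGroup.mk 1 from h.trans (map_one _).symm)
      have hgk : (gk y) = Matrix.GeneralLinearGroup.scalar (Fin 2) u⁻¹ := by
        rw [map_inv, ← mul_eq_one_iff_eq_inv]; exact hu
      refine ⟨c y * ((u⁻¹ : Kˣ) : K), ?_⟩
      have hv : MK y = Matrix.scalar (Fin 2) ((u⁻¹ : Kˣ) : K) := congrArg Units.val hgk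
      rw [he y, ← hMK, hv, RingHom.mapMatrix_apply, Matrix.scalar_apply, Matrix.diagonal_map (map_zero _)]
      ext i j
      by_cases h : i = j <;> simp [h]
    · rintro ⟨a, ha⟩
      refine (key y 1 a ?_).trans (map_one _)
      rw [ha, Units.val_one, map_one]
  refine ⟨ψ.range, ?_, ⟨?_⟩⟩
  · rintro _ ⟨g, rfl⟩
    obtain ⟨g, rfl⟩ := QuotientGroup.mk'_surjective _ g
    show Matrix.ProjGenLinGroup.mk (Matrix.SpecialLinearGroup.toGL g) ∈ ψ.range
    refine Matrix.SL2.transvection_induction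
      (fun g => Matrix.ProjGenLinGroup.mk (Matrix.SpecialLinearGroup.toGL g) ∈ ψ.range) ?_ ?_ g
    · intro i j hij x
      have hval : ∀ z : SL2, z.1 = K.subtype.mapMatrix (Matrix.SpecialLinearGroup.transvection hij x).1 → z ∈ G →
          Matrix.ProjGenLinGroup.mk (Matrix.SpecialLinearGroup.toGL (Matrix.SpecialLinearGroup.transvection hij x)) ∈
            ψ.range := fun z hz hzG => ⟨⟨z, hzG⟩, key ⟨z, hzG⟩ _ 1 (by rw [one_smul]; exact hz)⟩
      fin_cases i <;> fin_cases j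
      · exact absurd rfl hij
      · refine hval (PSL2.uS (x : F)) ?_ (hlow _ x.2).1
        rw [Matrix.SpecialLinearGroup.transvection_coe, RingHom.mapMatrix_apply]
        ext a b; fin_cases a <;> fin_cases b <;> simp
      · refine hval (PSL2.vS (x : F)) ?_ (hlow _ x.2).2
        rw [Matrix.SpecialLinearGroup.transvection_coe, RingHom.mapMatrix_apply]
        ext a b; fin_cases a <;> fin_cases b <;> simp
      · exact absurd rfl hij
    · intro A B hA hB
      simp only [map_mul]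
      exact mul_mem hA hB
  · exact ((QuotientGroup.quotientKerEquivOfSurjective (proj G) proj_surjective).symm.trans
      (QuotientGroup.quotientMulEquivOfEq (ker_proj.trans hker.symm))).trans
      (QuotientGroup.quotientKerEquivRange ψ)

end Cfsg.Agent.Classical.Dickson
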