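import Cfsg.Agent.Lib.Classical.Dickson.Setup
import Cfsg.Agent.Lib.Classical.Dickson.Arith
import Cfsg.Agent.Lib.Classical.Dickson.Recognition
import Cfsg.Agent.Lib.Classical.Dickson.Field

/-!
# Dickson's classification of the subgroups of `PSL₂`
-/

set_option autoImplicit false
set_option linter.unusedSectionVars false

namespace Cfsg.Agent.Classical.Dickson

open Cfsg.Agent.Small Cfsg.Agent.Small.SL2C
open Cfsg.Agent.Fusion.Dickson (scalarsIn shifts pts classSet upperIn unipIn)

universe u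

variable {F : Type u} [Field F] [Fintype F]

local notation "SL2" => Matrix.SpecialLinearGroup (Fin 2) F
local notation "P2" => Matrix.ProjectiveSpecialLinearGroup (Fin 2) F

/-- The kinds of subgroups of `PSL₂`, for the preimage `G` in `SL₂`. -/
inductive Kind (G : Subgroup (Matrix.SpecialLinearGroup (Fin 2) F)) : Prop
  | cyclic (k : ℕ) (hk : k ∣ (Fintype.card F - 1) / Nat.gcd 2 (Fintype.card F - 1) ∨
      k ∣ (Fintype.card F + 1) / Nat.gcd 2 (Fintype.card F - 1))
      (hc : IsCyclic ↥(G.map PSL2.pr)) (hcard : Nat.card ↥(G.map PSL2.pr) = k)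
  | dihedral (k : ℕ) (hk : k ∣ (Fintype.card F - 1) / Nat.gcd 2 (Fintype.card F - 1) ∨
      k ∣ (Fintype.card F + 1) / Nat.gcd 2 (Fintype.card F - 1))
      (h2 : 2 ≤ k) (hiso : Nonempty (↥(G.map PSL2.pr) ≃* DihedralGroup k))
  | borel (g : GL (Fin 2) F) (hg : ∀ y ∈ G.map (PSL2.conjSL g).toMonoidHom, y.1 1 0 = 0)
      (hu : PSL2.uS (1 : F) ∈ G.map (PSL2.conjSL g).toMonoidHom)
  | a4 (h2 : (2 : F) ≠ 0) (hiso : Nonempty (↥(G.map PSL2.pr) ≃* alternatingGroup (Fin 4)))
  | s4 (h2 : (2 : F) ≠ 0) (hiso : Nonempty (↥(G.map PSL2.pr) ≃* Equiv.Perm (Fin 4)))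
  | a5 (h2 : (2 : F) ≠ 0) (hiso : Nonempty (↥(G.map PSL2.pr) ≃* alternatingGroup (Fin 5)))
  | field (g : GL (Fin 2) F) (K : Subfield F)
      (hlow : ∀ x ∈ K, PSL2.uS x ∈ G.map (PSL2.conjSL g).toMonoidHom ∧ PSL2.vS x ∈ G.map (PSL2.conjSL g).toMonoidHom)
      (hhigh : ∀ y ∈ G.map (PSL2.conjSL g).toMonoidHom, ∃ c : F, ∃ M : Matrix (Fin 2) (Fin 2) F,
        (∀ i j, M i j ∈ K) ∧ y.1 = c • M)
      (hiso : Nonempty (↥(G.map PSL2.pr) ≃* Matrix.ProjGenLinGroup (Fin 2) K) ∨
        ((2 : F) ≠ 0 ∧ Nonempty (↥(G.map PSL2.pr) ≃* Matrix.ProjectiveSpecialLinearGroup (Fin 2) K)))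

variable {G : Subgroup (Matrix.SpecialLinearGroup (Fin 2) F)}

theorem card_comap_proj (S : Subgroup ↥(G.map PSL2.pr)) :
    Nat.card (S.comap (proj G)) = Nat.card S * Nat.card (scalarsIn G) := by
  have h1 := (S.comap (proj G)).card_mul_index
  rw [Subgroup.index_comap_of_surjective S proj_surjective,
    Subgroup.card_eq_card_quotient_mul_card_subgroup (proj G).ker,
    Nat.card_congr (QuotientGroup.quotientKerEquivOfSurjective (proj G) proj_surjective).toEquiv,
    ← S.card_mul_index] at h1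
  rw [← ker_proj (G := G)]
  exact Nat.eq_of_mul_eq_mul_right (Nat.pos_of_ne_zero (Subgroup.index_ne_zero_of_finite (H := S)))
    (by rw [h1]; ring)

theorem card_G : Nat.card G = Nat.card ↥(G.map PSL2.pr) * Nat.card (scalarsIn G) := by
  have := card_comap_proj (G := G) ⊤
  rwa [Subgroup.comap_top, Subgroup.card_top, Subgroup.card_top] at this

section Torus

variable {A : Subgroup G} {a ε : ℕ}

theorem Semi.dvd_half (hA : Semi G A a ε) (hG : Subgroup.center SL2 ≤ G) :
    a ∣ (Fintype.card F - 1) / Nat.gcd 2 (Fintype.card F - 1) ∨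
      a ∣ (Fintype.card F + 1) / Nat.gcd 2 (Fintype.card F - 1) := by
  rcases hA.dvd with h | h <;> rw [card_Z hG] at h
  · exact Or.inl (Nat.dvd_div_of_mul_dvd (by rwa [mul_comm]))
  · exact Or.inr (Nat.dvd_div_of_mul_dvd (by rwa [mul_comm]))

theorem Semi.comap_map (hA : Semi G A a ε) : (A.map (proj G)).comap (proj G) = A :=
  Subgroup.comap_map_eq_self (ker_proj.trans_le hA.le)

theorem Semi.card_map (hA : Semi G A a ε) : Nat.card (A.map (proj G)) = a := by
  have h := card_comap_proj (A.map (proj G))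
  rw [hA.comap_map, hA.card] at h
  exact (Nat.eq_of_mul_eq_mul_right Nat.card_pos h).symm

theorem Semi.comap_normalizer (hA : Semi G A a ε) :
    (Subgroup.normalizer (A.map (proj G) : Set ↥(G.map PSL2.pr))).comap (proj G) =
      Subgroup.normalizer (A : Set G) := by
  rw [Subgroup.comap_normalizer_eq_of_surjective _ proj_surjective, hA.comap_map]

theorem Semi.card_map_normalizer (hA : Semi G A a ε) :
    Nat.card (Subgroup.normalizer (A.map (proj G) : Set ↥(G.map PSL2.pr))) = ε * a := by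
  have h := card_comap_proj (Subgroup.normalizer (A.map (proj G) : Set ↥(G.map PSL2.pr)))
  rw [hA.comap_normalizer, hA.cardN, hA.card, ← mul_assoc] at h
  exact (Nat.eq_of_mul_eq_mul_right Nat.card_pos h).symm

theorem Semi.le_card (hA : Semi G A a ε) : ε * a ≤ Nat.card ↥(G.map PSL2.pr) :=
  hA.card_map_normalizer ▸ Subgroup.card_le_card_group _

theorem kind_of_whole (hA : Semi G A a ε) (hG : Subgroup.center SL2 ≤ G)
    (h : Nat.card ↥(G.map PSL2.pr) = a) : Kind G := by
  haveI := hA.cyclic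
  have hA' : IsCyclic (A.map (proj G)) := isCyclic_of_surjective ((proj G).subgroupMap A)
    ((proj G).subgroupMap_surjective A)
  have htop : A.map (proj G) = ⊤ := Subgroup.eq_top_of_card_eq _ (by rw [hA.card_map, h])
  rw [htop] at hA'
  exact Kind.cyclic a (hA.dvd_half hG) (isCyclic_of_surjective _ Subgroup.topEquiv.surjective) h

theorem Semi.dihedral_iso (hA : Semi G A a 2) (h : Nat.card ↥(G.map PSL2.pr) = 2 * a) :
    Nonempty (↥(G.map PSL2.pr) ≃* DihedralGroup a) := by
  haveI := hA.cyclic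
  have hA' : IsCyclic (A.map (proj G)) := isCyclic_of_surjective ((proj G).subgroupMap A)
    ((proj G).subgroupMap_surjective A)
  obtain ⟨n, hn, hnA⟩ : ∃ n ∈ Subgroup.normalizer (A : Set G), n ∉ A := by
    by_contra! hc
    have := Subgroup.card_le_of_le (show Subgroup.normalizer (A : Set G) ≤ A from hc)
    rw [hA.cardN, hA.card] at this
    have := hA.two_le
    have hz : 0 < Nat.card (scalarsIn G) := Nat.card_pos
    nlinarith
  obtain ⟨hsq, hinv⟩ := hA.inv n hn hnA
  have h' := dihedral_of hA' (t := proj G n) (fun ht => hnA (by rw [← hA.comap_map]; exact ht))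
    (by rw [← map_mul]; exact MonoidHom.mem_ker.mp (by rw [ker_proj]; exact hsq))
    (by rintro _ ⟨x, hx, rfl⟩; rw [← map_inv, ← map_mul, ← map_mul, hinv x hx, map_inv])
    (by rw [h, hA.card_map])
  rw [hA.card_map] at h'
  exact h'

theorem kind_of_dihedral (hA : Semi G A a 2) (hG : Subgroup.center SL2 ≤ G)
    (h : Nat.card ↥(G.map PSL2.pr) = 2 * a) : Kind G :=
  Kind.dihedral a (hA.dvd_half hG) hA.two_le (hA.dihedral_iso h)

theorem kind_of_a4 (hA : Semi G A 3 1) (h2 : (2 : F) ≠ 0) (h : Nat.card ↥(G.map PSL2.pr) = 12) : Kind G :=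
  Kind.a4 h2 (a4_of h hA.card_map (by rw [hA.card_map_normalizer]))

theorem kind_of_s4 (hA : Semi G A 3 2) (h2 : (2 : F) ≠ 0) (h : Nat.card ↥(G.map PSL2.pr) = 24) : Kind G := by
  refine Kind.s4 h2 (s4_of h hA.card_map (by rw [hA.card_map_normalizer]) ?_)
  intro m hm hmC c hc hc1 hcomm
  obtain ⟨n, rfl⟩ := proj_surjective m
  have hnN : n ∈ Subgroup.normalizer (A : Set G) := hA.comap_normalizer ▸ hm
  obtain ⟨x, hx, rfl⟩ := hc
  have hinv := (hA.inv n hnN fun hn => hmC ⟨n, hn, rfl⟩).2 x hx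
  have hxx : proj G x * proj G x = 1 := by
    have h1 : proj G n * proj G x * (proj G n)⁻¹ = (proj G x)⁻¹ := by
      rw [← map_inv, ← map_mul, ← map_mul, hinv, map_inv]
    rw [hcomm, mul_inv_cancel_right] at h1
    exact mul_eq_one_iff_eq_inv.mpr h1
  have h3 : proj G x * proj G x * proj G x = 1 := by
    have := pow_card_eq_one' (x := (⟨proj G x, ⟨x, hx, rfl⟩⟩ : A.map (proj G)))
    rw [hA.card_map] at this
    have := congrArg Subtype.val this
    rw [SubmonoidClass.coe_pow, pow_succ, pow_two] at this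
    exact this
  rw [hxx, one_mul] at h3
  exact hc1 h3

end Torus

theorem semi_K (h : G) : (0 : ℤ) ≤ Nat.card G := Int.natCast_nonneg _

/-- No non-scalar parabolic elements. -/
theorem semisimple_case (hG : Subgroup.center SL2 ≤ G)
    (hs : ∀ h : G, h ∉ scalarsIn G → (h : SL2).1.trace * (h : SL2).1.trace ≠ 4) : Kind G := by
  classical
  have hz : (0 : ℤ) < Nat.card (scalarsIn G) := by exact_mod_cast Nat.card_pos
  have hg : (0 : ℤ) < Nat.card ↥(G.map PSL2.pr) := by exact_mod_cast Nat.card_pos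
  have hK : (Nat.card G : ℤ) = Nat.card (scalarsIn G) * Nat.card ↥(G.map PSL2.pr) := by
    rw [card_G (G := G)]; push_cast; ring
  have hodd : 2 ∣ Nat.card ↥(G.map PSL2.pr) → (2 : F) ≠ 0 := by
    intro hev h2
    haveI : Fact (Nat.Prime 2) := ⟨Nat.prime_two⟩
    obtain ⟨g, hg'⟩ := exists_prime_orderOf_dvd_card' (G := G) 2 (by rw [card_G (G := G)]; exact hev.mul_right _)
    have hg2 : (g : SL2).1 * (g : SL2).1 = 1 := by
      have := congrArg (fun y : G => (y : SL2).1) (hg' ▸ pow_orderOf_eq_one g)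
      simpa [pow_two] using this
    have hgns : g ∉ scalarsIn G := fun hsc => by
      have hgg : g = 1 := Subtype.ext (by
        rcases isSc_SL (mem_Z.mp hsc) with e | e
        · exact Subtype.ext e
        · refine Subtype.ext (e.trans ?_)
          ext i j
          simp only [Matrix.neg_apply, Subgroup.coe_one, Matrix.SpecialLinearGroup.coe_one]
          linear_combination (-(1 : Matrix (Fin 2) (Fin 2) F) i j) * h2)
      rw [hgg, orderOf_one] at hg'
      omega
    refine hs g hgns ?_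
    rw [sq_eq] at hg2
    have h3 : (g : SL2).1.trace • (g : SL2).1 = 0 := by
      rw [sub_eq_iff_eq_add.mp hg2]
      ext i j
      simp only [Matrix.add_apply, Matrix.zero_apply]
      linear_combination (1 : Matrix (Fin 2) (Fin 2) F) i j * h2
    have h4 : (4 : F) = 0 := by linear_combination 2 * h2
    rcases smul_eq_zero.mp h3 with e | e
    · rw [e, mul_zero, h4]
    · rw [e, Matrix.trace_zero, mul_zero, h4]
  by_cases h0 : ∀ h : G, h ∈ scalarsIn G
  · have h1 : Nat.card ↥(G.map PSL2.pr) = 1 := by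
      have := card_comap_proj (G := G) ⊥
      rw [MonoidHom.comap_bot, ker_proj, Subgroup.card_bot, one_mul] at this
      have htop : scalarsIn G = ⊤ := eq_top_iff.mpr fun h _ => h0 h
      have h2 := card_G (G := G)
      rw [htop, Subgroup.card_top] at h2
      exact Nat.eq_of_mul_eq_mul_right Nat.card_pos ((one_mul _).trans h2).symm
    haveI : Subsingleton ↥(G.map PSL2.pr) := (Nat.card_eq_one_iff_unique.mp h1).1
    exact Kind.cyclic 1 (Or.inl (one_dvd _)) isCyclic_of_subsingleton h1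
  push Not at h0
  obtain ⟨x, hxZ⟩ := h0
  obtain ⟨A, a, ε, hA, hxA⟩ := exists_semi hG hxZ (hs x hxZ)
  have hA2 : (2 : ℤ) ≤ a := by exact_mod_cast hA.two_le
  have hεA : (ε : ℤ) = 1 ∨ (ε : ℤ) = 2 := by have := hA.eps; omega
  have hlA : (ε : ℤ) * a ≤ Nat.card ↥(G.map PSL2.pr) := by exact_mod_cast hA.le_card
  have eA := hA.size
  rw [hK] at eA
  by_cases hc1 : ∀ y : G, y ∉ scalarsIn G → y ∈ classSet (scalarsIn G) A
  · have hsum := card_cover _ (classSet_subset A) hc1
    rw [← Nat.card_coe_set_eq, hK] at hsum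
    obtain ⟨-, e⟩ := one_class hz hA2 hεA hlA eA hsum
    exact kind_of_whole hA hG (by exact_mod_cast e)
  push Not at hc1
  obtain ⟨y, hyZ, hyA⟩ := hc1
  obtain ⟨B, b, δ, hB, hyB⟩ := exists_semi hG hyZ (hs y hyZ)
  have hB2 : (2 : ℤ) ≤ b := by exact_mod_cast hB.two_le
  have hεB : (δ : ℤ) = 1 ∨ (δ : ℤ) = 2 := by have := hB.eps; omega
  have hlB : (δ : ℤ) * b ≤ Nat.card ↥(G.map PSL2.pr) := by exact_mod_cast hB.le_card
  have eB := hB.size
  rw [hK] at eB
  have dAB := hA.disjoint hB hyA hyB hyZ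
  by_cases hc2 : ∀ w : G, w ∉ scalarsIn G → w ∈ classSet (scalarsIn G) A ∪ classSet (scalarsIn G) B
  · have hsum := card_cover _ (Set.union_subset (classSet_subset A) (classSet_subset B)) hc2
    rw [Set.ncard_union_eq dAB, ← Nat.card_coe_set_eq, ← Nat.card_coe_set_eq, hK] at hsum
    push_cast at hsum
    rcases two_class hz hg hA2 hB2 hεA hεB hlA hlB eA eB hsum with
      ⟨e1, e2, ⟨-, eg⟩ | ⟨ea, -, eg⟩⟩ | ⟨e2, e1, ⟨-, eg⟩ | ⟨eb, -, eg⟩⟩
    · obtain rfl : δ = 2 := by exact_mod_cast e2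
      exact kind_of_dihedral hB hG (by exact_mod_cast eg)
    · obtain rfl : ε = 1 := by exact_mod_cast e1
      obtain rfl : a = 3 := by exact_mod_cast ea
      exact kind_of_a4 hA (hodd (by rw [show Nat.card ↥(G.map PSL2.pr) = 12 by exact_mod_cast eg]; norm_num)) (by exact_mod_cast eg)
    · obtain rfl : ε = 2 := by exact_mod_cast e1
      exact kind_of_dihedral hA hG (by exact_mod_cast eg)
    · obtain rfl : δ = 1 := by exact_mod_cast e2
      obtain rfl : b = 3 := by exact_mod_cast eb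
      exact kind_of_a4 hB (hodd (by rw [show Nat.card ↥(G.map PSL2.pr) = 12 by exact_mod_cast eg]; norm_num)) (by exact_mod_cast eg)
  push Not at hc2
  obtain ⟨w, hwZ, hw⟩ := hc2
  rw [Set.mem_union, not_or] at hw
  obtain ⟨C, c, γ, hC, hwC⟩ := exists_semi hG hwZ (hs w hwZ)
  have dAC := hA.disjoint hC hw.1 hwC hwZ
  have dBC := hB.disjoint hC hw.2 hwC hwZ
  have hC2 : (2 : ℤ) ≤ c := by exact_mod_cast hC.two_le
  have hεC : (γ : ℤ) = 1 ∨ (γ : ℤ) = 2 := by have := hC.eps; omega
  have eC := hC.size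
  rw [hK] at eC
  have hzg : (0 : ℤ) ≤ Nat.card (scalarsIn G) * Nat.card ↥(G.map PSL2.pr) := by positivity
  by_cases hc3 : ∀ v : G, v ∉ scalarsIn G →
      v ∈ classSet (scalarsIn G) A ∪ classSet (scalarsIn G) B ∪ classSet (scalarsIn G) C
  swap
  · exfalso
    push Not at hc3
    obtain ⟨v, hvZ, hv⟩ := hc3
    rw [Set.mem_union, Set.mem_union, not_or, not_or] at hv
    obtain ⟨D, d, θ, hD, hvD⟩ := exists_semi hG hvZ (hs v hvZ)
    have eD := hD.size
    rw [hK] at eD
    have hle := card_le _ (Set.union_subset (Set.union_subset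
      (Set.union_subset (classSet_subset A) (classSet_subset B)) (classSet_subset C)) (classSet_subset D))
    rw [Set.ncard_union_eq (Set.disjoint_union_left.2 ⟨Set.disjoint_union_left.2
        ⟨hA.disjoint hD hv.1.1 hvD hvZ, hB.disjoint hD hv.1.2 hvD hvZ⟩, hC.disjoint hD hv.2 hvD hvZ⟩),
      Set.ncard_union_eq (Set.disjoint_union_left.2 ⟨dAC, dBC⟩), Set.ncard_union_eq dAB,
      ← Nat.card_coe_set_eq, ← Nat.card_coe_set_eq, ← Nat.card_coe_set_eq, ← Nat.card_coe_set_eq, hK] at hle
    push_cast at hle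
    have q1 := (quarter hzg hA2 hεA eA).1
    have q2 := (quarter hzg hB2 hεB eB).1
    have q3 := (quarter hzg hC2 hεC eC).1
    have q4 := (quarter hzg (show (2 : ℤ) ≤ d by exact_mod_cast hD.two_le)
      (show (θ : ℤ) = 1 ∨ (θ : ℤ) = 2 by have := hD.eps; omega) eD).1
    linarith
  -- three classes, in increasing order
  suffices key : ∀ (A B C : Subgroup G) (a b c ε δ γ : ℕ), Semi G A a ε → Semi G B b δ → Semi G C c γ →
      a ≤ b → b ≤ c → Disjoint (classSet (scalarsIn G) A) (classSet (scalarsIn G) B) →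
      Disjoint (classSet (scalarsIn G) A) (classSet (scalarsIn G) C) →
      Disjoint (classSet (scalarsIn G) B) (classSet (scalarsIn G) C) →
      (∀ v : G, v ∉ scalarsIn G →
        v ∈ classSet (scalarsIn G) A ∪ classSet (scalarsIn G) B ∪ classSet (scalarsIn G) C) → Kind G by
    rcases le_total a b with hab | hab <;> rcases le_total b c with hbc | hbc <;> rcases le_total a c with hac | hac
    all_goals first
      | exact key A B C _ _ _ _ _ _ hA hB hC (by omega) (by omega) dAB dAC dBC hc3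
      | exact key A C B _ _ _ _ _ _ hA hC hB (by omega) (by omega) dAC dAB dBC.symm
          (fun v hv => by have := hc3 v hv; simp only [Set.mem_union] at this ⊢; tauto)
      | exact key B A C _ _ _ _ _ _ hB hA hC (by omega) (by omega) dAB.symm dBC dAC
          (fun v hv => by have := hc3 v hv; simp only [Set.mem_union] at this ⊢; tauto)
      | exact key B C A _ _ _ _ _ _ hB hC hA (by omega) (by omega) dBC dAB.symm dAC.symm
          (fun v hv => by have := hc3 v hv; simp only [Set.mem_union] at this ⊢; tauto)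
      | exact key C A B _ _ _ _ _ _ hC hA hB (by omega) (by omega) dAC.symm dBC.symm dAB
          (fun v hv => by have := hc3 v hv; simp only [Set.mem_union] at this ⊢; tauto)
      | exact key C B A _ _ _ _ _ _ hC hB hA (by omega) (by omega) dBC.symm dAC.symm dAB.symm
          (fun v hv => by have := hc3 v hv; simp only [Set.mem_union] at this ⊢; tauto)
  intro A B C a b c ε δ γ hA hB hC hab hbc dAB dAC dBC hcv
  have hsum := card_cover _ (Set.union_subset (Set.union_subset (classSet_subset A) (classSet_subset B))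
    (classSet_subset C)) hcv
  rw [Set.ncard_union_eq (Set.disjoint_union_left.2 ⟨dAC, dBC⟩), Set.ncard_union_eq dAB,
    ← Nat.card_coe_set_eq, ← Nat.card_coe_set_eq, ← Nat.card_coe_set_eq, hK] at hsum
  push_cast at hsum
  have e1 := hA.size
  have e2 := hB.size
  have e3 := hC.size
  rw [hK] at e1 e2 e3
  obtain ⟨eε, eδ, eγ, ea, hcase⟩ := three_class hz hg
    (show (2 : ℤ) ≤ a by exact_mod_cast hA.two_le) (show (2 : ℤ) ≤ b by exact_mod_cast hB.two_le)
    (show (2 : ℤ) ≤ c by exact_mod_cast hC.two_le)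
    (show (ε : ℤ) = 1 ∨ (ε : ℤ) = 2 by have := hA.eps; omega)
    (show (δ : ℤ) = 1 ∨ (δ : ℤ) = 2 by have := hB.eps; omega)
    (show (γ : ℤ) = 1 ∨ (γ : ℤ) = 2 by have := hC.eps; omega)
    (by exact_mod_cast hab) (by exact_mod_cast hbc) (by exact_mod_cast hA.le_card) (by exact_mod_cast hC.le_card)
    e1 e2 e3 hsum
  obtain rfl : ε = 2 := by exact_mod_cast eε
  obtain rfl : δ = 2 := by exact_mod_cast eδ
  obtain rfl : γ = 2 := by exact_mod_cast eγ
  obtain rfl : a = 2 := by exact_mod_cast ea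
  rcases hcase with ⟨-, eg⟩ | ⟨eb, ec, eg⟩ | ⟨eb, -, eg⟩ | ⟨eb, ec, eg⟩
  · exact kind_of_dihedral hC hG (by exact_mod_cast eg)
  · exfalso
    obtain rfl : b = 3 := by exact_mod_cast eb
    obtain rfl : c = 3 := by exact_mod_cast ec
    have eg' : Nat.card ↥(G.map PSL2.pr) = 12 := by exact_mod_cast eg
    haveI : Fact (Nat.Prime 3) := ⟨Nat.prime_three⟩
    have hfac : 3 ^ (12 : ℕ).factorization 3 = 3 := by
      rw [show (12 : ℕ) = 3 ^ 1 * 4 by norm_num, Nat.factorization_mul (by norm_num) (by norm_num),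
        Finsupp.add_apply, Nat.factorization_pow_self Nat.prime_three,
        Nat.factorization_eq_zero_of_not_dvd (by norm_num : ¬ 3 ∣ 4)]
      norm_num
    let SB := Sylow.ofCard (p := 3) (B.map (proj G)) (by rw [hB.card_map, eg', hfac])
    let SC := Sylow.ofCard (p := 3) (C.map (proj G)) (by rw [hC.card_map, eg', hfac])
    obtain ⟨m, hm⟩ := MulAction.exists_smul_eq ↥(G.map PSL2.pr) SB SC
    obtain ⟨n, rfl⟩ := proj_surjective m
    obtain ⟨v, hvB, hvZ⟩ : ∃ v ∈ B, v ∉ scalarsIn G := by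
      by_contra! hc
      have := Subgroup.card_le_of_le (show B ≤ scalarsIn G from hc)
      rw [hB.card] at this
      have hz' : 0 < Nat.card (scalarsIn G) := Nat.card_pos
      omega
    have hvC : n * v * n⁻¹ ∈ C := by
      rw [← hC.comap_map, Subgroup.mem_comap, map_mul, map_mul, map_inv]
      show _ ∈ (SC : Subgroup ↥(G.map PSL2.pr))
      rw [← hm]
      exact ⟨proj G v, ⟨v, hvB, rfl⟩, rfl⟩
    exact Set.disjoint_left.mp dBC (Fusion.Dickson.classSet_conj (Fusion.Dickson.subset_classSet hvB hvZ) n)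
      (Fusion.Dickson.subset_classSet hvC fun hz' => hvZ (by
        have := (Fusion.Dickson.scalarsIn_normal (H := G)).conj_mem _ hz' n⁻¹
        rwa [show n⁻¹ * (n * v * n⁻¹) * n⁻¹⁻¹ = v by group] at this))
  · obtain rfl : b = 3 := by exact_mod_cast eb
    exact kind_of_s4 hB (hodd (by rw [show Nat.card ↥(G.map PSL2.pr) = 24 by exact_mod_cast eg]; norm_num)) (by exact_mod_cast eg)
  · obtain rfl : b = 3 := by exact_mod_cast eb
    obtain rfl : c = 5 := by exact_mod_cast ec
    rw [eg] at e1 e2 e3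
    refine Kind.a5 (hodd (by rw [show Nat.card ↥(G.map PSL2.pr) = 60 by exact_mod_cast eg]; norm_num)) (a5_of (proj G) proj_surjective (scalarsIn G) ker_proj ?_ ![A, B, C] ?_ ?_ ?_ ?_ ?_)
    · rw [card_G (G := G), show Nat.card ↥(G.map PSL2.pr) = 60 by exact_mod_cast eg]
    · intro i; fin_cases i
      exacts [hA.le, hB.le, hC.le]
    · intro i; fin_cases i
      exacts [hA.card, hB.card, hC.card]
    · intro i; fin_cases i <;>
        (simp only [Matrix.cons_val_zero, Matrix.cons_val_one, Matrix.cons_val]; rw [← Nat.card_coe_set_eq]; push_cast at e1 e2 e3 ⊢; omega)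
    · intro i j hij; fin_cases i <;> fin_cases j
      all_goals first | exact absurd rfl hij | exact dAB | exact dAC | exact dBC | exact dAB.symm | exact dAC.symm | exact dBC.symm
    · intro v hv
      rcases hcv v hv with (h | h) | h
      exacts [⟨0, h⟩, ⟨1, h⟩, ⟨2, h⟩]

/-- The translations act with `k` orbits; with one orbit the subgroup is linear. -/
theorem field_case (hG : Subgroup.center SL2 ≤ G) (hu : PSL2.uS (1 : F) ∈ G) {d : ℕ}
    (hg : Nat.card ↥(G.map PSL2.pr) = d * Nat.card (shifts G) * (Nat.card (shifts G) + 1))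
    (hpts : (pts G).Nonempty) (hk : Nat.card (pts G) = Nat.card (shifts G))
    (hd : d = Nat.card (shifts G) - 1 ∨ 2 * d = Nat.card (shifts G) - 1) : Kind G := by
  classical
  obtain ⟨r, hr⟩ := hpts
  obtain ⟨g, hgdef⟩ : ∃ g : GL (Fin 2) F, g = Matrix.SpecialLinearGroup.toGL (PSL2.uS (-r)) := ⟨_, rfl⟩
  have happ : ∀ w : SL2, PSL2.conjSL g w = PSL2.uS (-r) * w * PSL2.uS r := fun w => by
    apply Subtype.ext
    rw [PSL2.conjSL_val, hgdef, ← map_inv, show (PSL2.uS (-r))⁻¹ = PSL2.uS r from inv_eq_of_mul_eq_one_right (by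
      rw [← PSL2.uS_add, neg_add_cancel]; exact Fusion.Dickson.upU_zero)]
    rfl
  obtain ⟨G', hG'⟩ : ∃ G', G' = G.map (PSL2.conjSL g).toMonoidHom := ⟨_, rfl⟩
  have hmem : ∀ w, PSL2.conjSL g w ∈ G' ↔ w ∈ G := fun w => by
    rw [hG']; exact Subgroup.mem_map_iff_mem (PSL2.conjSL g).injective
  have hfix : ∀ s, PSL2.conjSL g (PSL2.uS s) = PSL2.uS s := fun s => by
    rw [happ, ← PSL2.uS_add, ← PSL2.uS_add]; congr 1; ring
  have hs : shifts G' = shifts G := by
    ext s
    show PSL2.uS s ∈ G' ↔ PSL2.uS s ∈ G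
    rw [← hmem (PSL2.uS s), hfix]
  have hp10 : ∀ w : SL2, (PSL2.conjSL g w).1 1 0 = w.1 1 0 := fun w => by
    rw [happ]; simp [uS_eq_upU, Fusion.Dickson.mul_entry]
  have hp00 : ∀ w : SL2, (PSL2.conjSL g w).1 0 0 = w.1 0 0 - r * w.1 1 0 := fun w => by
    rw [happ]; simp [uS_eq_upU, Fusion.Dickson.mul_entry]; ring
  have hptsG : pts G' = (fun t => t - r) '' pts G := by
    ext t
    constructor
    · rintro ⟨v, hv, hv0, rfl⟩
      obtain ⟨w, hw, rfl⟩ := hG' ▸ hv
      change (PSL2.conjSL g w).1 1 0 ≠ 0 at hv0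
      rw [hp10] at hv0
      refine ⟨_, ⟨w, hw, hv0, rfl⟩, ?_⟩
      show _ = (PSL2.conjSL g w).1 0 0 / (PSL2.conjSL g w).1 1 0
      rw [hp10, hp00]; field_simp
    · rintro ⟨_, ⟨w, hw, hw0, rfl⟩, rfl⟩
      refine ⟨_, (hmem w).2 hw, by rwa [hp10], ?_⟩
      rw [hp10, hp00]; field_simp
  obtain ⟨K, hKc, hlow, hhigh⟩ := field_zero (G := G') (by rw [← hfix, hmem]; exact hu)
    (hptsG ▸ ⟨r, hr, sub_self r⟩)
    (by rw [hs, hptsG, ← hk]; exact Nat.card_image_of_injective (fun a b => sub_left_inj.1) _)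
  rw [hs] at hKc
  have hmapeq : G'.map PSL2.pr = (G.map PSL2.pr).map (PSL2.conjP g).toMonoidHom := by
    rw [hG', Subgroup.map_map, Subgroup.map_map]; rfl
  obtain ⟨R, hle, ⟨e⟩⟩ := image_equiv K hlow hhigh
  have e' : ↥(G.map PSL2.pr) ≃* ↥R :=
    (((PSL2.conjP g).subgroupMap (G.map PSL2.pr)).trans (MulEquiv.subgroupCongr hmapeq.symm)).trans e
  have hR : Nat.card R = d * Nat.card K * (Nat.card K + 1) := by
    rw [← Nat.card_congr e'.toEquiv, hg, hKc]
  have hSL : Nat.card (Matrix.SpecialLinearGroup (Fin 2) K) = (Nat.card K - 1) * Nat.card K * (Nat.card K + 1) := by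
    rw [Small.SL2C.card_SL2, ← Nat.card_eq_fintype_card]
    have h1 : Nat.card K ^ 2 - 1 = (Nat.card K - 1) * (Nat.card K + 1) := by
      rw [mul_comm, ← Nat.sq_sub_sq, one_pow]
    rw [h1]; ring
  subst hG'
  haveI : Finite (Matrix.ProjGenLinGroup (Fin 2) K) := Finite.of_surjective _ Matrix.ProjGenLinGroup.mk_surjective
  refine Kind.field g K hlow hhigh ?_
  rcases hd with hd | hd <;> rw [← hKc] at hd
  · left
    have htop : R = ⊤ := Subgroup.eq_top_of_card_eq R (by
      rw [Lead.GLBasic.card_PGL, hR, hSL, hd])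
    exact ⟨e'.trans ((MulEquiv.subgroupCongr htop).trans Subgroup.topEquiv)⟩
  · right
    have h2 : (2 : F) ≠ 0 := fun h => by
      have h2K : (2 : K) = 0 := Subtype.ext h
      have := (Small.SL2C.two_dvd_iff (F := K)).mpr h2K
      rw [← Nat.card_eq_fintype_card] at this
      have : 0 < Nat.card K := Nat.card_pos
      omega
    refine ⟨h2, ⟨e'.trans ((MulEquiv.subgroupCongr (Subgroup.eq_of_le_of_card_ge hle ?_).symm).trans
      (MonoidHom.ofInjective Matrix.ProjectiveSpecialLinearGroup.toPGL_injective).symm)⟩⟩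
    rw [← Nat.card_congr (MonoidHom.ofInjective Matrix.ProjectiveSpecialLinearGroup.toPGL_injective).toEquiv]
    have hP := Lead.GLBasic.card_PSL (F := K) 2
    rw [hSL, Nat.gcd_eq_left (show 2 ∣ Fintype.card K - 1 by rw [← Nat.card_eq_fintype_card]; omega)] at hP
    rw [hR]
    have e2 : 2 * (d * Nat.card K * (Nat.card K + 1)) = (Nat.card K - 1) * Nat.card K * (Nat.card K + 1) := by
      rw [← hd]; ring
    omega

/-- A parabolic element in standard position. -/
theorem unip_case (hG : Subgroup.center SL2 ≤ G) (hu : PSL2.uS (1 : F) ∈ G) : Kind G := by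
  classical
  by_cases hupper : ∀ y ∈ G, (y : SL2).1 1 0 = 0
  · refine Kind.borel 1 ?_ ?_ <;> rw [show G.map (PSL2.conjSL (1 : GL (Fin 2) F)).toMonoidHom = G by
      rw [map_one]; exact G.map_id]
    exacts [hupper, hu]
  push Not at hupper
  obtain ⟨y₀, hy₀, hy₀'⟩ := hupper
  have hptsne : (pts G).Nonempty := ⟨_, y₀, hy₀, hy₀', rfl⟩
  obtain ⟨d, hd0, hdQ, hB, eU⟩ := size_u hu hG
  obtain ⟨k, hk⟩ := Fusion.Dickson.card_pts_dvd (H := G)
  set Au := Subgroup.centralizer ({Fusion.Dickson.transIn hu} : Set G) with hAu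
  have hk1 : 1 ≤ k := by
    rcases Nat.eq_zero_or_pos k with rfl | h
    · haveI := (Fusion.Dickson.pts_finite (H := G)).to_subtype
      haveI := hptsne.to_subtype
      have := Nat.card_pos (α := pts G)
      rw [hk, zero_mul] at this
      omega
    · exact h
  have hgN : Nat.card ↥(G.map PSL2.pr) = d * Nat.card (shifts G) * (1 + k * Nat.card (shifts G)) := by
    have h1 := Fusion.Dickson.card_eq_upperIn_mul (H := G)
    rw [hB, hk, card_G (G := G)] at h1
    exact Nat.eq_of_mul_eq_mul_right (m := Nat.card (scalarsIn G)) Nat.card_pos (by rw [h1]; ring)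
  have hgZ : (Nat.card ↥(G.map PSL2.pr) : ℤ) = d * Nat.card (shifts G) * (1 + k * Nat.card (shifts G)) := by
    exact_mod_cast hgN
  have hz : (0 : ℤ) < Nat.card (scalarsIn G) := by exact_mod_cast Nat.card_pos
  have hg : (0 : ℤ) < Nat.card ↥(G.map PSL2.pr) := by exact_mod_cast Nat.card_pos
  have hK : (Nat.card G : ℤ) = Nat.card (scalarsIn G) * Nat.card ↥(G.map PSL2.pr) := by
    rw [card_G (G := G)]; push_cast; ring
  rw [hK] at eU
  have hQ2 : (2 : ℤ) ≤ Nat.card (shifts G) := by omega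
  have hzg : (0 : ℤ) < Nat.card (scalarsIn G) * Nat.card ↥(G.map PSL2.pr) := mul_pos hz hg
  have hsemi : ∀ h : G, h ∉ scalarsIn G → h ∉ classSet (scalarsIn G) Au →
      ∃ (A : Subgroup G) (a ε : ℕ), Semi G A a ε ∧ h ∈ A := fun h hh hu' =>
    exists_semi hG hh fun ht => hu' (mem_classSet_u hu hG hh ht)
  have dU : ∀ {A : Subgroup G} {a ε : ℕ}, Semi G A a ε → Disjoint (classSet (scalarsIn G) Au) (classSet (scalarsIn G) A) :=
    fun {A a ε} hA => Set.disjoint_left.mpr fun v hv hv' => by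
      obtain ⟨x, w, hw, hwZ, rfl⟩ := hv
      refine hA.classSet_semis hv' ?_
      rw [← trace_conj (isConj_iff.mpr ⟨(x : SL2), rfl⟩ : IsConj (w : SL2) ((x * w * x⁻¹ : G) : SL2))]
      obtain ⟨h10, hdiag⟩ := (Fusion.Dickson.mem_centralizer_transIn hu).1 hw
      have hd := Fusion.Dickson.det_eq (w : SL2)
      rw [h10, ← hdiag, mul_zero, sub_zero] at hd
      rw [Matrix.trace_fin_two, ← hdiag]
      linear_combination 4 * hd
  have hsubU : classSet (scalarsIn G) Au ⊆ (scalarsIn G : Set G)ᶜ := classSet_subset _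
  rcases Nat.lt_or_ge d 2 with hd1 | hd2
  · obtain rfl : d = 1 := by omega
    push_cast at eU hgZ
    rw [one_mul] at eU hgZ
    by_cases hc : ∀ y : G, y ∉ scalarsIn G → y ∈ classSet (scalarsIn G) Au
    · exfalso
      have hsum := card_cover _ hsubU hc
      rw [← Nat.card_coe_set_eq, hK] at hsum
      have h1 : (Nat.card ↥(G.map PSL2.pr) : ℤ) = Nat.card (shifts G) :=
        mul_left_cancel₀ hz.ne' (by linear_combination eU - (Nat.card (shifts G) : ℤ) * hsum)
      have : (0 : ℤ) < Nat.card (shifts G) * (k * Nat.card (shifts G)) :=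
        mul_pos (by omega) (mul_pos (by omega) (by omega))
      rw [h1] at hgZ
      nlinarith
    push Not at hc
    obtain ⟨x, hxZ, hxU⟩ := hc
    obtain ⟨A, a, ε, hA, hxA⟩ := hsemi x hxZ hxU
    have hA2 : (2 : ℤ) ≤ a := by exact_mod_cast hA.two_le
    have hεA : (ε : ℤ) = 1 ∨ (ε : ℤ) = 2 := by have := hA.eps; omega
    have eA := hA.size
    rw [hK] at eA
    by_cases hc2 : ∀ y : G, y ∉ scalarsIn G → y ∈ classSet (scalarsIn G) Au ∪ classSet (scalarsIn G) A
    swap
    · exfalso
      push Not at hc2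
      obtain ⟨y, hyZ, hy⟩ := hc2
      rw [Set.mem_union, not_or] at hy
      obtain ⟨B, b, δ, hB', hyB⟩ := hsemi y hyZ hy.1
      have hle := card_le _ (Set.union_subset (Set.union_subset hsubU (classSet_subset A)) (classSet_subset B))
      rw [Set.ncard_union_eq (Set.disjoint_union_left.2 ⟨dU hB', hA.disjoint hB' hy.2 hyB hyZ⟩),
        Set.ncard_union_eq (dU hA), ← Nat.card_coe_set_eq, ← Nat.card_coe_set_eq, ← Nat.card_coe_set_eq, hK] at hle
      push_cast at hle
      have eB := hB'.size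
      rw [hK] at eB
      have q1 := (quarter hzg.le hA2 hεA eA).1
      have q2 := (quarter hzg.le (show (2 : ℤ) ≤ b by exact_mod_cast hB'.two_le)
        (show (δ : ℤ) = 1 ∨ (δ : ℤ) = 2 by have := hB'.eps; omega) eB).1
      have q3 := (quarter (ε := 1) (a := (Nat.card (shifts G) : ℤ)) (X := (Nat.card (classSet (scalarsIn G) Au) : ℤ)) hzg.le hQ2 (Or.inl rfl) (by rw [one_mul]; exact eU)).2 rfl
      linarith
    have hsum := card_cover _ (Set.union_subset hsubU (classSet_subset A)) hc2
    rw [Set.ncard_union_eq (dU hA), ← Nat.card_coe_set_eq, ← Nat.card_coe_set_eq, hK] at hsum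
    push_cast at hsum
    obtain ⟨eε, ⟨-, eg⟩ | ⟨eQ, -, eg⟩⟩ := unip_one hz hg hQ2 hA2 hεA eU eA hsum
    · obtain rfl : ε = 2 := by exact_mod_cast eε
      exact kind_of_dihedral hA hG (by exact_mod_cast eg)
    · have eQ' : Nat.card (shifts G) = 3 := by exact_mod_cast eQ
      have hk' : k = 1 := by rw [eg, eQ] at hgZ; omega
      refine field_case hG hu (d := 1) ?_ hptsne (by rw [hk, hk', one_mul]) (Or.inr (by omega))
      rw [hgN, hk', eQ']
  · have hQ3 : (3 : ℤ) ≤ Nat.card (shifts G) := by omega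
    have hd2' : (2 : ℤ) ≤ d := by exact_mod_cast hd2
    have hdQ6 : (6 : ℤ) ≤ d * Nat.card (shifts G) := le_trans (by norm_num) (mul_le_mul hd2' hQ3 (by norm_num) (by omega))
    obtain ⟨x, hxB, hxAu⟩ : ∃ x ∈ upperIn G, x ∉ Au := by
      by_contra hc
      push Not at hc
      have h1 := Subgroup.card_le_of_le (show upperIn G ≤ Au from hc)
      rw [hB, hAu, card_centralizer_u hu hG, Fusion.Dickson.card_unipIn] at h1
      have : 0 < Nat.card (shifts G) * Nat.card (scalarsIn G) := Nat.mul_pos (by omega) Nat.card_pos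
      nlinarith
    have hdiag : (x : SL2).1 0 0 ≠ (x : SL2).1 1 1 := fun e =>
      hxAu ((Fusion.Dickson.mem_centralizer_transIn hu).2 ⟨hxB, e⟩)
    obtain ⟨htr, hcard⟩ := Fusion.Dickson.card_torus hxB hdiag
    have hxZ : x ∉ scalarsIn G := fun hs => hdiag hs.2.2
    rw [tr_sq] at htr
    obtain ⟨A, a, ε, hA, hxA⟩ := exists_semi hG hxZ htr
    rw [hA.ct x hxA hxZ, hA.card, Fusion.Dickson.card_unipIn, hB] at hcard
    obtain rfl : d = a := (Nat.eq_of_mul_eq_mul_right (m := Nat.card (shifts G) * Nat.card (scalarsIn G))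
      (Nat.mul_pos (by omega) Nat.card_pos) (by rw [← hcard]; ring)).symm
    have eA := hA.size
    rw [hK] at eA
    have hεA := hA.eps
    by_cases hc : ∀ y : G, y ∉ scalarsIn G → y ∈ classSet (scalarsIn G) Au ∪ classSet (scalarsIn G) A
    · exfalso
      have hsum := card_cover _ (Set.union_subset hsubU (classSet_subset A)) hc
      rw [Set.ncard_union_eq (dU hA), ← Nat.card_coe_set_eq, ← Nat.card_coe_set_eq, hK] at hsum
      push_cast at hsum
      have hm : (4 : ℤ) ≤ 1 + k * Nat.card (shifts G) := by nlinarith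
      rcases hεA with rfl | rfl <;> push_cast at eA
      · have h1 : (Nat.card ↥(G.map PSL2.pr) : ℤ) = d * Nat.card (shifts G) :=
          mul_left_cancel₀ hz.ne' (by
            linear_combination eU + (Nat.card (shifts G) : ℤ) * eA - (d * Nat.card (shifts G) : ℤ) * hsum)
        rw [h1] at hgZ
        nlinarith
      · have h1 : (Nat.card ↥(G.map PSL2.pr) : ℤ) * (d * Nat.card (shifts G) - Nat.card (shifts G) + 2) =
            2 * (d * Nat.card (shifts G)) := mul_left_cancel₀ hz.ne' (by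
            linear_combination 2 * eU + (Nat.card (shifts G) : ℤ) * eA - 2 * (d * Nat.card (shifts G) : ℤ) * hsum)
        have h2 : (1 + (k : ℤ) * Nat.card (shifts G)) * (d * Nat.card (shifts G) - Nat.card (shifts G) + 2) = 2 :=
          mul_left_cancel₀ (show (d : ℤ) * Nat.card (shifts G) ≠ 0 by omega)
            (by rw [hgZ] at h1; linear_combination h1)
        have h3 : (5 : ℤ) ≤ d * Nat.card (shifts G) - Nat.card (shifts G) + 2 := by
          nlinarith [mul_le_mul_of_nonneg_right hd2' (show (0 : ℤ) ≤ Nat.card (shifts G) by omega)]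
        nlinarith [mul_le_mul hm h3 (by norm_num) (by omega)]
    push Not at hc
    obtain ⟨y, hyZ, hy⟩ := hc
    rw [Set.mem_union, not_or] at hy
    obtain ⟨B, b, δ, hB', hyB⟩ := hsemi y hyZ hy.1
    have dd := Set.disjoint_union_left.2 ⟨dU hB', hA.disjoint hB' hy.2 hyB hyZ⟩
    have hB2 : (2 : ℤ) ≤ b := by exact_mod_cast hB'.two_le
    have hεB : (δ : ℤ) = 1 ∨ (δ : ℤ) = 2 := by have := hB'.eps; omega
    have eB := hB'.size
    rw [hK] at eB
    have hle := card_le _ (Set.union_subset (Set.union_subset hsubU (classSet_subset A)) (classSet_subset B))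
    rw [Set.ncard_union_eq dd, Set.ncard_union_eq (dU hA), ← Nat.card_coe_set_eq, ← Nat.card_coe_set_eq,
      ← Nat.card_coe_set_eq, hK] at hle
    push_cast at hle
    obtain ⟨q1, q1'⟩ := quarter hzg.le hB2 hεB eB
    rcases hεA with rfl | rfl <;> push_cast at eA
    · exfalso
      have e5 : (5 : ℤ) * (Nat.card (scalarsIn G) * Nat.card ↥(G.map PSL2.pr)) ≤
          6 * (Nat.card (classSet (scalarsIn G) Au) + Nat.card (classSet (scalarsIn G) A) : ℤ) := by
        have e : ((Nat.card (classSet (scalarsIn G) Au) : ℤ) + Nat.card (classSet (scalarsIn G) A)) *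
            (d * Nat.card (shifts G)) =
            Nat.card (scalarsIn G) * Nat.card ↥(G.map PSL2.pr) * (d * Nat.card (shifts G) - 1) := by
          linear_combination eU + (Nat.card (shifts G) : ℤ) * eA
        by_contra hh; push Not at hh; nlinarith
      linarith
    have hhalf : (Nat.card (scalarsIn G) * Nat.card ↥(G.map PSL2.pr) : ℤ) <
        2 * (Nat.card (classSet (scalarsIn G) Au) + Nat.card (classSet (scalarsIn G) A) : ℤ) := by
      have e : 2 * ((Nat.card (classSet (scalarsIn G) Au) : ℤ) + Nat.card (classSet (scalarsIn G) A)) *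
          (d * Nat.card (shifts G)) = Nat.card (scalarsIn G) * Nat.card ↥(G.map PSL2.pr) *
            (d * Nat.card (shifts G) + Nat.card (shifts G) - 2) := by
        linear_combination 2 * eU + (Nat.card (shifts G) : ℤ) * eA
      by_contra hh; push Not at hh
      nlinarith [mul_pos hzg (show (0 : ℤ) < Nat.card (shifts G) - 2 by omega),
        mul_le_mul_of_nonneg_right hh (show (0 : ℤ) ≤ d * Nat.card (shifts G) by omega)]
    obtain rfl : δ = 2 := hB'.eps.resolve_left fun h => by
      subst h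
      have := q1' (by norm_num)
      linarith
    push_cast at eB
    by_cases hcv : ∀ w : G, w ∉ scalarsIn G →
        w ∈ classSet (scalarsIn G) Au ∪ classSet (scalarsIn G) A ∪ classSet (scalarsIn G) B
    swap
    · exfalso
      push Not at hcv
      obtain ⟨w, hwZ, hw⟩ := hcv
      rw [Set.mem_union, Set.mem_union, not_or, not_or] at hw
      obtain ⟨C, c, γ, hC, hwC⟩ := hsemi w hwZ hw.1.1
      have hle' := card_le _ (Set.union_subset (Set.union_subset (Set.union_subset hsubU (classSet_subset A))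
        (classSet_subset B)) (classSet_subset C))
      rw [Set.ncard_union_eq (Set.disjoint_union_left.2 ⟨Set.disjoint_union_left.2
          ⟨dU hC, hA.disjoint hC hw.1.2 hwC hwZ⟩, hB'.disjoint hC hw.2 hwC hwZ⟩),
        Set.ncard_union_eq dd, Set.ncard_union_eq (dU hA), ← Nat.card_coe_set_eq, ← Nat.card_coe_set_eq,
        ← Nat.card_coe_set_eq, ← Nat.card_coe_set_eq, hK] at hle'
      push_cast at hle'
      have eC := hC.size
      rw [hK] at eC
      have q2 := (quarter hzg.le (show (2 : ℤ) ≤ c by exact_mod_cast hC.two_le)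
        (show (γ : ℤ) = 1 ∨ (γ : ℤ) = 2 by have := hC.eps; omega) eC).1
      linarith
    have hsum := card_cover _ (Set.union_subset (Set.union_subset hsubU (classSet_subset A)) (classSet_subset B)) hcv
    rw [Set.ncard_union_eq dd, Set.ncard_union_eq (dU hA), ← Nat.card_coe_set_eq, ← Nat.card_coe_set_eq,
      ← Nat.card_coe_set_eq, hK] at hsum
    push_cast at hsum
    rcases torus hz hQ3 hd2' (by exact_mod_cast hdQ) (by exact_mod_cast hk1) hB2 hgZ eU eA eB hsum with
      ⟨ek, hd⟩ | ⟨eQ, ed, -, eb, eg⟩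
    · have hk' : k = 1 := by exact_mod_cast ek
      refine field_case hG hu (d := d) (by rw [hgN, hk', one_mul, add_comm]) hptsne (by rw [hk, hk', one_mul]) ?_
      omega
    · obtain rfl : d = 2 := by exact_mod_cast ed
      obtain rfl : b = 5 := by exact_mod_cast eb
      rw [eg] at eU eA eB
      rw [eQ] at eU
      have eQ' : Nat.card (shifts G) = 3 := by exact_mod_cast eQ
      have h2 : (2 : F) ≠ 0 := fun h => by
        haveI : Fact (Nat.Prime 3) := ⟨Nat.prime_three⟩
        obtain ⟨t, ht⟩ := exists_prime_addOrderOf_dvd_card' (G := shifts G) 3 (by rw [eQ'])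
        have ht2 : (t : F) + t = 0 := by linear_combination (t : F) * h
        have := addOrderOf_dvd_of_nsmul_eq_zero (show 2 • t = 0 by rw [two_nsmul]; exact Subtype.ext ht2)
        rw [ht] at this
        omega
      refine Kind.a5 h2 (a5_of (proj G) proj_surjective (scalarsIn G) ker_proj ?_ ![A, Au, B] ?_ ?_ ?_ ?_ ?_)
      · rw [card_G (G := G), show Nat.card ↥(G.map PSL2.pr) = 60 by exact_mod_cast eg]
      · intro i; fin_cases i
        exacts [hA.le, Fusion.Dickson.scalarsIn_le_centralizer _, hB'.le]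
      · intro i; fin_cases i
        · exact hA.card
        · show Nat.card Au = 3 * _
          rw [hAu, card_centralizer_u hu hG, Fusion.Dickson.card_unipIn, eQ']
        · exact hB'.card
      · intro i; fin_cases i <;>
          (simp only [Matrix.cons_val_zero, Matrix.cons_val_one, Matrix.cons_val]; rw [← Nat.card_coe_set_eq]; push_cast at eU eA eB ⊢; omega)
      · intro i j hij; fin_cases i <;> fin_cases j
        all_goals first | exact absurd rfl hij | exact (dU hA).symm | exact dU hA | exact dU hB' | exact (dU hB').symm | exact hA.disjoint hB' hy.2 hyB hyZ | exact (hA.disjoint hB' hy.2 hyB hyZ).symm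
      · intro v hv
        rcases hcv v hv with (h | h) | h
        exacts [⟨1, h⟩, ⟨0, h⟩, ⟨2, h⟩]

theorem map_conjSL_center (g : GL (Fin 2) F) :
    Subgroup.center SL2 ≤ (Subgroup.center SL2).map (PSL2.conjSL g).toMonoidHom :=
  (Subgroup.characteristic_iff_map_eq.mp inferInstance _).ge

theorem map_pr_conj (g : GL (Fin 2) F) (G : Subgroup SL2) :
    (G.map (PSL2.conjSL g).toMonoidHom).map PSL2.pr = (G.map PSL2.pr).map (PSL2.conjP g).toMonoidHom := by
  rw [Subgroup.map_map, Subgroup.map_map]; rfl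

theorem Kind.of_conj {g : GL (Fin 2) F} (h : Kind (G.map (PSL2.conjSL g).toMonoidHom)) : Kind G := by
  have e : ↥(G.map PSL2.pr) ≃* ↥((G.map (PSL2.conjSL g).toMonoidHom).map PSL2.pr) :=
    ((PSL2.conjP g).subgroupMap (G.map PSL2.pr)).trans (MulEquiv.subgroupCongr (map_pr_conj g G).symm)
  have hcomp : ∀ g' : GL (Fin 2) F, (G.map (PSL2.conjSL g).toMonoidHom).map (PSL2.conjSL g').toMonoidHom =
      G.map (PSL2.conjSL (g' * g)).toMonoidHom := fun g' => by
    rw [Subgroup.map_map, map_mul]; rfl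
  cases h with
  | cyclic k hk hc hcard =>
    exact Kind.cyclic k hk (isCyclic_of_surjective e.symm e.symm.surjective) ((Nat.card_congr e.toEquiv).trans hcard)
  | dihedral k hk h2 hiso => exact Kind.dihedral k hk h2 (hiso.map e.trans)
  | borel g' hg hu => exact Kind.borel (g' * g) (hcomp g' ▸ hg) (hcomp g' ▸ hu)
  | a4 h2 hiso => exact Kind.a4 h2 (hiso.map e.trans)
  | s4 h2 hiso => exact Kind.s4 h2 (hiso.map e.trans)
  | a5 h2 hiso => exact Kind.a5 h2 (hiso.map e.trans)
  | field g' K hlow hhigh hiso =>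
    exact Kind.field (g' * g) K (hcomp g' ▸ hlow) (hcomp g' ▸ hhigh)
      (hiso.imp (fun h => h.map e.trans) fun h => ⟨h.1, h.2.map e.trans⟩)

/-- Dickson's classification, for a subgroup of `SL₂` containing the centre. -/
theorem kind (hG : Subgroup.center SL2 ≤ G) : Kind G := by
  classical
  by_cases hs : ∀ h : G, h ∉ scalarsIn G → (h : SL2).1.trace * (h : SL2).1.trace ≠ 4
  · exact semisimple_case hG hs
  push Not at hs
  obtain ⟨h, hhZ, ht⟩ := hs
  obtain ⟨ε, hε, hte⟩ := exists_eps ht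
  obtain ⟨c, hc⟩ : ∃ c : SL2, c.1 = ε • (1 : Matrix (Fin 2) (Fin 2) F) :=
    ⟨⟨_, by rw [Matrix.det_smul, Matrix.det_one, mul_one, Fintype.card_fin, pow_two, hε]⟩, rfl⟩
  have hcG : c ∈ G := hG (mem_center_iff.mpr ⟨ε, hc⟩)
  obtain ⟨x, hx⟩ : ∃ x : SL2, x = c * h := ⟨_, rfl⟩
  have hxv : x.1 = ε • (h : SL2).1 := by rw [hx, val_mul', hc, Matrix.smul_mul, Matrix.one_mul]
  have hxns : ¬ IsSc x.1 := fun ⟨t, hsc⟩ => hhZ (mem_Z.mpr ⟨ε * t, by
    calc (h : SL2).1 = (ε * ε) • (h : SL2).1 := by rw [hε]; exact (one_smul F _).symm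
      _ = _ := by rw [← smul_smul, ← hxv, hsc, smul_smul]⟩)
  obtain ⟨P, hP⟩ := exists_conj (A := x.1) (B := (PSL2.uS (1 : F)).1) hxns
    (not_isSc_of_01 (by simp)) (by
      rw [hxv, Matrix.trace_smul, smul_eq_mul, hte, PSL2.uS_val, Matrix.trace_fin_two]
      simp
      linear_combination 2 * hε) (by rw [x.2, (PSL2.uS (1 : F)).2])
  refine Kind.of_conj (g := P) (unip_case ((map_conjSL_center P).trans (Subgroup.map_mono hG)) ⟨x, hx ▸ mul_mem hcG h.2, ?_⟩)
  apply Subtype.ext
  show (PSL2.conjSL P x).1 = _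
  rw [PSL2.conjSL_val, hP, mul_assoc, Units.mul_inv, mul_one]

theorem center_le_comap (H : Subgroup P2) : Subgroup.center SL2 ≤ H.comap PSL2.pr := fun z hz => by
  rw [Subgroup.mem_comap, show PSL2.pr z = 1 from (QuotientGroup.eq_one_iff z).mpr hz]
  exact one_mem H

theorem map_comap_pr (H : Subgroup P2) : (H.comap PSL2.pr).map PSL2.pr = H :=
  Subgroup.map_comap_eq_self_of_surjective PSL2.pr_surjective H

/-- Dickson's classification of the subgroups of `PSL₂`. -/
theorem classify (H : Subgroup P2) : Kind (H.comap PSL2.pr) := kind (center_le_comap H)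

end Cfsg.Agent.Classical.Dickson
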