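import Cfsg.Agent.Lib.Classical.Dickson.SubfieldMax
import Cfsg.Agent.Lib.Classical.PSL2Poly

/-!
# Maximal subgroups inside a subfield subgroup of `PSL₂`
-/

set_option autoImplicit false
set_option linter.unusedSectionVars false

namespace Cfsg.Agent.Classical.Dickson

open Cfsg.Agent.Small Cfsg.Agent.Small.SL2C

universe u

variable {F : Type u} [Field F] [Fintype F]

local notation "SL2" => Matrix.SpecialLinearGroup (Fin 2) F
local notation "P2" => Matrix.ProjectiveSpecialLinearGroup (Fin 2) F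
local notation "M2" => Matrix (Fin 2) (Fin 2) F

/-- The multiples of the matrices over `L` in `SL₂`. -/
def scaled (L : Subfield F) : Subgroup SL2 where
  carrier := {y | ∃ c : F, ∃ N : Matrix (Fin 2) (Fin 2) L, y.1 = c • N.map L.subtype}
  mul_mem' := fun {y z} ⟨c, N, hy⟩ ⟨d, N', hz⟩ => ⟨c * d, N * N', by
    rw [Matrix.SpecialLinearGroup.coe_mul, hy, hz, Matrix.map_mul, Matrix.smul_mul, Matrix.mul_smul, smul_smul]⟩
  one_mem' := ⟨1, 1, by rw [one_smul, Matrix.map_one _ (map_zero _) (map_one _)]; rfl⟩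
  inv_mem' := fun {y} ⟨c, N, hy⟩ => ⟨c, N.adjugate, by
    rw [Matrix.SpecialLinearGroup.coe_inv, hy, Matrix.adjugate_smul, Fintype.card_fin, pow_one]
    exact congrArg (c • ·) (RingHom.map_adjugate L.subtype N).symm⟩

/-- The subfield subgroup of `PSL₂`. -/
noncomputable def scaledP (L : Subfield F) : Subgroup P2 := (scaled L).map PSL2.pr

theorem center_le_scaled (L : Subfield F) : Subgroup.center SL2 ≤ scaled L := fun z hz => by
  obtain ⟨c, hc⟩ := mem_center_iff.mp hz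
  exact ⟨c, 1, by rw [hc, Matrix.map_one _ (map_zero _) (map_one _)]⟩

theorem mem_scaledP {L : Subfield F} {y : SL2} (h : PSL2.pr y ∈ scaledP L) : y ∈ scaled L := by
  obtain ⟨z, hz, he⟩ := h
  have h1 : y * z⁻¹ ∈ Subgroup.center SL2 := by
    rw [← SL2Four.ker_pr, MonoidHom.mem_ker, map_mul, map_inv, he, mul_inv_cancel]
  have := mul_mem (center_le_scaled L h1) hz
  rwa [inv_mul_cancel_right] at this

theorem uS_mem_scaled {L : Subfield F} {x : F} : PSL2.uS x ∈ scaled L ↔ x ∈ L := by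
  constructor
  · rintro ⟨c, N, h⟩
    have h00 : (1 : F) = c * (N 0 0 : F) := congrFun (congrFun h 0) 0
    have h01 : x = c * (N 0 1 : F) := congrFun (congrFun h 0) 1
    have hN : (N 0 0 : F) ≠ 0 := fun e => one_ne_zero (h00.trans (by rw [e, mul_zero]))
    have : x = (N 0 1 : F) / (N 0 0 : F) := by
      rw [eq_div_iff hN, h01]; linear_combination (-(N 0 1 : F)) * h00
    rw [this]; exact L.div_mem (N 0 1).2 (N 0 0).2
  · intro hx
    refine ⟨1, !![1, ⟨x, hx⟩; 0, 1], ?_⟩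
    ext i j
    fin_cases i <;> fin_cases j <;> simp [PSL2.uS] <;> rfl

theorem scaledP_ne_top {L : Subfield F} (hL : L ≠ ⊤) : scaledP L ≠ ⊤ := fun h => hL (by
  rw [eq_top_iff]
  exact fun x _ => uS_mem_scaled.mp (mem_scaledP (h ▸ Subgroup.mem_top _)))

theorem scaled_mono {L L' : Subfield F} (h : L ≤ L') : scaled L ≤ scaled L' := fun y ⟨c, N, hy⟩ =>
  ⟨c, N.map (Subfield.inclusion h), hy.trans (by rw [Matrix.map_map]; rfl)⟩

/-- `PGL₂` of a subfield. -/
noncomputable def pglMap (L : Subfield F) :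
    Matrix.ProjGenLinGroup (Fin 2) L →* Matrix.ProjGenLinGroup (Fin 2) F :=
  Matrix.ProjGenLinGroup.map L.subtype

theorem pglMap_injective (L : Subfield F) : Function.Injective (pglMap L) := by
  rw [← MonoidHom.ker_eq_bot_iff, eq_bot_iff]
  intro x hx
  obtain ⟨g, rfl⟩ := Matrix.ProjGenLinGroup.mk_surjective x
  rw [MonoidHom.mem_ker, pglMap, Matrix.ProjGenLinGroup.map_mk, Matrix.ProjGenLinGroup.mk_eq_one,
    Matrix.GeneralLinearGroup.center_eq_range_scalar] at hx
  obtain ⟨u, hu⟩ := hx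
  have he : ∀ i j, (g.val i j : F) = if i = j then (u : F) else 0 := fun i j => by
    have h := congrArg (fun M : GL (Fin 2) F => M.val i j) hu
    refine h.symm.trans ?_
    simp [Matrix.diagonal]
  have h01 : g.val 0 1 = 0 := Subtype.ext (by simpa using he 0 1)
  have h10 : g.val 1 0 = 0 := Subtype.ext (by simpa using he 1 0)
  have h11 : g.val 1 1 = g.val 0 0 := Subtype.ext ((he 1 1).trans (he 0 0).symm)
  have h00 : g.val 0 0 ≠ 0 := fun h0 => u.ne_zero (by have := he 0 0; rw [h0] at this; simpa using this.symm)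
  rw [Subgroup.mem_bot, Matrix.ProjGenLinGroup.mk_eq_one, Matrix.GeneralLinearGroup.center_eq_range_scalar]
  exact ⟨Units.mk0 _ h00, Units.ext (Matrix.ext fun i j => by fin_cases i <;> fin_cases j <;> simp [h01, h10, h11])⟩

theorem scaledP_map_le (L : Subfield F) :
    (scaledP L).map Matrix.ProjectiveSpecialLinearGroup.toPGL ≤ (pglMap L).range := by
  rintro _ ⟨_, ⟨y, ⟨c, N, hy⟩, rfl⟩, rfl⟩
  have hd := y.2
  rw [hy, Matrix.det_smul, Fintype.card_fin, show (N.map L.subtype).det = L.subtype N.det from (RingHom.map_det L.subtype N).symm] at hd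
  have hN : N.det ≠ 0 := fun e => by rw [e, map_zero, mul_zero] at hd; exact zero_ne_one hd
  have hc : c ≠ 0 := fun e => by simp [e] at hd
  refine ⟨Matrix.ProjGenLinGroup.mk (Matrix.GeneralLinearGroup.mkOfDetNeZero N hN), ?_⟩
  rw [pglMap, Matrix.ProjGenLinGroup.map_mk, show PSL2.pr y = QuotientGroup.mk y from rfl,
    Matrix.ProjectiveSpecialLinearGroup.toPGL_mk, Matrix.ProjGenLinGroup.mk_eq_mk_iff]
  refine ⟨Units.mk0 c hc, Units.ext ?_⟩
  show _ = y.1
  rw [hy]
  ext i j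
  simp [Matrix.mul_apply, Matrix.diagonal, Fin.sum_univ_two]
  fin_cases j <;> simp <;> ring

/-- For an odd degree, scaled matrices are matrices over the subfield. -/
theorem scaled_odd {L : Subfield F} {m : ℕ} (hm : Odd m) (hL : Nat.card L ^ m = Fintype.card F)
    {y : SL2} (hy : y ∈ scaled L) : ∀ i j, y.1 i j ∈ L := by
  obtain ⟨c, N, hy⟩ := hy
  have hd := y.2
  rw [hy, Matrix.det_smul, Fintype.card_fin, show (N.map L.subtype).det = L.subtype N.det from (RingHom.map_det L.subtype N).symm] at hd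
  have hN : N.det ≠ 0 := fun e => by rw [e, map_zero, mul_zero] at hd; exact zero_ne_one hd
  have hc0 : c ≠ 0 := fun e => by simp [e] at hd
  have hc2 : c ^ 2 ∈ L := by
    rw [show c ^ 2 = (L.subtype N.det)⁻¹ from eq_inv_of_mul_eq_one_left hd]
    exact L.inv_mem (N.det).2
  haveI : Fintype L := Fintype.ofFinite L
  obtain ⟨p, hp⟩ := CharP.exists L
  obtain ⟨n, hpp, hn⟩ := FiniteField.card L p
  rw [Nat.card_eq_fintype_card] at hL
  have hmem : ∀ x : F, x ^ Fintype.card L = x → x ∈ L := by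
    classical
    intro x hx
    have hroot : ∀ z : F, z ∈ L → z ^ Fintype.card L = z := fun z hz =>
      congrArg Subtype.val (FiniteField.pow_card (⟨z, hz⟩ : L))
    by_contra hne
    have h1 : 1 < Fintype.card L := Fintype.one_lt_card
    have hsub : insert x ((Finset.univ : Finset L).image Subtype.val) ⊆
        (Polynomial.X ^ Fintype.card L - Polynomial.X : Polynomial F).roots.toFinset := fun z hz => by
      rw [Multiset.mem_toFinset, Polynomial.mem_roots (FiniteField.X_pow_card_sub_X_ne_zero F h1)]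
      rcases Finset.mem_insert.mp hz with rfl | hz
      · simp [hx]
      · obtain ⟨w, -, rfl⟩ := Finset.mem_image.mp hz
        simp [hroot _ w.2]
    have h2 := (Finset.card_le_card hsub).trans ((Multiset.toFinset_card_le _).trans (Polynomial.card_roots' _))
    rw [FiniteField.X_pow_card_sub_X_natDegree_eq F h1, Finset.card_insert_of_notMem (fun h => by
      obtain ⟨w, -, rfl⟩ := Finset.mem_image.mp h
      exact hne w.2), Finset.card_image_of_injective _ Subtype.val_injective, Finset.card_univ] at h2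
    omega
  have hsq : (c ^ Fintype.card L) * (c ^ Fintype.card L) = c * c := by
    rw [← pow_add, ← two_mul, pow_mul, ← pow_two]
    exact congrArg Subtype.val (FiniteField.pow_card (⟨c ^ 2, hc2⟩ : L))
  have hc : c ^ Fintype.card L = c := by
    rcases mul_self_eq_mul_self_iff.mp hsq with h | h
    · exact h
    · by_cases h2 : (2 : F) = 0
      · rw [h]; linear_combination (-c) * h2
      exfalso
      have hiter : ∀ k, c ^ (Fintype.card L ^ k) = (-1) ^ k * c := fun k => by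
        induction k with
        | zero => simp
        | succ k ih =>
          have hQ : Odd (Fintype.card L) := by
            rw [← Nat.not_even_iff_odd, even_iff_two_dvd]
            exact fun hd' => not_two_dvd_iff.mpr h2 (hL ▸ hd'.pow (by rintro rfl; exact absurd hm (by decide)))
          rw [pow_succ, pow_mul, ih, mul_pow, h, ← pow_mul, mul_comm k, pow_mul, hQ.neg_one_pow, pow_succ]
          ring
      have := hiter m
      rw [hL, FiniteField.pow_card, hm.neg_one_pow] at this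
      exact hc0 ((mul_eq_zero.mp (show (2 : F) * c = 0 by linear_combination this)).resolve_left h2)
  intro i j
  rw [hy]
  exact L.mul_mem (hmem c hc) (N i j).2

theorem toPGL_square {L : Subfield F} (hsq : ∀ a : L, IsSquare (a : F)) :
    (pglMap L).range ≤ (scaledP L).map Matrix.ProjectiveSpecialLinearGroup.toPGL := by
  rintro _ ⟨x, rfl⟩
  obtain ⟨g, rfl⟩ := Matrix.ProjGenLinGroup.mk_surjective x
  obtain ⟨s, hs⟩ := hsq g.val.det
  have hs0 : s ≠ 0 := fun e => by
    rw [e, mul_zero] at hs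
    exact ((Matrix.isUnit_iff_isUnit_det _).mp g.isUnit).ne_zero (Subtype.ext hs)
  let y : SL2 := ⟨s⁻¹ • g.val.map L.subtype, by
    rw [Matrix.det_smul, Fintype.card_fin, show (g.val.map L.subtype).det = L.subtype g.val.det from (RingHom.map_det L.subtype g.val).symm,
      show L.subtype g.val.det = s * s from hs]
    field_simp⟩
  refine ⟨PSL2.pr y, ⟨y, ⟨s⁻¹, g.val, rfl⟩, rfl⟩, ?_⟩
  rw [pglMap, Matrix.ProjGenLinGroup.map_mk, show PSL2.pr y = QuotientGroup.mk y from rfl,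
    Matrix.ProjectiveSpecialLinearGroup.toPGL_mk, Matrix.ProjGenLinGroup.mk_eq_mk_iff]
  refine ⟨Units.mk0 s hs0, Units.ext ?_⟩
  ext i j
  show (((⟨_, y.2⟩ : SL2) : M2) * Matrix.scalar (Fin 2) s) i j = (g.val i j : F)
  simp [y, Matrix.mul_apply, Matrix.diagonal, Fin.sum_univ_two]
  fin_cases j <;> simp <;> field_simp

theorem scaledP_equiv_pgl {L : Subfield F} (hsq : ∀ a : L, IsSquare (a : F)) :
    Nonempty (scaledP L ≃* Matrix.ProjGenLinGroup (Fin 2) L) :=
  ⟨(((scaledP L).equivMapOfInjective _ Matrix.ProjectiveSpecialLinearGroup.toPGL_injective).trans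
    (MulEquiv.subgroupCongr (le_antisymm (scaledP_map_le L) (toPGL_square hsq)))).trans
      (MonoidHom.ofInjective (pglMap_injective L)).symm⟩

theorem scaledP_equiv_psl {L : Subfield F} {m : ℕ} (hm : Odd m) (hL : Nat.card L ^ m = Fintype.card F) :
    Nonempty (scaledP L ≃* Matrix.ProjectiveSpecialLinearGroup (Fin 2) L) := by
  obtain ⟨φ, hφ⟩ : ∃ φ : Matrix.SpecialLinearGroup (Fin 2) L →* P2,
      φ = PSL2.pr.comp (Matrix.SpecialLinearGroup.map L.subtype) := ⟨_, rfl⟩
  have hker : φ.ker = Subgroup.center _ := by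
    haveI : Fintype L := Fintype.ofFinite L
    ext x
    rw [MonoidHom.mem_ker, hφ, MonoidHom.comp_apply, pr_eq_one_iff, mem_center_iff, isSc_iff, isSc_iff]
    simp [L.subtype.injective.eq_iff]
  have hr : φ.range = scaledP L := by
    subst hφ
    refine le_antisymm ?_ ?_
    · rintro _ ⟨x, rfl⟩
      exact ⟨_, ⟨1, x.1, by rw [one_smul]; rfl⟩, rfl⟩
    · rintro _ ⟨y, hy, rfl⟩
      have hm' := scaled_odd hm hL hy
      let N : Matrix (Fin 2) (Fin 2) L := Matrix.of fun i j => ⟨y.1 i j, hm' i j⟩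
      refine ⟨⟨N, L.subtype.injective ?_⟩, congrArg PSL2.pr (Subtype.ext ?_)⟩
      · rw [RingHom.map_det, map_one]; exact y.2
      · ext i j; rfl
  exact ⟨(((QuotientGroup.quotientMulEquivOfEq hker.symm).trans (QuotientGroup.quotientKerEquivRange φ)).trans
    (MulEquiv.subgroupCongr hr)).symm⟩

theorem coatom_conj {M : Subgroup P2} (hM : IsCoatom M) (g : GL (Fin 2) F) :
    IsCoatom (M.map (PSL2.conjP g).toMonoidHom) :=
  ((PSL2.conjP g).mapSubgroup.isCoatom_iff M).mpr hM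

/-- A maximal subgroup inside a proper subfield subgroup. -/
theorem field_max {M : Subgroup P2} (hM : IsCoatom M) (g : GL (Fin 2) F) {L : Subfield F} (hL : L ≠ ⊤)
    (hle : M.map (PSL2.conjP g).toMonoidHom ≤ scaledP L) :
    ∃ r : ℕ, r.Prime ∧ Nat.card L ^ r = Fintype.card F ∧
      ((r = 2 ∧ Nonempty (M ≃* Matrix.ProjGenLinGroup (Fin 2) L)) ∨
        (Odd r ∧ Nonempty (M ≃* Matrix.ProjectiveSpecialLinearGroup (Fin 2) L))) := by
  classical
  have hM' := coatom_conj hM g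
  have heq : scaledP L = M.map (PSL2.conjP g).toMonoidHom :=
    ((hM'.le_iff.mp hle).resolve_left (scaledP_ne_top hL))
  let e : M ≃* scaledP L := ((PSL2.conjP g).subgroupMap M).trans (MulEquiv.subgroupCongr heq.symm)
  obtain ⟨m, hm, hLm⟩ := subfield_pow L
  have hm1 : m ≠ 1 := by
    rintro rfl
    rw [pow_one] at hLm
    refine hL (SetLike.coe_injective ?_)
    have : (L : Set F) = Set.univ := Set.eq_of_subset_of_ncard_le (Set.subset_univ _) (by
      rw [Set.ncard_univ, Nat.card_eq_fintype_card, ← hLm, ← Nat.card_coe_set_eq]; rfl)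
    rw [this]; rfl
  have hmp : m.Prime := by
    by_contra hnp
    obtain ⟨k, ⟨j, hj⟩, hk2, hkm⟩ := Nat.exists_dvd_of_not_prime2 (by omega) hnp
    obtain ⟨p, hp⟩ := CharP.exists F
    obtain ⟨n, hpp, hn⟩ := FiniteField.card F p
    obtain ⟨f, -, hf⟩ := (Nat.dvd_prime_pow hpp).mp ((dvd_pow_self (Nat.card L) (by omega : m ≠ 0)).trans (dvd_of_eq (hLm.trans hn)))
    have hfm : f * m = n := Nat.pow_right_injective hpp.two_le (show p ^ (f * m) = p ^ (n : ℕ) by rw [pow_mul, ← hf, hLm, hn])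
    haveI := hp
    haveI : Fact p.Prime := ⟨hpp⟩
    let L' : Subfield F := (iterateFrobenius F p (f * k)).eqLocusField (RingHom.id F)
    have hmemL' : ∀ x, x ∈ L' ↔ x ^ (p ^ (f * k)) = x := fun x => by
      show iterateFrobenius F p (f * k) x = x ↔ _
      rw [iterateFrobenius_def]
    have hLL' : L ≤ L' := fun x hx => by
      haveI : Fintype L := Fintype.ofFinite L
      rw [hmemL', pow_mul, ← hf, Nat.card_eq_fintype_card]
      exact congrArg Subtype.val (FiniteField.pow_card_pow k (⟨x, hx⟩ : L))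
    obtain ⟨F₁, hc1, -⟩ := Classical.exists_subfield_pow hpp hn (show f * k ∣ (n : ℕ) from ⟨j, by rw [← hfm, hj]; ring⟩)
      (Nat.pos_of_ne_zero (Nat.mul_ne_zero (by rintro rfl; rw [zero_mul] at hfm; exact n.ne_zero hfm.symm) (by omega)))
    have h1 : F₁ ≤ L' := fun x hx => by
      haveI : Fintype F₁ := Fintype.ofFinite F₁
      rw [hmemL', ← hc1, Nat.card_eq_fintype_card]
      exact congrArg Subtype.val (FiniteField.pow_card (⟨x, hx⟩ : F₁))
    have hne' : L' ≠ ⊤ := fun h => by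
      obtain ⟨u, hu⟩ := IsCyclic.exists_generator (α := Fˣ)
      have hord : orderOf u = Fintype.card F - 1 := by
        rw [orderOf_eq_card_of_forall_mem_zpowers hu, Nat.card_units, Nat.card_eq_fintype_card]
      have hp1 : 1 < p ^ (f * k) := Nat.one_lt_pow (Nat.mul_ne_zero (by rintro rfl; rw [zero_mul] at hfm; exact n.ne_zero hfm.symm) (by omega)) hpp.one_lt
      have h2 : u ^ (p ^ (f * k) - 1) * u = 1 * u := by
        rw [← pow_succ, Nat.sub_add_cancel hp1.le, one_mul]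
        exact Units.ext (by rw [Units.val_pow_eq_pow_val]; exact (hmemL' _).mp (h ▸ Subfield.mem_top _))
      have := Nat.le_of_dvd (by omega) (hord ▸ orderOf_dvd_of_pow_eq_one (mul_right_cancel h2))
      have hlt : p ^ (f * k) < p ^ (n : ℕ) := Nat.pow_lt_pow_right hpp.one_lt (by
        rw [← hfm]; exact Nat.mul_lt_mul_of_pos_left hkm (Nat.pos_of_ne_zero (by rintro rfl; rw [zero_mul] at hfm; exact n.ne_zero hfm.symm)))
      omega
    have h2 : scaledP L = scaledP L' := by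
      rw [heq]
      exact (((hM'.le_iff.mp ((hle).trans (Subgroup.map_mono (scaled_mono hLL')))).resolve_left (scaledP_ne_top hne'))).symm
    have hsub : L' ≤ L := fun x hx =>
      uS_mem_scaled.mp (mem_scaledP (h2 ▸ ⟨_, uS_mem_scaled.mpr hx, rfl⟩))
    have hcard : Nat.card F₁ ≤ Nat.card L :=
      Nat.card_le_card_of_injective (Subfield.inclusion (h1.trans hsub)) (Subfield.inclusion (h1.trans hsub)).injective
    rw [hc1, hf] at hcard
    have := (Nat.pow_le_pow_iff_right hpp.one_lt).mp hcard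
    have hf0 : f ≠ 0 := by rintro rfl; rw [zero_mul] at hfm; exact n.ne_zero hfm.symm
    have : f * 1 < f * k := Nat.mul_lt_mul_of_pos_left hk2 (Nat.pos_of_ne_zero hf0)
    omega
  refine ⟨m, hmp, hLm, ?_⟩
  rcases hmp.eq_two_or_odd' with h | h
  · subst h
    haveI : Fintype L := Fintype.ofFinite L
    obtain ⟨f⟩ := scaledP_equiv_pgl (L := L) (isSquare_of_even_degree L.subtype even_two (by
      rw [← Nat.card_eq_fintype_card]; exact hLm))
    exact Or.inl ⟨rfl, ⟨e.trans f⟩⟩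
  · obtain ⟨f⟩ := scaledP_equiv_psl (L := L) h hLm
    exact Or.inr ⟨h, ⟨e.trans f⟩⟩

/-- Anticommuting pairs with the same first member are conjugate under `GL₂`. -/
theorem pairs_conj (h2 : (2 : F) ≠ 0) {A j j' : SL2} (hA : A.1.trace = 0) (hj : SL2Four.Anti A j)
    (hj' : SL2Four.Anti A j') :
    ∃ g : GL (Fin 2) F, PSL2.conjP g (PSL2.pr A) = PSL2.pr A ∧ PSL2.conjP g (PSL2.pr j) = PSL2.pr j' := by
  obtain ⟨t, ht⟩ : ∃ t, t = j⁻¹ * j' := ⟨_, rfl⟩
  have htor : t ∈ tor A := ht ▸ (SL2Four.anti_iff hj).mp hj'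
  have hjt : j' = j * t := by rw [ht, mul_inv_cancel_left]
  by_cases h : t.1.trace = -2
  · refine ⟨1, by rw [map_one]; rfl, ?_⟩
    rw [map_one]
    show PSL2.pr j = PSL2.pr j'
    obtain ⟨a, b, hab, hd⟩ := exists_of_mem_tor (SL2Four.not_isSc_of_trace_zero h2 hA) htor
    rw [hab, comb_trace, hA, mul_zero, add_zero] at h
    have ha : a = -1 := mul_left_cancel₀ h2 (by linear_combination h)
    have hb : b = 0 := by
      rw [hA] at hd
      exact mul_self_eq_zero.mp (by subst ha; linear_combination hd)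
    refine (PSL2.pr_eq_iff _ _).mpr ⟨-1, by ring, ?_⟩
    rw [hjt, val_mul', hab, ha, hb, comb]
    simp
  · have hdet : ((1 : M2) + (t⁻¹).1).det ≠ 0 := fun h0 => h (by
      have hd := (t⁻¹).2
      rw [Matrix.det_fin_two] at h0 hd
      have htr : (t⁻¹).1.trace = t.1.trace := by
        rw [inv_val, Matrix.trace_sub, Matrix.trace_smul, Matrix.trace_one, Fintype.card_fin, smul_eq_mul]
        push_cast; ring
      rw [Matrix.trace_fin_two] at htr
      simp at h0
      rw [← htr]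
      linear_combination h0 - hd)
    refine ⟨Matrix.GeneralLinearGroup.mkOfDetNeZero _ hdet, ?_, ?_⟩ <;> rw [PSL2.conjP_apply]
    · refine congrArg PSL2.pr (Subtype.ext ?_)
      rw [PSL2.conjSL_val, Units.mul_inv_eq_iff_eq_mul]
      show ((1 : M2) + (t⁻¹).1) * A.1 = A.1 * ((1 : M2) + (t⁻¹).1)
      rw [Matrix.add_mul, Matrix.mul_add, mem_tor.mp ((tor A).inv_mem htor), one_mul, mul_one]
    · refine congrArg PSL2.pr (Subtype.ext ?_)
      have hinv : j * t = t⁻¹ * j :=
        inverts (SL2Four.not_isSc_of_trace_zero h2 hA) (SL2Four.anti_inverts hA hj) htor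
      rw [PSL2.conjSL_val, Units.mul_inv_eq_iff_eq_mul, hjt]
      show ((1 : M2) + (t⁻¹).1) * j.1 = (j * t).1 * ((1 : M2) + (t⁻¹).1)
      rw [Matrix.add_mul, Matrix.mul_add, one_mul, mul_one, ← val_mul' t⁻¹ j, ← hinv, ← val_mul' (j * t) t⁻¹,
        mul_inv_cancel_right]
      exact add_comm _ _

/-- The standard pair. -/
theorem exists_std_pair (h2 : (2 : F) ≠ 0) : ∃ a b : F, a * a + b * b = -1 ∧ ∀ L : Subfield F, a ∈ L ∧ b ∈ L := by
  obtain ⟨p, hp⟩ := CharP.exists F
  haveI := hp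
  haveI : Fact p.Prime := ⟨CharP.char_is_prime F p⟩
  haveI : NeZero p := ⟨(Fact.out (p := p.Prime)).ne_zero⟩
  obtain ⟨x, y, hxy⟩ := ZMod.sq_add_sq p (-1)
  refine ⟨(x.val : F), (y.val : F), ?_, fun L => ⟨natCast_mem L _, natCast_mem L _⟩⟩
  have h := congrArg (ZMod.castHom dvd_rfl F) hxy
  rw [map_add, map_pow, map_pow, map_neg, map_one] at h
  rw [show ((x.val : ℕ) : F) = ZMod.castHom dvd_rfl F x by rw [← map_natCast (ZMod.castHom dvd_rfl F), ZMod.natCast_zmod_val],
    show ((y.val : ℕ) : F) = ZMod.castHom dvd_rfl F y by rw [← map_natCast (ZMod.castHom dvd_rfl F), ZMod.natCast_zmod_val]]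
  linear_combination h

/-- A subgroup with an anticommuting pair and all traces over `L` up to a factor is in the subfield subgroup. -/
theorem exists_conj_scaled (h2 : (2 : F) ≠ 0) {M : Subgroup P2} {A j : SL2} (hA : A.1.trace = 0)
    (hj : SL2Four.Anti A j) (L : Subfield F)
    (htr : ∀ w : SL2, PSL2.pr w ∈ M → ∃ c : F, ∀ x ∈ ({w, w * A, w * j, w * (A * j)} : Set SL2), ∃ l ∈ L, x.1.trace = c * l) :
    ∃ g : GL (Fin 2) F, M.map (PSL2.conjP g).toMonoidHom ≤ scaledP L := by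
  obtain ⟨a, b, hab, hL⟩ := exists_std_pair (F := F) h2
  obtain ⟨A0, hA0⟩ : ∃ A0 : SL2, A0.1 = !![0, 1; -1, 0] := ⟨⟨_, by simp [Matrix.det_fin_two]⟩, rfl⟩
  obtain ⟨j0, hj0⟩ : ∃ j0 : SL2, j0.1 = !![a, b; b, -a] :=
    ⟨⟨_, by simp [Matrix.det_fin_two]; linear_combination -hab⟩, rfl⟩
  have ht0 : A0.1.trace = 0 := by rw [hA0]; simp [Matrix.trace_fin_two]
  obtain ⟨P, hP⟩ := isConj_iff.mp (SL2Four.isConj_of_trace_zero h2 hA ht0)
  have hanti : SL2Four.Anti A0 (P * j * P⁻¹) := by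
    show A0.1 * (P * j * P⁻¹).1 = -((P * j * P⁻¹).1 * A0.1)
    rw [← hP, ← val_mul', ← val_mul',
      show P * A * P⁻¹ * (P * j * P⁻¹) = P * (A * j) * P⁻¹ by group,
      show P * j * P⁻¹ * (P * A * P⁻¹) = P * (j * A) * P⁻¹ by group]
    simp only [Matrix.SpecialLinearGroup.coe_mul, show A.1 * j.1 = -(j.1 * A.1) from hj, Matrix.mul_neg, Matrix.neg_mul]
  obtain ⟨g, hgA, hgj⟩ := pairs_conj h2 ht0 hanti (j' := j0) (by
    show A0.1 * j0.1 = -(j0.1 * A0.1)
    rw [hA0, hj0]; simp [Matrix.mul_fin_two])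
  obtain ⟨G, hG⟩ : ∃ G, G = g * Matrix.SpecialLinearGroup.toGL P := ⟨_, rfl⟩
  refine ⟨G, ?_⟩
  rintro _ ⟨z, hz, rfl⟩
  obtain ⟨w, rfl⟩ := PSL2.pr_surjective z
  obtain ⟨c, hc⟩ := htr w hz
  have hconj : ∀ x : SL2, PSL2.conjP G (PSL2.pr x) = PSL2.conjP g (PSL2.pr (P * x * P⁻¹)) := fun x => by
    rw [hG, map_mul, MulAut.mul_apply, PSL2.conjP_toGL, MulAut.conj_apply, map_mul PSL2.pr, map_mul PSL2.pr, map_inv (PSL2.pr (F := F))]
  have eA : PSL2.pr (PSL2.conjSL G A) = PSL2.pr A0 := by rw [← PSL2.conjP_apply, hconj, hP, hgA]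
  have ej : PSL2.pr (PSL2.conjSL G j) = PSL2.pr j0 := by rw [← PSL2.conjP_apply, hconj, hgj]
  obtain ⟨εA, hεA, eA⟩ := (PSL2.pr_eq_iff _ _).mp eA
  obtain ⟨εj, hεj, ej⟩ := (PSL2.pr_eq_iff _ _).mp ej
  obtain ⟨W, hW⟩ : ∃ W, W = PSL2.conjSL G w := ⟨_, rfl⟩
  show PSL2.conjP G (PSL2.pr w) ∈ _
  rw [PSL2.conjP_apply, ← hW]
  have hpres : ∀ x : SL2, (PSL2.conjSL G x).1.trace = x.1.trace := fun x => by
    rw [PSL2.conjSL_val, Matrix.trace_units_conj]
  have hε : ∀ ε : F, ε * ε = 1 → ε ∈ L := fun ε h => by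
    rcases mul_self_eq_one_iff.mp h with rfl | rfl
    · exact L.one_mem
    · exact L.neg_mem L.one_mem
  have hA' : A0.1 = εA • (PSL2.conjSL G A).1 := by
    rw [eA, smul_smul, hεA, one_smul]
  have hj' : j0.1 = εj • (PSL2.conjSL G j).1 := by
    rw [ej, smul_smul, hεj, one_smul]
  have k0 : ∃ l ∈ L, W.1.trace = c * l := by rw [hW, hpres]; exact hc w (Or.inl rfl)
  have k1 : ∃ l ∈ L, (W.1 * A0.1).trace = c * l := by
    obtain ⟨l, hl, e⟩ := hc (w * A) (Or.inr (Or.inl rfl))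
    refine ⟨εA * l, L.mul_mem (hε _ hεA) hl, ?_⟩
    rw [hA', Matrix.mul_smul, Matrix.trace_smul, hW, ← val_mul', ← map_mul, hpres, e, smul_eq_mul]; ring
  have k2 : ∃ l ∈ L, (W.1 * j0.1).trace = c * l := by
    obtain ⟨l, hl, e⟩ := hc (w * j) (Or.inr (Or.inr (Or.inl rfl)))
    refine ⟨εj * l, L.mul_mem (hε _ hεj) hl, ?_⟩
    rw [hj', Matrix.mul_smul, Matrix.trace_smul, hW, ← val_mul', ← map_mul, hpres, e, smul_eq_mul]; ring
  have k3 : ∃ l ∈ L, (W.1 * (A0.1 * j0.1)).trace = c * l := by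
    obtain ⟨l, hl, e⟩ := hc (w * (A * j)) (Or.inr (Or.inr (Or.inr rfl)))
    refine ⟨εA * εj * l, L.mul_mem (L.mul_mem (hε _ hεA) (hε _ hεj)) hl, ?_⟩
    rw [hA', hj']
    simp only [Matrix.smul_mul, Matrix.mul_smul, smul_smul, Matrix.trace_smul]
    rw [hW, ← val_mul',
      ← val_mul', ← map_mul, ← map_mul, hpres, e, smul_eq_mul]; ring
  obtain ⟨l0, hl0, e0⟩ := k0
  obtain ⟨l1, hl1, e1⟩ := k1
  obtain ⟨l2, hl2, e2⟩ := k2
  obtain ⟨l3, hl3, e3⟩ := k3
  simp [hA0, hj0, Matrix.trace_fin_two, Matrix.mul_apply, Fin.sum_univ_two] at e0 e1 e2 e3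
  have hh : (2 : F)⁻¹ ∈ L := L.inv_mem (ofNat_mem L 2)
  refine ⟨W, ⟨c, !![⟨2⁻¹ * (l0 - a * l2 - b * l3), ?_⟩, ⟨2⁻¹ * (-l1 - b * l2 + a * l3), ?_⟩;
    ⟨2⁻¹ * (l1 - b * l2 + a * l3), ?_⟩, ⟨2⁻¹ * (l0 + a * l2 + b * l3), ?_⟩], ?_⟩, rfl⟩
  · exact L.mul_mem hh (L.sub_mem (L.sub_mem hl0 (L.mul_mem (hL L).1 hl2)) (L.mul_mem (hL L).2 hl3))
  · exact L.mul_mem hh (L.add_mem (L.sub_mem (L.neg_mem hl1) (L.mul_mem (hL L).2 hl2)) (L.mul_mem (hL L).1 hl3))
  · exact L.mul_mem hh (L.add_mem (L.sub_mem hl1 (L.mul_mem (hL L).2 hl2)) (L.mul_mem (hL L).1 hl3))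
  · exact L.mul_mem hh (L.add_mem (L.add_mem hl0 (L.mul_mem (hL L).1 hl2)) (L.mul_mem (hL L).2 hl3))
  ext i k
  fin_cases i <;> fin_cases k <;> simp <;> field_simp
  · linear_combination e0 - a * e2 - b * e3 + (W.1 0 0 - W.1 1 1) * hab
  · linear_combination -e1 - b * e2 + a * e3 + (W.1 0 1 + W.1 1 0) * hab
  · linear_combination e1 - b * e2 + a * e3 + (W.1 0 1 + W.1 1 0) * hab
  · linear_combination e0 + a * e2 + b * e3 - (W.1 0 0 - W.1 1 1) * hab

end Cfsg.Agent.Classical.Dickson
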