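import Cfsg.Agent.Lib.Classical.Dickson.Overgroup

/-!
# Element orders in the subgroups of Dickson's list
-/

set_option autoImplicit false
set_option linter.unusedSectionVars false

namespace Cfsg.Agent.Classical.Dickson

/-- An element of `PGL₂` over `K` has order at most `#K + 1`. -/
theorem orderOf_pgl_le {K : Type*} [Field K] [Fintype K] (x : Matrix.ProjGenLinGroup (Fin 2) K) :
    orderOf x ≤ Fintype.card K + 1 := by
  classical
  haveI := finite_pgl K
  obtain ⟨g, rfl⟩ := Matrix.ProjGenLinGroup.mk_surjective x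
  have hchar : g.val * g.val = (g.val 0 0 + g.val 1 1) • g.val - g.val.det • (1 : Matrix (Fin 2) (Fin 2) K) := by
    ext i j
    fin_cases i <;> fin_cases j <;> simp [Matrix.det_fin_two, Matrix.mul_apply, Fin.sum_univ_two] <;> ring
  have hlin : ∀ i : ℕ, ∃ a b : K, (g ^ i).val = a • (1 : Matrix (Fin 2) (Fin 2) K) + b • g.val := by
    intro i
    induction i with
    | zero => exact ⟨1, 0, by simp⟩
    | succ i ih =>
      obtain ⟨a, b, h⟩ := ih
      refine ⟨-(b * g.val.det), a + b * (g.val 0 0 + g.val 1 1), ?_⟩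
      rw [pow_succ, Units.val_mul, h, add_mul, smul_mul_assoc, smul_mul_assoc, one_mul, hchar]
      module
  have hrep : ∀ y : Subgroup.zpowers (Matrix.ProjGenLinGroup.mk g), ∃ o : Option K,
      match o with
      | none => (y : Matrix.ProjGenLinGroup (Fin 2) K) = 1
      | some c => ∃ G : GL (Fin 2) K, Matrix.ProjGenLinGroup.mk G = y ∧
          G.val = c • (1 : Matrix (Fin 2) (Fin 2) K) + g.val := by
    intro y
    obtain ⟨i, hi⟩ := Submonoid.mem_powers_iff _ _ |>.mp (mem_powers_iff_mem_zpowers.mpr y.2)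
    obtain ⟨a, b, h⟩ := hlin i
    rw [← map_pow] at hi
    by_cases hb : b = 0
    · refine ⟨none, ?_⟩
      have ha : a ≠ 0 := fun ha => by
        rw [ha, hb, zero_smul, zero_smul, add_zero] at h
        exact Units.ne_zero _ h
      show (y : Matrix.ProjGenLinGroup (Fin 2) K) = 1
      rw [← hi, show g ^ i = Matrix.GeneralLinearGroup.scalar (Fin 2) (Units.mk0 a ha) from Units.ext (by
        rw [h, hb, zero_smul, add_zero]; ext i j; simp [Matrix.diagonal, Matrix.one_apply]), Matrix.ProjGenLinGroup.mk_scalar]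
    · refine ⟨some (a / b), g ^ i * Matrix.GeneralLinearGroup.scalar (Fin 2) (Units.mk0 b⁻¹ (inv_ne_zero hb)), ?_, ?_⟩
      · rw [map_mul, Matrix.ProjGenLinGroup.mk_scalar, mul_one, hi]
      · rw [Units.val_mul, h]
        ext i j
        simp [Matrix.diagonal, Matrix.one_apply, Matrix.mul_apply]
        field_simp
        split <;> ring_nf <;> field_simp
  choose o ho using hrep
  have hinj : Function.Injective o := fun y z hyz => by
    have hy := ho y
    have hz := ho z
    rw [← hyz] at hz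
    apply Subtype.ext
    generalize o y = w at hy hz
    rcases w with _ | c
    · exact (show _ = _ from hy).trans (show _ = _ from hz).symm
    · obtain ⟨G, hG, hG'⟩ := hy
      obtain ⟨G', hH, hH'⟩ := hz
      rw [← hG, ← hH, Units.ext (hG'.trans hH'.symm)]
  have h := Nat.card_le_card_of_injective o hinj
  rwa [Nat.card_zpowers, Nat.card_eq_fintype_card, Fintype.card_option] at h

/-- An element of `PSL₂` over `K` has order at most `#K + 1`. -/
theorem orderOf_psl_le {K : Type*} [Field K] [Fintype K] (x : Matrix.ProjectiveSpecialLinearGroup (Fin 2) K) :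
    orderOf x ≤ Fintype.card K + 1 := by
  rw [← orderOf_injective _ Matrix.ProjectiveSpecialLinearGroup.toPGL_injective x]
  exact orderOf_pgl_le _

theorem orderOf_subfield_le {F : Type*} [Field F] [Fintype F] {M : Type*} [Group M] (K : Subfield F)
    (h : Nonempty (M ≃* Matrix.ProjGenLinGroup (Fin 2) K) ∨
      Nonempty (M ≃* Matrix.ProjectiveSpecialLinearGroup (Fin 2) K)) (x : M) :
    orderOf x ≤ Nat.card K + 1 := by
  haveI : Fintype K := Fintype.ofFinite K
  rw [Nat.card_eq_fintype_card]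
  rcases h with ⟨⟨e⟩⟩ | ⟨⟨e⟩⟩ <;> rw [← orderOf_injective e.toMonoidHom e.injective x]
  · exact orderOf_pgl_le _
  · exact orderOf_psl_le _

theorem le_five_of_pow {X : Type*} [Monoid X] {x : X} (h : x ^ 2 = 1 ∨ x ^ 3 = 1 ∨ x ^ 4 = 1 ∨ x ^ 5 = 1) :
    orderOf x ≤ 5 := by
  rcases h with h | h | h | h <;> exact le_trans (orderOf_le_of_pow_eq_one (by norm_num) h) (by norm_num)

theorem pow_small_a5 : ∀ x : alternatingGroup (Fin 5), x ^ 2 = 1 ∨ x ^ 3 = 1 ∨ x ^ 4 = 1 ∨ x ^ 5 = 1 := by decide +kernel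

theorem pow_small_s4 : ∀ x : Equiv.Perm (Fin 4), x ^ 2 = 1 ∨ x ^ 3 = 1 ∨ x ^ 4 = 1 ∨ x ^ 5 = 1 := by decide +kernel

theorem pow_small_a4 : ∀ x : alternatingGroup (Fin 4), x ^ 2 = 1 ∨ x ^ 3 = 1 ∨ x ^ 4 = 1 ∨ x ^ 5 = 1 := by decide +kernel

theorem no_d3_in_a4 : ∀ a b : alternatingGroup (Fin 4), a ^ 3 = 1 → b * b = 1 → a * b * a = b → a = 1 ∨ b = 1 := by
  decide +kernel

/-- The polyhedral groups have no element of order beyond five. -/
theorem orderOf_polyhedral_le {M : Type*} [Group M]
    (h : Nonempty (M ≃* alternatingGroup (Fin 4)) ∨ Nonempty (M ≃* Equiv.Perm (Fin 4)) ∨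
      Nonempty (M ≃* alternatingGroup (Fin 5))) (x : M) : orderOf x ≤ 5 := by
  rcases h with ⟨⟨e⟩⟩ | ⟨⟨e⟩⟩ | ⟨⟨e⟩⟩ <;> rw [← orderOf_injective e.toMonoidHom e.injective x]
  · exact le_five_of_pow (pow_small_a4 _)
  · exact le_five_of_pow (pow_small_s4 _)
  · exact le_five_of_pow (pow_small_a5 _)

/-- A subgroup with a dihedral subgroup of order `2n` has an element of order `n`. -/
theorem exists_orderOf_of_dihedral {X : Type*} [Group X] {H M : Subgroup X} (hle : H ≤ M) {n : ℕ}
    (e : H ≃* DihedralGroup n) : ∃ x : M, orderOf x = n :=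
  ⟨(Subgroup.inclusion hle).comp e.symm.toMonoidHom (DihedralGroup.r 1), by
    rw [orderOf_injective ((Subgroup.inclusion hle).comp e.symm.toMonoidHom)
      ((Subgroup.inclusion_injective hle).comp e.symm.injective), DihedralGroup.orderOf_r_one]⟩

end Cfsg.Agent.Classical.Dickson
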