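import Cfsg.Agent.Lib.Classical.Dickson.SubfieldMax
import Cfsg.Agent.Lib.Classical.Dickson.Orders
import Cfsg.Agent.S0803
import Cfsg.Agent.S0804
import Cfsg.Agent.S0806

/-!
# Maximality in `PSL₂` of any subgroup of a given type
-/

set_option autoImplicit false

namespace Cfsg.Agent.Classical.Dickson

open Cfsg.Agent.Small

/-- Any dihedral subgroup of order `2(q+1)/d` is maximal. -/
theorem dihedral_plus_max {F : Type*} [Field F] [Fintype F] {q : ℕ} (hF : Fintype.card F = q)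
    (hq2 : q ≠ 2 ∧ q ≠ 7 ∧ q ≠ 9) (H : Subgroup (Matrix.ProjectiveSpecialLinearGroup (Fin 2) F))
    (e : H ≃* DihedralGroup ((q + 1) / Nat.gcd 2 (q - 1))) : IsCoatom H := by
  classical
  have h1 : 2 ≤ q := hF ▸ Fintype.one_lt_card
  have h3 : 3 ≤ q := by omega
  have hP := Cfsg.Agent.Classical.Dickson.card_P2 (F := F)
  rw [hF] at hP
  have hcH : Nat.card H = _ := (Nat.card_congr e.toEquiv).trans DihedralGroup.nat_card
  obtain ⟨d, hd⟩ : ∃ d, Nat.gcd 2 (q - 1) = d := ⟨_, rfl⟩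
  rw [hd] at hcH e hP
  have hdd : d ∣ q + 1 := by
    have h : d ∣ q - 1 := hd ▸ Nat.gcd_dvd_right _ _
    have h' : d ∣ 2 := hd ▸ Nat.gcd_dvd_left _ _
    have := dvd_add h h'
    rwa [show q - 1 + 2 = q + 1 by omega] at this
  have hd2 : d = 1 ∨ d = 2 := (Nat.dvd_prime Nat.prime_two).mp (hd ▸ Nat.gcd_dvd_left _ _)
  have hd0 : 0 < d := by omega
  have hHd : Nat.card H * d = 2 * (q + 1) := by rw [hcH, mul_assoc, Nat.div_mul_cancel hdd]
  have hco : (q + 1).Coprime q := by simp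
  refine ⟨fun h => ?_, fun M hM => ?_⟩
  · rw [h, Subgroup.card_top, hP, show q ^ 2 - 1 = (q + 1) * (q - 1) from Nat.sq_sub_sq q 1] at hHd
    have hb : 3 * ((q + 1) * 2) ≤ q * ((q + 1) * (q - 1)) :=
      Nat.mul_le_mul h3 (Nat.mul_le_mul_left _ (by omega))
    omega
  by_contra hne
  have hdvd := Subgroup.card_dvd_of_le hM.le
  have hdvd' : 2 * (q + 1) ∣ Nat.card M * d := hHd ▸ Nat.mul_dvd_mul_right hdvd d
  suffices hle : Nat.card M * d ≤ 2 * (q + 1) by
    exact hM.ne (Subgroup.eq_of_le_of_card_ge hM.le (Nat.le_of_mul_le_mul_right (hHd ▸ hle) hd0))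
  have hMP : Nat.card M * d ∣ q * (q ^ 2 - 1) := hP ▸ Nat.mul_dvd_mul_right (Subgroup.card_subgroup_dvd_card M) d
  have hMtop : Nat.card M * d ≠ q * (q ^ 2 - 1) := fun h => hne (Subgroup.eq_top_of_card_eq _ (by
    rw [← hP] at h; exact Nat.eq_of_mul_eq_mul_right hd0 h))
  have hsmall : (2 : F) ≠ 0 → (Nonempty (M ≃* alternatingGroup (Fin 4)) ∨ Nonempty (M ≃* Equiv.Perm (Fin 4)) ∨
      Nonempty (M ≃* alternatingGroup (Fin 5))) → q = 3 ∨ q = 5 := fun h2 hpoly => by
    have hodd : ¬ 2 ∣ Fintype.card F := Cfsg.Agent.Small.SL2C.not_two_dvd_iff.mpr h2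
    rw [hF] at hodd
    obtain rfl : d = 2 := by rw [← hd, ← hF]; exact Cfsg.Agent.Classical.Dickson.two_dvd_pred h2
    obtain ⟨x, hx⟩ := Cfsg.Agent.Classical.Dickson.exists_orderOf_of_dihedral hM.le e
    have := Cfsg.Agent.Classical.Dickson.orderOf_polyhedral_le hpoly x
    omega
  rcases Cfsg.Agent.Classical.Dickson.cases_on M with
    ⟨k, hk, hc⟩ | ⟨g, hg, -⟩ | ⟨h2, ⟨f⟩⟩ | ⟨h2, ⟨f⟩⟩ | ⟨h2, ⟨f⟩⟩ | ⟨K, m, hm, hKm, hK⟩
  · rcases Cfsg.Agent.Classical.Dickson.card_dvd_torus hk hc with h | h <;> rw [hF, hd] at h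
    · exfalso
      have hdd' : d ∣ q - 1 := hd ▸ Nat.gcd_dvd_right _ _
      have := hdvd'.trans (Nat.mul_dvd_mul_right h d)
      rw [mul_assoc, Nat.div_mul_cancel hdd'] at this
      have := Nat.le_of_dvd (by omega) this
      omega
    · have h' := Nat.mul_dvd_mul_right h d
      rw [mul_assoc, Nat.div_mul_cancel hdd] at h'
      exact Nat.le_of_dvd (by omega) h'
  · exfalso
    have h := Cfsg.Agent.Classical.Dickson.card_dvd_borel hg
    rw [hF, hd] at h
    have h' := hco.dvd_of_dvd_mul_right ((dvd_mul_left _ _).trans (hdvd'.trans h))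
    have := Nat.le_of_dvd (by omega) h'
    omega
  case' inr.inr.inl => 
    have hs := hsmall h2 (Or.inl ⟨f⟩)
    rw [Nat.card_congr f.toEquiv, nat_card_alternatingGroup, Nat.card_fin] at hMP hMtop
    exfalso
    rcases hs with rfl | rfl
    · norm_num [Nat.factorial, hd.symm] at hMP hMtop
    · subst hd
      obtain ⟨φ, hφ⟩ : ∃ φ : DihedralGroup ((5 + 1) / Nat.gcd 2 (5 - 1)) →* alternatingGroup (Fin 4), Function.Injective φ :=
        ⟨f.toMonoidHom.comp ((Subgroup.inclusion hM.le).comp e.symm.toMonoidHom),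
          f.injective.comp ((Subgroup.inclusion_injective hM.le).comp e.symm.injective)⟩
      rcases Cfsg.Agent.Classical.Dickson.no_d3_in_a4 (φ (DihedralGroup.r 1)) (φ (DihedralGroup.sr 0))
        (by rw [← map_pow, show (DihedralGroup.r 1 : DihedralGroup ((5 + 1) / Nat.gcd 2 (5 - 1))) ^ 3 = 1 from by decide, map_one])
        (by rw [← map_mul, show (DihedralGroup.sr 0 : DihedralGroup ((5 + 1) / Nat.gcd 2 (5 - 1))) * DihedralGroup.sr 0 = 1 from by decide, map_one])
        (by rw [← map_mul, ← map_mul]; exact congrArg φ (by decide)) with h | h <;>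
        exact absurd ((map_eq_one_iff φ hφ).mp h) (by decide)
  case' inr.inr.inr.inl => 
    have hs := hsmall h2 (Or.inr (Or.inl ⟨f⟩))
    rw [Nat.card_congr f.toEquiv, Nat.card_perm, Nat.card_fin] at hMP hMtop
    exfalso
    rcases hs with rfl | rfl <;> norm_num [Nat.factorial, hd.symm] at hMP
  case' inr.inr.inr.inr.inl => 
    have hs := hsmall h2 (Or.inr (Or.inr ⟨f⟩))
    rw [Nat.card_congr f.toEquiv, nat_card_alternatingGroup, Nat.card_fin] at hMP hMtop
    exfalso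
    rcases hs with rfl | rfl <;> (revert hMP hMtop; norm_num [Nat.factorial, hd.symm])
  exfalso
  have hm2 := Cfsg.Agent.Classical.Dickson.two_le_degree hne hm hKm (hK.imp (fun h => h.2) fun h => ⟨h.2.2, h.1⟩)
  rw [hF] at hKm
  have hQ : 2 ≤ Nat.card K := Finite.one_lt_card
  have hdvd2 : 2 * (q + 1) ∣ 2 * (Nat.card K * (Nat.card K ^ 2 - 1)) := by
    rcases hK with ⟨-, h⟩ | ⟨h2, -, h⟩
    · rw [← h]
      refine hdvd'.trans ?_
      rcases hd2 with rfl | rfl
      · rw [mul_one]; exact dvd_mul_left _ _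
      · rw [mul_comm]
    · have hd' : d = 2 := by rw [← hd, ← hF]; exact Cfsg.Agent.Classical.Dickson.two_dvd_pred h2
      subst hd'
      rw [← h]
      refine hdvd'.trans ?_
      rw [mul_comm (Nat.card M)]
      exact dvd_mul_left _ _
  have h' : q + 1 ∣ Nat.card K * (Nat.card K ^ 2 - 1) := Nat.dvd_of_mul_dvd_mul_left two_pos hdvd2
  have hQq : Nat.card K ∣ q := hKm ▸ dvd_pow_self _ (by omega)
  have h'' : q + 1 ∣ Nat.card K ^ 2 - 1 := (Nat.Coprime.coprime_dvd_right hQq hco).dvd_of_dvd_mul_left h'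
  have hge : Nat.card K ^ 2 ≤ q := hKm ▸ Nat.pow_le_pow_right (by omega) hm2
  have := Nat.le_of_dvd (by
    have := Nat.pow_le_pow_left hQ 2
    omega) h''
  omega

/-- Any dihedral subgroup of order `2(q-1)/d` is maximal. -/
theorem dihedral_minus_max {F : Type*} [Field F] [Fintype F] {q : ℕ} (hF : Fintype.card F = q)
    (hq2 : q ≠ 2 ∧ q ≠ 3 ∧ q ≠ 5 ∧ q ≠ 7 ∧ q ≠ 9 ∧ q ≠ 11)
    (H : Subgroup (Matrix.ProjectiveSpecialLinearGroup (Fin 2) F))
    (e : H ≃* DihedralGroup ((q - 1) / Nat.gcd 2 (q - 1))) : IsCoatom H := by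
  classical
  have h1 : 2 ≤ q := hF ▸ Fintype.one_lt_card
  have h4 : 4 ≤ q := by omega
  have hP := Cfsg.Agent.Classical.Dickson.card_P2 (F := F)
  rw [hF] at hP
  have hcH : Nat.card H = _ := (Nat.card_congr e.toEquiv).trans DihedralGroup.nat_card
  obtain ⟨d, hd⟩ : ∃ d, Nat.gcd 2 (q - 1) = d := ⟨_, rfl⟩
  rw [hd] at hcH e hP
  have hdd : d ∣ q - 1 := hd ▸ Nat.gcd_dvd_right _ _
  have hd2 : d = 1 ∨ d = 2 := (Nat.dvd_prime Nat.prime_two).mp (hd ▸ Nat.gcd_dvd_left _ _)
  have hd0 : 0 < d := by omega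
  have hdp : d ∣ q + 1 := by
    have := dvd_add hdd (hd ▸ Nat.gcd_dvd_left _ _ : d ∣ 2)
    rwa [show q - 1 + 2 = q + 1 by omega] at this
  have hHd : Nat.card H * d = 2 * (q - 1) := by rw [hcH, mul_assoc, Nat.div_mul_cancel hdd]
  have hco : (q - 1).Coprime q := by
    have := (Nat.coprime_one_right (q - 1))
    rwa [← Nat.coprime_add_self_right, show 1 + (q - 1) = q by omega] at this
  refine ⟨fun h => ?_, fun M hM => ?_⟩
  · rw [h, Subgroup.card_top, hP, show q ^ 2 - 1 = (q + 1) * (q - 1) from Nat.sq_sub_sq q 1] at hHd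
    have hb : 4 * (5 * (q - 1)) ≤ q * ((q + 1) * (q - 1)) :=
      Nat.mul_le_mul h4 (Nat.mul_le_mul_right _ (by omega))
    omega
  by_contra hne
  have hdvd := Subgroup.card_dvd_of_le hM.le
  have hdvd' : 2 * (q - 1) ∣ Nat.card M * d := hHd ▸ Nat.mul_dvd_mul_right hdvd d
  suffices hle : Nat.card M * d ≤ 2 * (q - 1) by
    exact hM.ne (Subgroup.eq_of_le_of_card_ge hM.le (Nat.le_of_mul_le_mul_right (hHd ▸ hle) hd0))
  obtain ⟨x, hx⟩ := Cfsg.Agent.Classical.Dickson.exists_orderOf_of_dihedral hM.le e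
  have hsmall : (2 : F) ≠ 0 → (Nonempty (M ≃* alternatingGroup (Fin 4)) ∨ Nonempty (M ≃* Equiv.Perm (Fin 4)) ∨
      Nonempty (M ≃* alternatingGroup (Fin 5))) → False := fun h2 hpoly => by
    have hodd : ¬ 2 ∣ Fintype.card F := Cfsg.Agent.Small.SL2C.not_two_dvd_iff.mpr h2
    rw [hF] at hodd
    have := Cfsg.Agent.Classical.Dickson.orderOf_polyhedral_le hpoly x
    rw [hx] at this
    rcases hd2 with rfl | rfl
    · rw [Nat.div_one] at this; omega
    · omega
  rcases Cfsg.Agent.Classical.Dickson.cases_on M with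
    ⟨k, hk, hc⟩ | ⟨g, hg, -⟩ | ⟨h2, h⟩ | ⟨h2, h⟩ | ⟨h2, h⟩ | ⟨K, m, hm, hKm, hK⟩
  · rcases Cfsg.Agent.Classical.Dickson.card_dvd_torus hk hc with h | h <;> rw [hF, hd] at h
    · have h' := Nat.mul_dvd_mul_right h d
      rw [mul_assoc, Nat.div_mul_cancel hdd] at h'
      exact Nat.le_of_dvd (by omega) h'
    · exfalso
      have := hdvd'.trans (Nat.mul_dvd_mul_right h d)
      rw [mul_assoc, Nat.div_mul_cancel hdp] at this
      have h2' := Nat.dvd_sub (Nat.dvd_of_mul_dvd_mul_left two_pos this) (dvd_refl (q - 1))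
      have := Nat.le_of_dvd (by omega) h2'
      omega
  · exfalso
    have h := Cfsg.Agent.Classical.Dickson.card_dvd_borel hg
    rw [hF, hd] at h
    have h' : 2 ∣ q := Nat.dvd_of_mul_dvd_mul_right (by omega : 0 < q - 1) ((hdvd'.trans h).trans (dvd_of_eq (mul_comm _ _)))
    have h20 : (2 : F) = 0 := Cfsg.Agent.Small.SL2C.two_dvd_iff.mp (hF ▸ h')
    obtain rfl : d = 1 := by rw [← hd, ← hF]; exact Cfsg.Agent.Classical.Dickson.gcd_eq_one_of_even h20
    have key : ∀ a b : DihedralGroup ((q - 1) / 1), a * a = 1 → b * b = 1 → a * b = b * a := fun a b ha hb => by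
      obtain ⟨φ, hφ⟩ : ∃ φ : DihedralGroup ((q - 1) / 1) →* M, Function.Injective φ :=
        ⟨(Subgroup.inclusion hM.le).comp e.symm.toMonoidHom, (Subgroup.inclusion_injective hM.le).comp e.symm.injective⟩
      have hm : ∀ z : M, (PSL2.conjP g) z.1 ∈ Cfsg.Agent.Classical.Dickson.borelP F := fun z => hg ⟨z.1, z.2, rfl⟩
      have h3 : ∀ z : M, z * z = 1 → (PSL2.conjP g) z.1 * (PSL2.conjP g) z.1 = 1 := fun z hz => by
        rw [← map_mul, ← Subgroup.coe_mul, hz, Subgroup.coe_one, map_one]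
      have h5 := Cfsg.Agent.Classical.Dickson.borel_involutions h20 (hm (φ a)) (hm (φ b))
        (h3 _ (by rw [← map_mul, ha, map_one])) (h3 _ (by rw [← map_mul, hb, map_one]))
      rw [← map_mul, ← map_mul] at h5
      apply hφ
      rw [map_mul, map_mul]
      exact Subtype.ext ((PSL2.conjP g).injective h5)
    have h6 := key (DihedralGroup.sr 0) (DihedralGroup.sr 1) (DihedralGroup.sr_mul_self 0) (DihedralGroup.sr_mul_self 1)
    rw [DihedralGroup.sr_mul_sr, DihedralGroup.sr_mul_sr, DihedralGroup.r.injEq] at h6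
    have h7 : ((2 : ℕ) : ZMod ((q - 1) / 1)) = 0 := by push_cast; linear_combination h6
    rw [ZMod.natCast_eq_zero_iff, Nat.div_one] at h7
    have := Nat.le_of_dvd two_pos h7
    omega
  · exact (hsmall h2 (Or.inl h)).elim
  · exact (hsmall h2 (Or.inr (Or.inl h))).elim
  · exact (hsmall h2 (Or.inr (Or.inr h))).elim
  have hm2 := Cfsg.Agent.Classical.Dickson.two_le_degree hne hm hKm (hK.imp (fun h => h.2) fun h => ⟨h.2.2, h.1⟩)
  rw [hF] at hKm
  have hQ : 2 ≤ Nat.card K := Finite.one_lt_card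
  have hdvd2 : 2 * (q - 1) ∣ 2 * (Nat.card K * (Nat.card K ^ 2 - 1)) := by
    rcases hK with ⟨-, h⟩ | ⟨h2, -, h⟩
    · rw [← h]
      refine hdvd'.trans ?_
      rcases hd2 with rfl | rfl
      · rw [mul_one]; exact dvd_mul_left _ _
      · rw [mul_comm]
    · have hd' : d = 2 := by rw [← hd, ← hF]; exact Cfsg.Agent.Classical.Dickson.two_dvd_pred h2
      subst hd'
      rw [← h]
      refine hdvd'.trans ?_
      rw [mul_comm (Nat.card M)]
      exact dvd_mul_left _ _
  have h' : q - 1 ∣ Nat.card K * (Nat.card K ^ 2 - 1) := Nat.dvd_of_mul_dvd_mul_left two_pos hdvd2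
  have hQq : Nat.card K ∣ q := hKm ▸ dvd_pow_self _ (by omega)
  have h'' : q - 1 ∣ Nat.card K ^ 2 - 1 := (Nat.Coprime.coprime_dvd_right hQq hco).dvd_of_dvd_mul_left h'
  have hge : Nat.card K ^ 2 ≤ q := hKm ▸ Nat.pow_le_pow_right (by omega) hm2
  have h4Q : 4 ≤ Nat.card K ^ 2 := Nat.pow_le_pow_left hQ 2
  have hqQ : q = Nat.card K ^ 2 := by
    have := Nat.le_of_dvd (by omega) h''
    omega
  have hord := Cfsg.Agent.Classical.Dickson.orderOf_subfield_le K (hK.imp (fun h => h.1) fun h => h.2.1) x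
  rw [hx] at hord
  have hQ2 : Nat.card K = 2 := by
    by_contra hQ2
    have hQ3 : Nat.card K ≠ 3 := fun h => by rw [h] at hqQ; omega
    have h9 : (Nat.card K + 1) * 2 < q - 1 := by
      have : 4 * Nat.card K ≤ Nat.card K ^ 2 := by rw [pow_two]; exact Nat.mul_le_mul_right _ (by omega)
      omega
    rcases hd2 with rfl | rfl
    · rw [Nat.div_one] at hord; omega
    · omega
  rw [hQ2] at hqQ hK
  subst hqQ
  obtain rfl : d = 1 := by rw [← hd]; rfl
  rcases hK with ⟨-, h⟩ | ⟨-, -, h⟩ <;> omega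

/-- Any subgroup of the order of `PSL₂` of a subfield of odd prime degree is maximal. -/
theorem subfield_card_max {F : Type*} [Field F] [Fintype F] (h2 : (2 : F) ≠ 0) {q r : ℕ} (hF : Fintype.card F = q ^ r)
    (hq : Odd q) (hpp : IsPrimePow q) (hr : r.Prime) (hr0 : Odd r)
    (H : Subgroup (Matrix.ProjectiveSpecialLinearGroup (Fin 2) F)) (hcH : Nat.card H * 2 = q * (q ^ 2 - 1)) :
    IsCoatom H := by
  classical
  have hr3 : 3 ≤ r := by
    have := hr.two_le
    have := Nat.odd_iff.mp hr0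
    omega
  have hq3 : 3 ≤ q := by
    have := hpp.one_lt
    have := Nat.odd_iff.mp hq
    omega
  have hq1 : 2 ≤ q := by omega
  have hP := Cfsg.Agent.Classical.Dickson.card_P2 (F := F)
  have hd := Cfsg.Agent.Classical.Dickson.two_dvd_pred h2
  rw [hd, hF] at hP
  have hqr : q < q ^ r := by
    calc q = q ^ 1 := (pow_one q).symm
      _ < q ^ r := Nat.pow_lt_pow_right (by omega) (by omega)
  refine ⟨fun h => ?_, fun M hM => ?_⟩
  · rw [h, Subgroup.card_top, hP] at hcH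
    have h9 : q ^ 2 - 1 < (q ^ r) ^ 2 - 1 := by
      have := Nat.pow_lt_pow_left hqr (two_ne_zero)
      have : 1 ≤ q ^ 2 := Nat.one_le_pow _ _ (by omega)
      omega
    have := Nat.mul_lt_mul_of_le_of_lt hqr.le h9 (by omega)
    omega
  by_contra hne
  have hdvd := Subgroup.card_dvd_of_le hM.le
  have hdvd2 : q * (q ^ 2 - 1) ∣ Nat.card M * 2 := hcH ▸ Nat.mul_dvd_mul_right hdvd 2
  suffices hle : Nat.card M * 2 ≤ q * (q ^ 2 - 1) by
    exact hM.ne (Subgroup.eq_of_le_of_card_ge hM.le (by omega))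
  rcases Cfsg.Agent.Classical.Dickson.cases_on M with
    ⟨k, hk, hc⟩ | ⟨g, hg, -⟩ | ⟨-, ⟨f⟩⟩ | ⟨-, hS⟩ | ⟨-, hA⟩ | ⟨K', m, hm, hKm, hK'⟩
  · exfalso
    obtain ⟨p, hp, hpq⟩ := Nat.exists_prime_and_dvd (show q ≠ 1 by omega)
    have hp2 : p ≠ 2 := fun h => hq.not_two_dvd_nat (h ▸ hpq)
    have hpM : p ∣ Nat.card M := ((Nat.coprime_primes hp Nat.prime_two).mpr hp2).dvd_of_dvd_mul_right
      ((hpq.trans (dvd_mul_right _ _)).trans hdvd2)
    have hpF : p ∣ q ^ r := hpq.trans (dvd_pow_self q (by omega))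
    have hev : 2 ∣ q ^ r - 1 ∧ 2 ∣ q ^ r + 1 := by
      have := Nat.odd_iff.mp (hq.pow (n := r))
      omega
    rcases Cfsg.Agent.Classical.Dickson.card_dvd_torus hk hc with h | h <;> rw [hd, hF] at h
    · have h' := hpM.trans h
      rw [Nat.mul_div_cancel' hev.1] at h'
      have := Nat.dvd_sub hpF h'
      rw [Nat.sub_sub_self (by omega)] at this
      exact hp.one_lt.ne' (Nat.dvd_one.mp this)
    · have h' := hpM.trans h
      rw [Nat.mul_div_cancel' hev.2] at h'
      have := Nat.dvd_sub h' hpF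
      rw [Nat.add_sub_cancel_left] at this
      exact hp.one_lt.ne' (Nat.dvd_one.mp this)
  · exfalso
    have h := Cfsg.Agent.Classical.Dickson.card_dvd_borel hg
    rw [hd, hF] at h
    have h1 : q + 1 ∣ (q ^ r - 1) * q ^ r := by
      refine Dvd.dvd.trans ?_ (hdvd2.trans h)
      exact Dvd.dvd.mul_left ⟨q - 1, by rw [← Nat.sq_sub_sq, one_pow]⟩ q
    have h2' : q + 1 ∣ q ^ r - 1 := (Nat.Coprime.pow_right r (by
      simp)).dvd_of_dvd_mul_right h1
    have h3 : q + 1 ∣ q ^ r + 1 := by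
      have := hr0.nat_add_dvd_pow_add_pow q 1
      rwa [one_pow] at this
    have := Nat.le_of_dvd (by omega) (Nat.dvd_sub h3 h2')
    omega
  · have hb : 24 ≤ q * (q ^ 2 - 1) := le_trans (by norm_num) (Nat.mul_le_mul hq3 (show 8 ≤ q ^ 2 - 1 from Nat.le_sub_of_add_le (by nlinarith)))
    rw [Nat.card_congr f.toEquiv, nat_card_alternatingGroup, Nat.card_fin]
    norm_num [Nat.factorial]
    omega
  · obtain ⟨f⟩ := hS
    by_cases hq5 : 5 ≤ q
    · have hb : 120 ≤ q * (q ^ 2 - 1) := le_trans (by norm_num) (Nat.mul_le_mul hq5 (show 24 ≤ q ^ 2 - 1 from Nat.le_sub_of_add_le (by nlinarith)))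
      rw [Nat.card_congr f.toEquiv, Nat.card_perm, Nat.card_fin]
      norm_num [Nat.factorial]
      omega
    · exfalso
      obtain rfl : q = 3 := by have := Nat.odd_iff.mp hq; omega
      have h16 := (Cfsg.Agent.S0803.result (F := F) hF).mp ⟨M, ⟨f⟩⟩
      obtain ⟨j, rfl⟩ := hr0
      rw [← pow_mul, Nat.mul_comm, pow_mul, pow_succ, pow_mul, Nat.mul_mod, Nat.pow_mod] at h16
      norm_num at h16
  · obtain ⟨f⟩ := hA
    by_cases hq5 : 5 ≤ q
    · have hb : 120 ≤ q * (q ^ 2 - 1) := le_trans (by norm_num) (Nat.mul_le_mul hq5 (show 24 ≤ q ^ 2 - 1 from Nat.le_sub_of_add_le (by nlinarith)))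
      rw [Nat.card_congr f.toEquiv, nat_card_alternatingGroup, Nat.card_fin]
      norm_num [Nat.factorial]
      omega
    · exfalso
      obtain rfl : q = 3 := by have := Nat.odd_iff.mp hq; omega
      have h5 := (Cfsg.Agent.S0804.result (F := F) hF).mp ⟨M, ⟨f⟩⟩
      rcases (Nat.Prime.dvd_mul (by norm_num)).mp h5 with h' | h'
      · exact absurd ((Nat.prime_dvd_prime_iff_eq (by norm_num) Nat.prime_three).mp
          ((Nat.Prime.dvd_of_dvd_pow (by norm_num) h'))) (by norm_num)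
      · obtain ⟨j, rfl⟩ := hr0
        have h1 : (3 ^ (2 * j + 1)) ^ 2 % 5 = 4 := by
          rw [← pow_mul, Nat.mul_comm, pow_mul, pow_succ, pow_mul, Nat.mul_mod, Nat.pow_mod]
          norm_num
        omega
  · have hm2 := Cfsg.Agent.Classical.Dickson.two_le_degree hne hm hKm
      (hK'.imp (fun h => h.2) fun h => ⟨h.2.2, h2⟩)
    rw [hF] at hKm
    have hM2 : Nat.card M * 2 ∣ 2 * (Nat.card K' * (Nat.card K' ^ 2 - 1)) := by
      rcases hK' with ⟨-, h⟩ | ⟨-, -, h⟩
      · rw [h, mul_comm]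
      · rw [mul_comm (Nat.card M), h]; exact dvd_mul_left _ _
    obtain ⟨hQ, hmr⟩ := Cfsg.Agent.Classical.Dickson.subfield_eq hr hq3 hpp
      hm2 hKm (hdvd2.trans hM2)
    rcases hK' with ⟨-, h⟩ | ⟨-, -, h⟩
    · exfalso
      rw [hQ] at h
      have h1 := Nat.mul_dvd_mul_right (Subgroup.card_subgroup_dvd_card M) 2
      rw [h, hP] at h1
      exact Cfsg.Agent.Classical.Dickson.pgl_not_dvd hq hq1 hr0 h1
    · rw [hQ] at h; omega

/-- A subgroup of the order of the Borel group is maximal. -/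
theorem borel_card_max {F : Type*} [Field F] [Fintype F] (h2 : (2 : F) ≠ 0) (h4 : 4 ≤ Fintype.card F)
    (h7 : Fintype.card F ≠ 7) (h9 : Fintype.card F ≠ 9) (h11 : Fintype.card F ≠ 11)
    (H : Subgroup (Matrix.ProjectiveSpecialLinearGroup (Fin 2) F))
    (hcH : 2 * Nat.card H = Fintype.card F * (Fintype.card F - 1)) : IsCoatom H := by
  classical
  have hP := card_P2 (F := F)
  rw [two_dvd_pred h2] at hP
  have hodd := Cfsg.Agent.Small.SL2C.not_two_dvd_iff.mpr h2
  obtain ⟨q, hF⟩ : ∃ q, Fintype.card F = q := ⟨_, rfl⟩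
  rw [hF] at hP hcH h4 h7 h9 h11 hodd
  have hsq : q ^ 2 - 1 = (q + 1) * (q - 1) := by rw [← Nat.sq_sub_sq, one_pow]
  rw [hsq] at hP
  have hidx : H.index = q + 1 := by
    refine Nat.eq_of_mul_eq_mul_left (Nat.mul_pos two_pos (Nat.card_pos (α := H))) ?_
    rw [mul_assoc, H.card_mul_index, mul_comm, hP, hcH]
    ring
  refine ⟨fun h => ?_, fun R hR => ?_⟩
  · rw [h, Subgroup.index_top] at hidx; omega
  by_contra hne
  have hlt : R.index < q + 1 := hidx ▸ Subgroup.index_strictAnti hR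
  by_cases hq5 : q = 5
  · subst hq5
    haveI : IsSimpleGroup (Matrix.ProjectiveSpecialLinearGroup (Fin 2) F) :=
      Matrix.ProjectiveSpecialLinearGroup.rank_two_simple (by rw [Nat.card_eq_fintype_card, hF]; norm_num)
    have hd : R.index ∣ 6 := (Subgroup.index_dvd_of_le hR.le).trans (dvd_of_eq hidx)
    have h3 : R.index ≤ 3 := by
      obtain ⟨k, hk⟩ := hd
      rcases k with _ | _ | k
      · omega
      · omega
      · nlinarith
    have hker : (MulAction.toPermHom (Matrix.ProjectiveSpecialLinearGroup (Fin 2) F)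
        (Matrix.ProjectiveSpecialLinearGroup (Fin 2) F ⧸ R)).ker = ⊥ := by
      rw [← Subgroup.normalCore_eq_ker]
      exact (R.normalCore_normal.eq_bot_or_eq_top).resolve_right fun h => hne (top_le_iff.mp (h ▸ R.normalCore_le))
    have hle := Nat.card_le_card_of_injective _ ((MonoidHom.ker_eq_bot_iff _).mp hker)
    rw [Nat.card_perm] at hle
    change _ ≤ R.index.factorial at hle
    have := Nat.factorial_le h3
    rw [show Nat.factorial 3 = 6 from rfl] at this
    omega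
  · have := (Cfsg.Agent.S0806.result hF (by simp; omega)).1 R hne
    omega

/-- An `A₄` is maximal under the congruence conditions. -/
theorem a4_max {F : Type*} [Field F] [Fintype F] (hp : (Fintype.card F).Prime)
    (h8 : Fintype.card F % 8 = 3 ∨ Fintype.card F % 8 = 5) (h4 : 4 ≤ Fintype.card F)
    (h40 : Fintype.card F % 40 ∉ ({11, 19, 21, 29} : Finset ℕ))
    (H : Subgroup (Matrix.ProjectiveSpecialLinearGroup (Fin 2) F)) (e : H ≃* alternatingGroup (Fin 4)) : IsCoatom H := by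
  classical
  obtain ⟨q, hF⟩ : ∃ q, Fintype.card F = q := ⟨_, rfl⟩
  rw [hF] at hp h8 h4 h40
  haveI : Fact q.Prime := ⟨hp⟩
  have h2 : (2 : F) ≠ 0 := Cfsg.Agent.Small.SL2C.not_two_dvd_iff.mp (by omega)
  have hP := card_P2 (F := F)
  rw [two_dvd_pred h2, hF] at hP
  have hcH : Nat.card H = 12 := by
    rw [Nat.card_congr e.toEquiv, nat_card_alternatingGroup, Nat.card_fin]; rfl
  have h24 : 5 * 24 ≤ q * (q ^ 2 - 1) :=
    Nat.mul_le_mul (by omega) (Nat.le_sub_of_add_le (Nat.pow_le_pow_left (show 5 ≤ q by omega) 2))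
  refine ⟨fun h => ?_, fun R hR => ?_⟩
  · rw [h, Subgroup.card_top] at hcH; omega
  by_contra hne
  rcases rich_overgroup h2 hR.le (rich_a4.map e.symm.toMonoidHom e.symm.injective) with
    ⟨⟨f⟩⟩ | ⟨⟨f⟩⟩ | ⟨⟨f⟩⟩ | ⟨K, m, hm, hKm, hK⟩
  · refine hR.ne (Subgroup.eq_of_le_of_card_ge hR.le ?_)
    rw [hcH, Nat.card_congr f.toEquiv, nat_card_alternatingGroup, Nat.card_fin]; rfl
  · have h16 := (Cfsg.Agent.S0803.result (F := F) hF).mp ⟨R, ⟨f⟩⟩
    rw [Nat.pow_mod] at h16
    have h16' : q % 16 < 16 := Nat.mod_lt _ (by norm_num)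
    have : q % 16 % 8 = q % 8 := by omega
    interval_cases hh : q % 16 <;> omega
  · have h5 := (Cfsg.Agent.S0804.result (F := F) hF).mp ⟨R, ⟨f⟩⟩
    by_cases hq5 : q = 5
    · subst hq5
      refine hne (Subgroup.eq_top_of_card_eq _ ?_)
      rw [Nat.card_congr f.toEquiv, nat_card_alternatingGroup, Nat.card_fin, show Nat.factorial 5 / 2 = 60 from rfl]
      omega
    rcases (Nat.Prime.dvd_mul (by norm_num)).mp h5 with h' | h'
    · exact hq5 ((Nat.prime_dvd_prime_iff_eq (by norm_num) hp).mp h').symm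
    · have h1 : q ^ 2 % 5 = 1 := by
        have : 1 ≤ q ^ 2 := Nat.one_le_pow _ _ hp.pos
        omega
      rw [Nat.pow_mod] at h1
      simp only [Finset.mem_insert, Finset.mem_singleton, not_or] at h40
      have h5' : q % 5 < 5 := Nat.mod_lt _ (by norm_num)
      interval_cases hh : q % 5 <;> omega
  · have := two_le_degree hne hm hKm (hK.imp id fun h => ⟨h, h2⟩)
    have := degree_one_of_prime hp (hKm.trans hF)
    omega

end Cfsg.Agent.Classical.Dickson
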