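import Cfsg.Agent.Lib.Classical.Dickson.TorusMax

/-!
# The list of maximal subgroups of `PSL₂`
-/

set_option autoImplicit false
set_option linter.unusedSectionVars false

namespace Cfsg.Agent.Classical.Dickson

open Cfsg.Agent.Small Cfsg.Agent.Small.SL2C

variable {F : Type*} [Field F] [Fintype F]

local notation "SL2" => Matrix.SpecialLinearGroup (Fin 2) F
local notation "P2" => Matrix.ProjectiveSpecialLinearGroup (Fin 2) F

theorem borelP_ne_top : borelP F ≠ ⊤ := fun h => by
  have hB := card_borelP (F := F)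
  rw [h, Subgroup.card_top, card_P2] at hB
  have h1 := Fintype.one_lt_card (α := F)
  rw [mul_comm (Fintype.card F - 1), show Fintype.card F ^ 2 - 1 = (Fintype.card F + 1) * (Fintype.card F - 1) from Nat.sq_sub_sq _ 1] at hB
  have := Nat.eq_of_mul_eq_mul_left (by omega) hB
  have : (Fintype.card F + 1) * (Fintype.card F - 1) ≥ 2 * (Fintype.card F - 1) := Nat.mul_le_mul_right _ (by omega)
  omega

/-- The maximal subgroups by type. -/
theorem coatom_cases {M : Subgroup P2} (hM : IsCoatom M) (h4 : 4 ≤ Fintype.card F) :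
    (∃ k, (k = (Fintype.card F - 1) / Nat.gcd 2 (Fintype.card F - 1) ∨
        k = (Fintype.card F + 1) / Nat.gcd 2 (Fintype.card F - 1)) ∧
      Nat.card M = 2 * k ∧ Nonempty (M ≃* DihedralGroup k)) ∨
    Nat.card M * Nat.gcd 2 (Fintype.card F - 1) = (Fintype.card F - 1) * Fintype.card F ∨
    ((2 : F) ≠ 0 ∧ Nonempty (M ≃* alternatingGroup (Fin 4))) ∨
    ((2 : F) ≠ 0 ∧ Nonempty (M ≃* Equiv.Perm (Fin 4))) ∨
    ((2 : F) ≠ 0 ∧ Nonempty (M ≃* alternatingGroup (Fin 5))) ∨
    (∃ (g : GL (Fin 2) F) (L : Subfield F), L ≠ ⊤ ∧ M.map (PSL2.conjP g).toMonoidHom ≤ scaledP L) := by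
  classical
  obtain ⟨G, hG⟩ : ∃ G, G = M.comap PSL2.pr := ⟨_, rfl⟩
  have e1 : G.map PSL2.pr = M := by rw [hG, map_comap_pr]
  have e : ↥(G.map PSL2.pr) ≃* ↥M := MulEquiv.subgroupCongr e1
  have hK := classify M
  rw [← hG] at hK
  cases hK with
  | cyclic k hk hc hcard =>
    exact Or.inl (torus_case hM h4 hk (Or.inl ⟨isCyclic_of_surjective e e.surjective, (Nat.card_congr e.toEquiv).symm.trans hcard⟩))
  | dihedral k hk h2 hiso =>
    exact Or.inl (torus_case hM h4 hk (Or.inr ⟨h2, hiso.map e.symm.trans⟩))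
  | borel g hg _ =>
    refine Or.inr (Or.inl ?_)
    have hle : M.map (PSL2.conjP g).toMonoidHom ≤ borelP F := by
      rw [← e1, ← map_pr_conj]
      exact Subgroup.map_mono fun y hy => hg y hy
    rw [← card_map_conj g M, ← ((coatom_conj hM g).le_iff.mp hle).resolve_left borelP_ne_top, card_borelP]
  | a4 h2 hiso => exact Or.inr (Or.inr (Or.inl ⟨h2, hiso.map e.symm.trans⟩))
  | s4 h2 hiso => exact Or.inr (Or.inr (Or.inr (Or.inl ⟨h2, hiso.map e.symm.trans⟩)))
  | a5 h2 hiso => exact Or.inr (Or.inr (Or.inr (Or.inr (Or.inl ⟨h2, hiso.map e.symm.trans⟩))))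
  | field g K hlow hhigh hiso =>
    refine Or.inr (Or.inr (Or.inr (Or.inr (Or.inr ⟨g, K, fun hKtop => ?_, ?_⟩))))
    · haveI : Fintype K := Fintype.ofFinite K
      have hKc : Fintype.card K = Fintype.card F := by
        rw [← Nat.card_eq_fintype_card, ← Nat.card_eq_fintype_card, hKtop]
        exact Nat.card_congr Subfield.topEquiv.toEquiv
      refine hM.1 (Subgroup.eq_top_of_le_card _ ?_)
      rw [← e1]
      have hP := card_P2 (F := F)
      rcases hiso with ⟨⟨f⟩⟩ | ⟨h2, ⟨f⟩⟩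
      · rw [Nat.card_congr f.toEquiv, card_pgl, hKc, ← hP]
        exact Nat.le_mul_of_pos_right _ (Nat.gcd_pos_of_pos_left _ two_pos)
      · have := card_psl K
        rw [hKc, ← hP, ← Nat.card_congr f.toEquiv] at this
        exact (Nat.eq_of_mul_eq_mul_right (Nat.gcd_pos_of_pos_left _ two_pos) this).ge
    · rw [← e1, ← map_pr_conj]
      refine Subgroup.map_mono fun y hy => ?_
      obtain ⟨c, N, hN, he⟩ := hhigh y hy
      exact ⟨c, Matrix.of fun i j => ⟨N i j, hN i j⟩, he.trans (congrArg (c • ·) (Matrix.ext fun i j => rfl))⟩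

end Cfsg.Agent.Classical.Dickson
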