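import Cfsg.Agent.Lib.Classical.Dickson.Tools

/-!
# Overgroups in `PSL₂`
-/

set_option autoImplicit false
set_option linter.unusedSectionVars false

namespace Cfsg.Agent.Classical.Dickson

open Cfsg.Agent.Small Cfsg.Agent.Small.SL2C
open scoped commutatorElement

/-- Two distinct involutory commutators. -/
def Rich (X : Type*) [Group X] : Prop :=
  ∃ a b c e : X, ⁅a, b⁆ * ⁅a, b⁆ = 1 ∧ ⁅c, e⁆ * ⁅c, e⁆ = 1 ∧ ⁅a, b⁆ ≠ 1 ∧ ⁅c, e⁆ ≠ 1 ∧ ⁅a, b⁆ ≠ ⁅c, e⁆

theorem Rich.map {X Y : Type*} [Group X] [Group Y] (h : Rich X) (f : X →* Y) (hf : Function.Injective f) : Rich Y := by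
  obtain ⟨a, b, c, e, h1, h2, h3, h4, h5⟩ := h
  refine ⟨f a, f b, f c, f e, ?_, ?_, ?_, ?_, ?_⟩
  · rw [← map_commutatorElement, ← map_mul, h1, map_one]
  · rw [← map_commutatorElement, ← map_mul, h2, map_one]
  · rw [← map_commutatorElement, ← map_one f]; exact fun e => h3 (hf e)
  · rw [← map_commutatorElement, ← map_one f]; exact fun e => h4 (hf e)
  · rw [← map_commutatorElement, ← map_commutatorElement]; exact fun e => h5 (hf e)

theorem rich_a4 : Rich (alternatingGroup (Fin 4)) :=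
  ⟨⟨Equiv.swap 0 1 * Equiv.swap 1 2, Equiv.Perm.mem_alternatingGroup.mpr (by decide)⟩, ⟨Equiv.swap 1 2 * Equiv.swap 2 3, Equiv.Perm.mem_alternatingGroup.mpr (by decide)⟩,
    ⟨Equiv.swap 0 1 * Equiv.swap 1 2, Equiv.Perm.mem_alternatingGroup.mpr (by decide)⟩, ⟨Equiv.swap 0 1 * Equiv.swap 1 3, Equiv.Perm.mem_alternatingGroup.mpr (by decide)⟩, by decide⟩

theorem rich_s4 : Rich (Equiv.Perm (Fin 4)) :=
  rich_a4.map (alternatingGroup (Fin 4)).subtype Subtype.val_injective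

theorem rich_a5 : Rich (alternatingGroup (Fin 5)) :=
  ⟨⟨Equiv.swap 0 1 * Equiv.swap 1 2, Equiv.Perm.mem_alternatingGroup.mpr (by decide)⟩, ⟨Equiv.swap 1 2 * Equiv.swap 2 3, Equiv.Perm.mem_alternatingGroup.mpr (by decide)⟩,
    ⟨Equiv.swap 0 1 * Equiv.swap 1 2, Equiv.Perm.mem_alternatingGroup.mpr (by decide)⟩, ⟨Equiv.swap 0 1 * Equiv.swap 1 3, Equiv.Perm.mem_alternatingGroup.mpr (by decide)⟩, by decide⟩

theorem not_rich_of_cyclic {X : Type*} [Group X] (h : IsCyclic X) : ¬ Rich X := by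
  rintro ⟨a, b, -, -, -, -, h3, -, -⟩
  exact h3 (commutatorElement_eq_one_iff_commute.mpr (mul_comm' h a b))
where
  mul_comm' {X : Type _} [Group X] (h : IsCyclic X) (a b : X) : Commute a b :=
    letI := h.commGroup
    mul_comm a b

theorem not_rich_dihedral (k : ℕ) (hk : 2 ≤ k) : ¬ Rich (DihedralGroup k) := by
  haveI : NeZero k := ⟨by omega⟩
  have hcom : ∀ a b : DihedralGroup k, ∃ i, ⁅a, b⁆ = DihedralGroup.r i := fun a b => by
    rcases a with i | i <;> rcases b with j | j <;> exact ⟨_, by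
      simp only [commutatorElement_def, DihedralGroup.inv_r, DihedralGroup.inv_sr, DihedralGroup.r_mul_r,
        DihedralGroup.r_mul_sr, DihedralGroup.sr_mul_r, DihedralGroup.sr_mul_sr]; rfl⟩
  rintro ⟨a, b, c, e, h1, h2, h3, h4, h5⟩
  obtain ⟨i, hi⟩ := hcom a b
  obtain ⟨j, hj⟩ := hcom c e
  rw [hi, DihedralGroup.r_mul_r, ← DihedralGroup.r_zero, DihedralGroup.r.injEq] at h1
  rw [hj, DihedralGroup.r_mul_r, ← DihedralGroup.r_zero, DihedralGroup.r.injEq] at h2
  rw [hi, ← DihedralGroup.r_zero, ne_eq, DihedralGroup.r.injEq] at h3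
  rw [hj, ← DihedralGroup.r_zero, ne_eq, DihedralGroup.r.injEq] at h4
  rw [hi, hj, ne_eq, DihedralGroup.r.injEq] at h5
  have key : ∀ i : ZMod k, i + i = 0 → i ≠ 0 → 2 * i.val = k := fun i h h0 => by
    have h' := congrArg ZMod.val h
    rw [ZMod.val_add, ZMod.val_zero] at h'
    have h1 := ZMod.val_lt i
    have h2 : 0 < i.val := Nat.pos_of_ne_zero fun e => h0 ((ZMod.val_eq_zero i).mp e)
    obtain ⟨c, hc⟩ := Nat.dvd_of_mod_eq_zero h'
    have hc2 : c < 2 := by nlinarith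
    interval_cases c <;> omega
  exact h5 (ZMod.val_injective k (by have := key i h1 h3; have := key j h2 h4; omega))

variable {F : Type*} [Field F] [Fintype F]

local notation "P2" => Matrix.ProjectiveSpecialLinearGroup (Fin 2) F

theorem not_rich_borel (h2 : (2 : F) ≠ 0) : ¬ Rich (borelP F) := by
  have hcom : ∀ a b : borelP F, ∃ x : F, ((⁅a, b⁆ : borelP F) : P2) = PSL2.pr (PSL2.uS x) := by
    rintro ⟨_, A, hA, rfl⟩ ⟨_, B, hB, rfl⟩
    have hm : ⁅A, B⁆ ∈ upperSL F := by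
      rw [commutatorElement_def]
      exact mul_mem (mul_mem (mul_mem hA hB) (inv_mem hA)) (inv_mem hB)
    have h00 : (⁅A, B⁆).1 0 0 = 1 := by
      obtain ⟨a1, a2, a3, a4⟩ := Fusion.Dickson.inv_entries A
      obtain ⟨b1, b2, b3, b4⟩ := Fusion.Dickson.inv_entries B
      have hdA := Fusion.Dickson.det_eq A
      have hdB := Fusion.Dickson.det_eq B
      rw [show A.1 1 0 = 0 from hA, mul_zero, sub_zero] at hdA
      rw [show B.1 1 0 = 0 from hB, mul_zero, sub_zero] at hdB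
      simp only [commutatorElement_def, Fusion.Dickson.mul_entry, a1, a3, b1, b3,
        show A.1 1 0 = 0 from hA, show B.1 1 0 = 0 from hB]
      linear_combination (B.1 0 0 * B.1 1 1) * hdA + hdB
    refine ⟨(⁅A, B⁆).1 0 1, ?_⟩
    rw [uS_eq_upU, ← Fusion.Dickson.eq_upU (show (⁅A, B⁆).1 1 0 = 0 from hm) h00, map_commutatorElement]
    rfl
  rintro ⟨a, b, -, -, h1, -, h3, -, -⟩
  obtain ⟨x, hx⟩ := hcom a b
  have h := congrArg Subtype.val h1
  rw [Subgroup.coe_mul, hx, ← map_mul, ← PSL2.uS_add, Subgroup.coe_one] at h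
  have h0 : x + x = 0 := PSL2.pr_uS_inj (h.trans (by
    rw [uS_eq_upU, Fusion.Dickson.upU_zero, map_one]))
  refine h3 (Subtype.ext ?_)
  rw [hx, show x = 0 from (mul_eq_zero.mp (show (2 : F) * x = 0 by linear_combination h0)).resolve_left h2,
    uS_eq_upU, Fusion.Dickson.upU_zero, map_one]
  rfl

/-- A subgroup containing a rich one is polyhedral or defined over a subfield. -/
theorem rich_overgroup (h2 : (2 : F) ≠ 0) {H M : Subgroup P2} (hle : H ≤ M) (hH : Rich H) :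
    Nonempty (M ≃* alternatingGroup (Fin 4)) ∨ Nonempty (M ≃* Equiv.Perm (Fin 4)) ∨
      Nonempty (M ≃* alternatingGroup (Fin 5)) ∨
      ∃ (K : Subfield F) (m : ℕ), 1 ≤ m ∧ Nat.card K ^ m = Fintype.card F ∧
        (Nat.card M = Nat.card K * (Nat.card K ^ 2 - 1) ∨ 2 * Nat.card M = Nat.card K * (Nat.card K ^ 2 - 1)) := by
  have hM : Rich M := hH.map (Subgroup.inclusion hle) (Subgroup.inclusion_injective hle)
  rcases cases_on M with ⟨k, -, ⟨hc, -⟩ | ⟨hk, ⟨e⟩⟩⟩ | ⟨g, hg, -⟩ | ⟨-, h⟩ | ⟨-, h⟩ | ⟨-, h⟩ | ⟨K, m, hm, hKm, hK⟩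
  · exact absurd hM (not_rich_of_cyclic hc)
  · exact absurd (hM.map e.toMonoidHom e.injective) (not_rich_dihedral k hk)
  · exact absurd ((hM.map ((PSL2.conjP g).subgroupMap M).toMonoidHom ((PSL2.conjP g).subgroupMap M).injective).map
      (Subgroup.inclusion hg) (Subgroup.inclusion_injective hg)) (not_rich_borel h2)
  · exact Or.inl h
  · exact Or.inr (Or.inl h)
  · exact Or.inr (Or.inr (Or.inl h))
  · exact Or.inr (Or.inr (Or.inr ⟨K, m, hm, hKm, hK.imp (fun h => h.2) fun h => h.2.2⟩))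

/-- The subfield of a proper subgroup is proper. -/
theorem two_le_degree {M : Subgroup P2} (hM : M ≠ ⊤) {Q m : ℕ} (hm : 1 ≤ m) (hQ : Q ^ m = Fintype.card F)
    (h : Nat.card M = Q * (Q ^ 2 - 1) ∨ 2 * Nat.card M = Q * (Q ^ 2 - 1) ∧ (2 : F) ≠ 0) : 2 ≤ m := by
  by_contra hlt
  obtain rfl : m = 1 := by omega
  rw [pow_one] at hQ
  subst hQ
  refine hM (Subgroup.eq_top_of_le_card _ ?_)
  have hP := card_P2 (F := F)
  rcases h with h | ⟨h, h2⟩
  · rw [h, ← hP]
    exact Nat.le_mul_of_pos_right _ (Nat.gcd_pos_of_pos_left _ two_pos)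
  · rw [two_dvd_pred h2] at hP
    omega

/-- A prime field has no proper subfield. -/
theorem degree_one_of_prime {Q m p : ℕ} (hp : p.Prime) (h : Q ^ m = p) : m = 1 :=
  Nat.Prime.eq_one_of_pow (h.symm ▸ hp)

end Cfsg.Agent.Classical.Dickson
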