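import Cfsg.Agent.Lib.Classical.Dickson.MaxList

/-!
# Normalisers of tori in `PGL₂`
-/

set_option autoImplicit false
set_option linter.unusedSectionVars false

namespace Cfsg.Agent.Classical.Dickson

open Cfsg.Agent.Small Cfsg.Agent.Small.SL2C

variable {F : Type*} [Field F] [Fintype F]

local notation "SL2" => Matrix.SpecialLinearGroup (Fin 2) F
local notation "P2" => Matrix.ProjectiveSpecialLinearGroup (Fin 2) F
local notation "G2" => Matrix.ProjGenLinGroup (Fin 2) F
local notation "M2" => Matrix (Fin 2) (Fin 2) F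

/-- Invertible matrices commuting with `g`. -/
def torC (g : SL2) : Subgroup (GL (Fin 2) F) where
  carrier := {h | PSL2.conjSL h g = g}
  mul_mem' {a b} ha hb := by
    show PSL2.conjSL (a * b) g = g
    rw [map_mul, MulAut.mul_apply, show PSL2.conjSL b g = g from hb]; exact ha
  one_mem' := by show PSL2.conjSL 1 g = g; rw [map_one]; rfl
  inv_mem' {a} ha := by
    show PSL2.conjSL a⁻¹ g = g
    rw [map_inv]
    apply (PSL2.conjSL a).injective
    rw [MulAut.apply_inv_self]
    exact (show PSL2.conjSL a g = g from ha).symm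

/-- Invertible matrices sending `g` to `g` or its inverse. -/
def torN (g : SL2) : Subgroup (GL (Fin 2) F) where
  carrier := {h | PSL2.conjSL h g = g ∨ PSL2.conjSL h g = g⁻¹}
  mul_mem' {a b} ha hb := by
    show PSL2.conjSL (a * b) g = g ∨ _
    rw [map_mul, MulAut.mul_apply]
    rcases hb with hb | hb <;> rw [hb] <;> rcases ha with ha | ha
    · exact Or.inl ha
    · exact Or.inr ha
    · exact Or.inr (by rw [map_inv, ha])
    · exact Or.inl (by rw [map_inv, ha, inv_inv])
  one_mem' := by left; rw [map_one]; rfl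
  inv_mem' {a} ha := by
    show PSL2.conjSL a⁻¹ g = g ∨ _
    rw [map_inv]
    rcases ha with ha | ha
    · left; apply (PSL2.conjSL a).injective; rw [MulAut.apply_inv_self]; exact ha.symm
    · right; apply (PSL2.conjSL a).injective; rw [MulAut.apply_inv_self, map_inv, ha, inv_inv]

theorem torC_le_torN (g : SL2) : torC g ≤ torN g := fun _ h => Or.inl h

theorem scalar_mem_torC (g : SL2) (u : Fˣ) : Matrix.GeneralLinearGroup.scalar (Fin 2) u ∈ torC g := by
  show PSL2.conjSL _ g = g
  apply Subtype.ext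
  rw [PSL2.conjSL_val, Units.mul_inv_eq_iff_eq_mul]
  ext i j
  fin_cases i <;> fin_cases j <;> simp [Matrix.mul_apply, Fin.sum_univ_two] <;> ring

theorem mem_torC {g : SL2} {h : GL (Fin 2) F} : h ∈ torC g ↔ h.val * g.1 = g.1 * h.val := by
  show PSL2.conjSL h g = g ↔ _
  refine Subtype.ext_iff.trans ?_
  rw [PSL2.conjSL_val, Units.mul_inv_eq_iff_eq_mul]

/-- The normaliser of a torus in `PGL₂` is dihedral. -/
theorem pgl_dihedral (h2 : (2 : F) ≠ 0) {g : SL2} (ht : g.1.trace * g.1.trace ≠ 4) :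
    Nat.card ((torN g).map Matrix.ProjGenLinGroup.mk) = 2 * sol g.1.trace 1 ∧
      Nonempty ((torN g).map Matrix.ProjGenLinGroup.mk ≃* DihedralGroup (sol g.1.trace 1)) := by
  classical
  haveI := finite_pgl F
  have hg := not_isSc_of_trace ht
  have hdet : ∀ h : GL (Fin 2) F, h.val.det ≠ 0 := fun h => ((Matrix.isUnit_iff_isUnit_det _).mp h.isUnit).ne_zero
  have hcomm : ∀ a ∈ torC g, ∀ b ∈ torC g, a.val * b.val = b.val * a.val := fun a ha b hb => by
    obtain ⟨x, y, hx⟩ := exists_comb hg (mem_torC.mp ha)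
    rw [hx, comb, Matrix.add_mul, Matrix.mul_add, Matrix.smul_mul, Matrix.mul_smul, Matrix.smul_mul, Matrix.mul_smul,
      one_mul, mul_one, mem_torC.mp hb]
  let φ : torC g →* SL2 := MonoidHom.mk' (fun h => ⟨h.1.val.det⁻¹ • (h.1.val * h.1.val), by
      rw [Matrix.det_smul, Fintype.card_fin, Matrix.det_mul]
      field_simp [hdet h.1]⟩) (fun a b => Subtype.ext (by
      show (a.1 * b.1).val.det⁻¹ • ((a.1 * b.1).val * (a.1 * b.1).val) =
        (a.1.val.det⁻¹ • (a.1.val * a.1.val)) * (b.1.val.det⁻¹ • (b.1.val * b.1.val))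
      rw [Units.val_mul, Matrix.det_mul, mul_inv, Matrix.smul_mul, Matrix.mul_smul,
        smul_smul]
      congr 1
      rw [Matrix.mul_assoc a.1.val b.1.val, ← Matrix.mul_assoc b.1.val a.1.val, ← hcomm a.1 a.2 b.1 b.2]
      simp only [Matrix.mul_assoc]))
  let ψ : torC g →* G2 := Matrix.ProjGenLinGroup.mk.comp (torC g).subtype
  have hker : φ.ker = ψ.ker := by
    ext h
    rw [MonoidHom.mem_ker, MonoidHom.mem_ker]
    show _ ↔ Matrix.ProjGenLinGroup.mk h.1 = 1
    rw [Matrix.ProjGenLinGroup.mk_eq_one, Matrix.GeneralLinearGroup.center_eq_range_scalar]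
    constructor
    · intro e
      have e' : h.1.val * h.1.val = h.1.val.det • (1 : M2) := by
        have := congrArg (fun z : SL2 => z.1) e
        change h.1.val.det⁻¹ • (h.1.val * h.1.val) = 1 at this
        rw [inv_smul_eq_iff₀ (hdet h.1)] at this
        exact this
      have hch : h.1.val * h.1.val = h.1.val.trace • h.1.val - h.1.val.det • (1 : M2) := by
        ext i j
        fin_cases i <;> fin_cases j <;> simp [Matrix.det_fin_two, Matrix.trace_fin_two, Matrix.mul_apply, Fin.sum_univ_two] <;> ring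
      have e2 : h.1.val.trace • h.1.val = (2 * h.1.val.det) • (1 : M2) := by
        rw [two_mul, add_smul]
        nth_rewrite 2 [← e']
        rw [hch, add_sub_cancel]
      have htr : h.1.val.trace ≠ 0 := fun h0 => by
        rw [h0, zero_smul] at e2
        have := congrFun (congrFun e2 0) 0
        simp at this
        exact this.elim h2 (hdet h.1)
      refine ⟨Units.mk0 (2 * h.1.val.det / h.1.val.trace) (div_ne_zero (mul_ne_zero h2 (hdet h.1)) htr), Units.ext ?_⟩
      have := congrArg (fun X : M2 => h.1.val.trace⁻¹ • X) e2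
      rw [smul_smul, inv_mul_cancel₀ htr, one_smul, smul_smul, ← div_eq_inv_mul] at this
      refine Eq.trans ?_ this.symm
      ext i j
      simp [Matrix.diagonal, Matrix.one_apply]
    · rintro ⟨u, hu⟩
      apply Subtype.ext
      show h.1.val.det⁻¹ • (h.1.val * h.1.val) = 1
      rw [← hu]
      ext i j
      fin_cases i <;> fin_cases j <;> simp [Matrix.det_fin_two, Matrix.mul_apply, Fin.sum_univ_two] <;> field_simp
  have hrange : φ.range = tor g := by
    refine le_antisymm ?_ ?_
    · rintro _ ⟨h, rfl⟩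
      refine mem_tor.mpr ?_
      show (h.1.val.det⁻¹ • (h.1.val * h.1.val)) * g.1 = g.1 * (h.1.val.det⁻¹ • (h.1.val * h.1.val))
      rw [Matrix.smul_mul, Matrix.mul_smul, Matrix.mul_assoc, mem_torC.mp h.2, ← Matrix.mul_assoc, mem_torC.mp h.2,
        Matrix.mul_assoc]
    · intro t htor
      obtain ⟨x, y, he, hd⟩ := exists_of_mem_tor hg htor
      by_cases hm : x = -1 ∧ y = 0
      · obtain ⟨rfl, rfl⟩ := hm
        have hdc : (comb g.1 (-g.1.trace) 2).det ≠ 0 := by
          rw [det_comb, g.2, Qf]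
          intro h0
          exact ht (by linear_combination -h0)
        refine ⟨⟨Matrix.GeneralLinearGroup.mkOfDetNeZero _ hdc, mem_torC.mpr ?_⟩, Subtype.ext ?_⟩
        · show comb g.1 _ _ * g.1 = g.1 * comb g.1 _ _
          rw [comb, Matrix.add_mul, Matrix.mul_add, Matrix.smul_mul, Matrix.mul_smul, Matrix.smul_mul, Matrix.mul_smul,
            one_mul, mul_one]
        · show (comb g.1 (-g.1.trace) 2).det⁻¹ • (comb g.1 (-g.1.trace) 2 * comb g.1 (-g.1.trace) 2) = t.1
          rw [inv_smul_eq_iff₀ hdc, he]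
          have hdg := g.2
          rw [Matrix.det_fin_two] at hdg
          ext i j
          fin_cases i <;> fin_cases j <;> simp [comb, Matrix.det_fin_two, Matrix.trace_fin_two, Matrix.mul_apply, Fin.sum_univ_two] <;> ring
      · have hdc : (comb g.1 (x + 1) y).det ≠ 0 := by
          rw [det_comb, g.2, Qf]
          intro h0
          apply hm
          have h1 : 2 * x + y * g.1.trace = -2 := by linear_combination h0 - hd
          have hy : y * y * (g.1.trace * g.1.trace - 4) = 0 := by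
            linear_combination -4 * hd + (2 * x + y * g.1.trace - 2) * h1
          have hy0 : y = 0 := mul_self_eq_zero.mp ((mul_eq_zero.mp hy).resolve_right (sub_ne_zero.mpr ht))
          subst hy0
          exact ⟨mul_left_cancel₀ h2 (by linear_combination h1), rfl⟩
        refine ⟨⟨Matrix.GeneralLinearGroup.mkOfDetNeZero _ hdc, mem_torC.mpr ?_⟩, Subtype.ext ?_⟩
        · show comb g.1 _ _ * g.1 = g.1 * comb g.1 _ _
          rw [comb, Matrix.add_mul, Matrix.mul_add, Matrix.smul_mul, Matrix.mul_smul, Matrix.smul_mul, Matrix.mul_smul,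
            one_mul, mul_one]
        · show (comb g.1 (x + 1) y).det⁻¹ • (comb g.1 (x + 1) y * comb g.1 (x + 1) y) = t.1
          rw [inv_smul_eq_iff₀ hdc, det_comb, g.2, he, Qf]
          simp only [comb, Matrix.add_mul, Matrix.mul_add, Matrix.smul_mul, Matrix.mul_smul, one_mul, mul_one, sq_eq]
          match_scalars
          · linear_combination -(1 : F) * (1 + x) * hd + (y * y) * (0 : F)
          · linear_combination -y * hd
  have eT : ψ.range ≃* tor g :=
    ((QuotientGroup.quotientKerEquivRange ψ).symm.trans ((QuotientGroup.quotientMulEquivOfEq hker.symm).trans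
      (QuotientGroup.quotientKerEquivRange φ))).trans (MulEquiv.subgroupCongr hrange)
  have hcyT : IsCyclic ψ.range := by
    haveI := isCyclic_centralizer ht
    exact isCyclic_of_surjective eT.symm eT.symm.surjective
  have hcT : Nat.card ψ.range = sol g.1.trace 1 := by
    rw [Nat.card_congr eT.toEquiv]; exact card_centralizer g hg
  obtain ⟨s, hs⟩ := exists_inverter ht
  have hs0 : s.1.trace = 0 := by
    have h1 : s.1 * g.1 = g⁻¹.1 * s.1 := congrArg (fun Y : SL2 => Y.1) hs
    rw [inv_val] at h1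
    have e00 := congrFun (congrFun h1 0) 0
    have e01 := congrFun (congrFun h1 0) 1
    have e10 := congrFun (congrFun h1 1) 0
    have e11 := congrFun (congrFun h1 1) 1
    simp [Matrix.mul_apply, Fin.sum_univ_two, Matrix.trace_fin_two] at e00 e01 e10 e11
    by_contra hne
    rw [Matrix.trace_fin_two] at hne
    refine hg ((isSc_iff _).mpr ⟨?_, ?_, ?_⟩)
    · exact (mul_eq_zero.mp (show (s.1 0 0 + s.1 1 1) * g.1 0 1 = 0 by linear_combination e01)).resolve_left hne
    · exact (mul_eq_zero.mp (show (s.1 0 0 + s.1 1 1) * g.1 1 0 = 0 by linear_combination e10)).resolve_left hne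
    · exact sub_eq_zero.mp ((mul_eq_zero.mp (show (s.1 0 0 + s.1 1 1) * (g.1 0 0 - g.1 1 1) = 0 by
        linear_combination e00 - e11)).resolve_left hne)
  have hsN : Matrix.SpecialLinearGroup.toGL s ∈ torN g := Or.inr (by
    apply Subtype.ext
    rw [PSL2.conjSL_val, Units.mul_inv_eq_iff_eq_mul]
    exact congrArg (fun Y : SL2 => Y.1) hs)
  have hTle : ψ.range ≤ (torN g).map Matrix.ProjGenLinGroup.mk := by
    rintro _ ⟨h, rfl⟩; exact ⟨h.1, torC_le_torN g h.2, rfl⟩
  have hmem : ∀ h : GL (Fin 2) F, Matrix.ProjGenLinGroup.mk h ∈ ψ.range → h ∈ torC g := by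
    rintro h ⟨c, hc⟩
    obtain ⟨u, hu⟩ := Matrix.ProjGenLinGroup.mk_eq_mk_iff.mp hc
    rw [← hu]; exact mul_mem c.2 (scalar_mem_torC g u)
  have hsnot : Matrix.SpecialLinearGroup.toGL s ∉ torC g := fun h => by
    have h1 : PSL2.conjSL (Matrix.SpecialLinearGroup.toGL s) g = g⁻¹ := by
      rcases hsN with e | e
      · apply Subtype.ext
        rw [PSL2.conjSL_val, Units.mul_inv_eq_iff_eq_mul]
        exact congrArg (fun Y : SL2 => Y.1) hs
      · exact e
    have hgg : g.1 = g⁻¹.1 := congrArg (fun Y : SL2 => Y.1) ((show _ = g from h).symm.trans h1)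
    rw [inv_val] at hgg
    refine hg ⟨g.1.trace / 2, ?_⟩
    have : (2 : F) • g.1 = g.1.trace • (1 : M2) := by rw [two_smul]; nth_rewrite 2 [hgg]; rw [add_sub_cancel]
    rw [div_eq_inv_mul, mul_smul, ← this, smul_smul, inv_mul_cancel₀ h2, one_smul]
  obtain ⟨D, hD⟩ : ∃ D, D = (torN g).map Matrix.ProjGenLinGroup.mk := ⟨_, rfl⟩
  rw [← hD] at hTle ⊢
  obtain ⟨w, hwdef⟩ : ∃ w : D, (w : G2) = Matrix.ProjGenLinGroup.mk (Matrix.SpecialLinearGroup.toGL s) :=
    ⟨⟨_, hD ▸ ⟨_, hsN, rfl⟩⟩, rfl⟩
  have hindex : (ψ.range.subgroupOf D).index = 2 := by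
    rw [Subgroup.index_eq_two_iff]
    refine ⟨w, fun b => ?_⟩
    obtain ⟨h, hh, hb⟩ : ∃ h ∈ torN g, Matrix.ProjGenLinGroup.mk h = (b : G2) := by
      obtain ⟨h, hh, hb⟩ := (hD ▸ b.2 : (b : G2) ∈ (torN g).map Matrix.ProjGenLinGroup.mk)
      exact ⟨h, hh, hb⟩
    rw [Subgroup.mem_subgroupOf, Subgroup.mem_subgroupOf, Subgroup.coe_mul, hwdef, ← hb, ← map_mul]
    have hsg : PSL2.conjSL (Matrix.SpecialLinearGroup.toGL s) g = g⁻¹ := hsN.resolve_left hsnot
    by_cases hc : h ∈ torC g
    · exact Or.inr ⟨⟨⟨h, hc⟩, rfl⟩, fun h' => hsnot (by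
        have := mul_mem (inv_mem hc) (hmem _ h')
        rwa [inv_mul_cancel_left] at this)⟩
    · refine Or.inl ⟨⟨⟨h * _, ?_⟩, rfl⟩, fun h' => hc (hmem _ h')⟩
      show PSL2.conjSL (h * Matrix.SpecialLinearGroup.toGL s) g = g
      rw [map_mul, MulAut.mul_apply, hsg, map_inv, hh.resolve_left hc, inv_inv]
  have hcard : Nat.card D = 2 * sol g.1.trace 1 := by
    rw [← (ψ.range.subgroupOf D).card_mul_index, hindex, Nat.card_congr (Subgroup.subgroupOfEquivOfLe hTle).toEquiv, hcT,
      mul_comm]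
  refine ⟨hcard, ?_⟩
  haveI := hcyT
  have hC : IsCyclic (ψ.range.subgroupOf D) :=
    isCyclic_of_surjective (Subgroup.subgroupOfEquivOfLe hTle).symm (Subgroup.subgroupOfEquivOfLe hTle).symm.surjective
  have hcC : Nat.card (ψ.range.subgroupOf D) = sol g.1.trace 1 := by
    rw [Nat.card_congr (Subgroup.subgroupOfEquivOfLe hTle).toEquiv, hcT]
  rw [← hcC]
  refine dihedral_of hC (t := w) (fun h => ?_) ?_ ?_ (by rw [hcard, hcC])
  · rw [Subgroup.mem_subgroupOf, hwdef] at h; exact hsnot (hmem _ h)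
  · apply Subtype.ext
    rw [Subgroup.coe_mul, hwdef, ← map_mul, Subgroup.coe_one, Matrix.ProjGenLinGroup.mk_eq_one,
      Matrix.GeneralLinearGroup.center_eq_range_scalar]
    refine ⟨-1, Units.ext ?_⟩
    show _ = s.1 * s.1
    rw [sq_eq, hs0, zero_smul, zero_sub]
    ext i j
    fin_cases i <;> fin_cases j <;> simp [Matrix.diagonal, Matrix.one_apply]
  · rintro ⟨c, hcD⟩ hc
    rw [Subgroup.mem_subgroupOf] at hc
    obtain ⟨⟨h, hh⟩, rfl⟩ := hc
    apply Subtype.ext
    rw [Subgroup.coe_mul, Subgroup.coe_mul, Subgroup.coe_inv, Subgroup.coe_inv, hwdef]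
    show Matrix.ProjGenLinGroup.mk _ * Matrix.ProjGenLinGroup.mk h * _ = (Matrix.ProjGenLinGroup.mk h)⁻¹
    rw [← map_inv (Matrix.ProjGenLinGroup.mk (n := Fin 2) (R := F)), ← map_inv (Matrix.ProjGenLinGroup.mk (n := Fin 2) (R := F)), ← map_mul, ← map_mul, eq_comm, Matrix.ProjGenLinGroup.mk_eq_mk_iff]
    refine ⟨Units.mk0 h.val.det (hdet h), ?_⟩
    obtain ⟨x, y, hx⟩ := exists_comb hg (mem_torC.mp hh)
    rw [eq_mul_inv_iff_mul_eq, mul_assoc, inv_mul_eq_iff_eq_mul]
    apply Units.ext
    have h1 : s.1 * g.1 = g⁻¹.1 * s.1 := congrArg (fun Y : SL2 => Y.1) hs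
    rw [inv_val] at h1
    show (Matrix.GeneralLinearGroup.scalar (Fin 2) (Units.mk0 h.val.det (hdet h))).val * s.1 = h.val * (s.1 * h.val)
    have hsc : (Matrix.GeneralLinearGroup.scalar (Fin 2) (Units.mk0 h.val.det (hdet h))).val = h.val.det • (1 : M2) := by
      ext i j; simp [Matrix.diagonal, Matrix.one_apply]
    rw [hsc, hx, det_comb, g.2]
    simp only [comb, Matrix.add_mul, Matrix.mul_add, Matrix.smul_mul, Matrix.mul_smul, one_mul, mul_one, h1,
      Matrix.sub_mul, Matrix.mul_sub, ← Matrix.mul_assoc, sq_eq, Qf]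
    match_scalars <;> ring

end Cfsg.Agent.Classical.Dickson
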