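import Cfsg.Agent.Lib.Fusion.DicksonSetup
import Cfsg.Agent.Lib.Small.SL2.Torus
import Cfsg.Agent.Lib.Small.SL2.Orders

/-!
# Centralisers inside a finite subgroup of `SL₂`
-/

set_option autoImplicit false
set_option linter.unusedSectionVars false

namespace Cfsg.Agent.Classical.Dickson

open Cfsg.Agent.Small Cfsg.Agent.Small.SL2C
open Cfsg.Agent.Fusion.Dickson (IsScalar scalarsIn unipIn upperIn shifts classSet)

variable {F : Type*} [Field F] [Fintype F]

local notation "SL2" => Matrix.SpecialLinearGroup (Fin 2) F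
local notation "P2" => Matrix.ProjectiveSpecialLinearGroup (Fin 2) F

theorem isScalar_iff {h : SL2} : IsScalar h ↔ IsSc h.1 := by
  rw [isSc_iff]; rfl

theorem tr_sq {h : SL2} : Fusion.Dickson.tr h ^ 2 = h.1.trace * h.1.trace := by
  rw [Fusion.Dickson.tr, Matrix.trace_fin_two, pow_two]

variable {G : Subgroup (Matrix.SpecialLinearGroup (Fin 2) F)}

theorem mem_Z {y : G} : y ∈ scalarsIn G ↔ IsSc (y : SL2).1 := isScalar_iff

theorem card_Z (hG : Subgroup.center SL2 ≤ G) :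
    Nat.card (scalarsIn G) = Nat.gcd 2 (Fintype.card F - 1) := by
  rw [← center_card_eq]
  refine Nat.card_congr ⟨fun y => ⟨y.1.1, mem_center_iff.mpr (mem_Z.mp y.2)⟩,
    fun c => ⟨⟨c.1, hG c.2⟩, mem_Z.mpr (mem_center_iff.mp c.2)⟩, fun _ => rfl, fun _ => rfl⟩

/-- The projection of the subgroup. -/
noncomputable def proj (G : Subgroup (Matrix.SpecialLinearGroup (Fin 2) F)) : G →* ↥(G.map PSL2.pr) :=
  (PSL2.pr.comp G.subtype).codRestrict _ fun x => ⟨x.1, x.2, rfl⟩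

theorem proj_surjective : Function.Surjective (proj G) := by
  rintro ⟨_, x, hx, rfl⟩
  exact ⟨⟨x, hx⟩, rfl⟩

theorem ker_proj : (proj G).ker = scalarsIn G := by
  ext y
  rw [MonoidHom.mem_ker, mem_Z, ← pr_eq_one_iff]
  exact ⟨fun h => congrArg Subtype.val h, fun h => Subtype.ext h⟩

/-- The centraliser data of a semisimple element. -/
structure Semi (G : Subgroup (Matrix.SpecialLinearGroup (Fin 2) F)) (A : Subgroup G) (a ε : ℕ) : Prop where
  le : scalarsIn G ≤ A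
  cyclic : IsCyclic A
  two_le : 2 ≤ a
  dvd : a * Nat.card (scalarsIn G) ∣ Fintype.card F - 1 ∨ a * Nat.card (scalarsIn G) ∣ Fintype.card F + 1
  card : Nat.card A = a * Nat.card (scalarsIn G)
  ct : ∀ x ∈ A, x ∉ scalarsIn G → Subgroup.centralizer ({x} : Set G) = A
  semis : ∀ x ∈ A, x ∉ scalarsIn G → (x : SL2).1.trace * (x : SL2).1.trace ≠ 4
  eps : ε = 1 ∨ ε = 2
  cardN : Nat.card (Subgroup.normalizer (A : Set G)) = ε * Nat.card A
  inv : ∀ n ∈ Subgroup.normalizer (A : Set G), n ∉ A →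
    n * n ∈ scalarsIn G ∧ ∀ x ∈ A, n * x * n⁻¹ = x⁻¹
  size : (Nat.card (classSet (scalarsIn G) A) : ℤ) * (ε * a) = Nat.card G * (a - 1)

theorem Semi.classSet_semis {A : Subgroup G} {a ε : ℕ} (hA : Semi G A a ε) {y : G}
    (hy : y ∈ classSet (scalarsIn G) A) : (y : SL2).1.trace * (y : SL2).1.trace ≠ 4 := by
  obtain ⟨x, w, hw, hwZ, rfl⟩ := hy
  rw [← trace_conj (isConj_iff.mpr ⟨(x : SL2), rfl⟩ : IsConj (w : SL2) ((x * w * x⁻¹ : G) : SL2))]
  exact hA.semis w hw hwZ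

theorem conj_cases {g s : SL2} (ht : g.1.trace * g.1.trace ≠ 4) (hs : s * g * s⁻¹ ∈ tor g) :
    s ∈ tor g ∨ s * g = g⁻¹ * s := by
  refine normalizer_cases ht ?_
  have hns : ¬ IsSc (s * g * s⁻¹).1 := by
    refine not_isSc_of_trace ?_
    rwa [← trace_conj (isConj_iff.mpr ⟨s, rfl⟩ : IsConj g (s * g * s⁻¹))]
  have he := (tor_eq ht hs hns).1
  rw [Subgroup.mem_normalizer_iff]
  intro x
  conv_rhs => rw [← he]
  rw [Subgroup.mem_centralizer_singleton_iff, Subgroup.mem_centralizer_singleton_iff]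
  constructor
  · intro h
    calc s * x * s⁻¹ * (s * g * s⁻¹) = s * (x * g) * s⁻¹ := by group
      _ = s * (g * x) * s⁻¹ := by rw [h]
      _ = s * g * s⁻¹ * (s * x * s⁻¹) := by group
  · intro h
    calc x * g = s⁻¹ * (s * x * s⁻¹ * (s * g * s⁻¹)) * s := by group
      _ = s⁻¹ * (s * g * s⁻¹ * (s * x * s⁻¹)) * s := by rw [h]
      _ = g * x := by group

theorem exists_semi (hG : Subgroup.center SL2 ≤ G) {h : G} (hh : h ∉ scalarsIn G)
    (ht : (h : SL2).1.trace * (h : SL2).1.trace ≠ 4) :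
    ∃ (A : Subgroup G) (a ε : ℕ), Semi G A a ε ∧ h ∈ A := by
  classical
  obtain ⟨A, hA⟩ : ∃ A, A = Subgroup.centralizer ({h} : Set G) := ⟨_, rfl⟩
  have hhA : h ∈ A := hA ▸ Subgroup.mem_centralizer_singleton_iff.2 rfl
  have hns := not_isSc_of_trace ht
  have hmem : ∀ x, x ∈ A ↔ (x : SL2) ∈ tor (h : SL2) := fun x => by
    rw [hA, Subgroup.mem_centralizer_singleton_iff, Subgroup.mem_centralizer_singleton_iff]
    exact ⟨fun e => congrArg Subtype.val e, fun e => Subtype.ext e⟩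
  have hZA : scalarsIn G ≤ A := hA ▸ Fusion.Dickson.scalarsIn_le_centralizer h
  obtain ⟨a, ha2, hac⟩ := Fusion.Dickson.card_centralizer_eq hh
  rw [← hA] at hac
  have hct : ∀ x ∈ A, x ∉ scalarsIn G → Subgroup.centralizer ({x} : Set G) = A := fun x hx hxZ => by
    rw [hA] at hx ⊢; exact Fusion.Dickson.centralizer_eq_self hh x hx hxZ
  haveI := isCyclic_centralizer ht
  have hcyc : IsCyclic A := isCyclic_of_injective
    ((G.subtype.comp A.subtype).codRestrict (tor (h : SL2)) fun x => (hmem x.1).mp x.2)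
    fun x y e => Subtype.ext (Subtype.ext (congrArg Subtype.val e :))
  have hdvd : a * Nat.card (scalarsIn G) ∣ Fintype.card F - 1 ∨
      a * Nat.card (scalarsIn G) ∣ Fintype.card F + 1 := by
    have h1 : Nat.card A ∣ Nat.card (tor (h : SL2)) := by
      rw [Nat.card_congr (A.equivMapOfInjective G.subtype Subtype.val_injective).toEquiv]
      refine Subgroup.card_dvd_of_le ?_
      rintro _ ⟨x, hx, rfl⟩
      exact (hmem x).mp hx
    rw [show Nat.card (tor (h : SL2)) = _ from card_centralizer _ hns, hac] at h1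
    rcases sol_eq (F := F) ht with ⟨-, e⟩ | ⟨-, e⟩ <;> rw [e] at h1
    · exact Or.inl h1
    · exact Or.inr h1
  obtain ⟨N, hN⟩ : ∃ N, N = Subgroup.normalizer (A : Set G) := ⟨_, rfl⟩
  have hcases : ∀ n ∈ N, n ∈ A ∨ (n : SL2) * h = (h : SL2)⁻¹ * n := fun n hn => by
    have hm : n * h * n⁻¹ ∈ A := (Subgroup.mem_normalizer_iff.1 (hN ▸ hn) h).1 hhA
    rcases conj_cases ht ((hmem _).mp hm) with e | e
    · exact Or.inl ((hmem n).mpr e)
    · exact Or.inr e
  have hinv : ∀ n ∈ N, n ∉ A → n * n ∈ scalarsIn G ∧ ∀ x ∈ A, n * x * n⁻¹ = x⁻¹ := fun n hn hnA => by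
    have e := (hcases n hn).resolve_left hnA
    refine ⟨mem_Z.mpr ⟨-1, ?_⟩, fun x hx => Subtype.ext ?_⟩
    · rw [Subgroup.coe_mul, val_mul', sq_of_inverter ht e, neg_one_smul]
    · exact mul_inv_eq_iff_eq_mul.mpr (inverts hns e ((hmem x).mp hx))
  obtain ⟨ε, hε, hεN⟩ : ∃ ε, (ε = 1 ∨ ε = 2) ∧ Nat.card N = ε * Nat.card A := by
    have hAN : A ≤ N := hN ▸ Subgroup.le_normalizer
    by_cases hall : ∀ n ∈ N, n ∈ A
    · exact ⟨1, Or.inl rfl, by rw [one_mul, le_antisymm hall hAN]⟩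
    push Not at hall
    obtain ⟨n, hn, hnA⟩ := hall
    refine ⟨2, Or.inr rfl, ?_⟩
    have hidx : (A.subgroupOf N).index = 2 := by
      rw [Subgroup.index_eq_two_iff']
      refine ⟨⟨n, hn⟩, fun b => ?_⟩
      simp only [Subgroup.mem_subgroupOf, Subgroup.coe_mul]
      by_cases hb : b.1 ∈ A
      · exact Or.inr ⟨hb, fun hh' => hnA (by simpa using mul_mem hh' (inv_mem hb))⟩
      · refine Or.inl ⟨(hmem _).mpr (Subgroup.mem_centralizer_singleton_iff.2 ?_), hb⟩
        have e1 := inverts hns ((hcases n hn).resolve_left hnA) (inv_mem ((hmem h).mp hhA))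
        rw [inv_inv] at e1
        rw [Subgroup.coe_mul, mul_assoc, (hcases b.1 b.2).resolve_left hb, ← mul_assoc, e1, mul_assoc]
    rw [← Subgroup.index_mul_card (A.subgroupOf N), hidx,
      Nat.card_congr (Subgroup.subgroupOfEquivOfLe hAN).toEquiv]
  refine ⟨A, a, ε, ⟨hZA, hcyc, ha2, hdvd, hac, hct, fun x hx hxZ => ?_, hε, hN ▸ hεN,
    fun n hn => hinv n (hN ▸ hn), ?_⟩, hhA⟩
  · exact (tor_eq ht ((hmem x).mp hx) fun hs => hxZ (mem_Z.mpr hs)).2
  · have h1 := Fusion.Dickson.card_classSet_mul hZA hct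
    rw [← hN, hεN, hac] at h1
    have hz : 0 < Nat.card (scalarsIn G) := Nat.card_pos
    have h2 : Nat.card (classSet (scalarsIn G) A) * (ε * a) = Nat.card G * (a - 1) := by
      apply Nat.eq_of_mul_eq_mul_right hz
      calc _ = Nat.card (classSet (scalarsIn G) A) * (ε * (a * Nat.card (scalarsIn G))) := by ring
        _ = _ := h1
        _ = _ := by rw [mul_assoc, Nat.sub_mul, one_mul]
    have h3 := congrArg (fun n : ℕ => (n : ℤ)) h2
    simpa [Nat.cast_sub (show 1 ≤ a by omega)] using h3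

theorem Semi.disjoint {A B : Subgroup G} {a ε b δ : ℕ} (hA : Semi G A a ε) (hB : Semi G B b δ) {h : G}
    (hh : h ∉ classSet (scalarsIn G) A) (hhB : h ∈ B) (hhZ : h ∉ scalarsIn G) :
    Disjoint (classSet (scalarsIn G) A) (classSet (scalarsIn G) B) :=
  Fusion.Dickson.classSet_disjoint_of_notMem hh hhZ hhB hA.ct hB.ct

theorem classSet_subset (A : Subgroup G) : classSet (scalarsIn G) A ⊆ (scalarsIn G : Set G)ᶜ := by
  rintro _ ⟨x, a, -, haZ, rfl⟩ hmem
  refine haZ ?_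
  have := (Fusion.Dickson.scalarsIn_normal (H := G)).conj_mem _ hmem x⁻¹
  rwa [show x⁻¹ * (x * a * x⁻¹) * x⁻¹⁻¹ = a by group] at this

theorem card_le (s : Set G) (hs : s ⊆ (scalarsIn G : Set G)ᶜ) :
    (s.ncard : ℤ) + Nat.card (scalarsIn G) ≤ Nat.card G := by
  have h := Set.ncard_le_ncard hs (Set.toFinite _)
  have e := Set.ncard_compl (scalarsIn G : Set G)
  rw [← Nat.card_coe_set_eq (scalarsIn G : Set G)] at e
  have := Subgroup.card_le_card_group (scalarsIn G)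
  have e' : Nat.card ↥(scalarsIn G : Set G) = Nat.card (scalarsIn G) := rfl
  omega

theorem card_cover (s : Set G) (hs : s ⊆ (scalarsIn G : Set G)ᶜ) (hc : ∀ y : G, y ∉ scalarsIn G → y ∈ s) :
    (s.ncard : ℤ) + Nat.card (scalarsIn G) = Nat.card G := by
  have h : s = (scalarsIn G : Set G)ᶜ := Set.Subset.antisymm hs fun y hy => hc y hy
  have e := Set.ncard_compl (scalarsIn G : Set G)
  rw [← Nat.card_coe_set_eq (scalarsIn G : Set G), ← h] at e
  have := Subgroup.card_le_card_group (scalarsIn G)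
  have e' : Nat.card ↥(scalarsIn G : Set G) = Nat.card (scalarsIn G) := rfl
  omega

section Transvection

variable (hu : PSL2.uS (1 : F) ∈ G)

theorem mem_unip_of_commute {y : G} (ht : Fusion.Dickson.tr (y : SL2) = 2)
    (hc : y ∈ Subgroup.centralizer ({Fusion.Dickson.transIn hu} : Set G)) : y ∈ unipIn G := by
  obtain ⟨h10, hdiag⟩ := (Fusion.Dickson.mem_centralizer_transIn hu).1 hc
  have hd := Fusion.Dickson.det_eq (y : SL2)
  rw [h10, ← hdiag, mul_zero, sub_zero] at hd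
  rw [Fusion.Dickson.tr, ← hdiag] at ht
  refine ⟨h10, sub_eq_zero.mp (mul_self_eq_zero.mp ?_)⟩
  linear_combination hd - ht

/-- The centraliser of the transvection. -/
theorem card_centralizer_u (hG : Subgroup.center SL2 ≤ G) :
    Nat.card (Subgroup.centralizer ({Fusion.Dickson.transIn hu} : Set G)) =
      Nat.card (unipIn G) * Nat.card (scalarsIn G) := by
  rw [← Nat.card_prod]
  refine (Nat.card_congr (Equiv.ofBijective
    (fun q : unipIn G × scalarsIn G => (⟨q.1.1 * q.2.1, mul_mem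
      (Fusion.Dickson.unipIn_le_centralizer hu q.1.2) (Fusion.Dickson.scalarsIn_le_centralizer _ q.2.2)⟩ :
        Subgroup.centralizer ({Fusion.Dickson.transIn hu} : Set G))) ⟨?_, ?_⟩)).symm
  · rintro ⟨s, z⟩ ⟨s', z'⟩ he
    have e : (s.1 : SL2) * (z.1 : SL2) = (s'.1 : SL2) * (z'.1 : SL2) :=
      congrArg Subtype.val (congrArg Subtype.val he)
    have e0 := congrArg (fun t : SL2 => t.1 0 0) e
    simp only [Fusion.Dickson.mul_entry, s.2.2, s'.2.2, z.2.2.1, z'.2.2.1, one_mul, mul_zero, add_zero] at e0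
    have ez : z = z' := Subtype.ext (Subtype.ext (Fusion.Dickson.ext' e0 (by rw [z.2.1, z'.2.1])
      (by rw [z.2.2.1, z'.2.2.1]) (by rw [← z.2.2.2, ← z'.2.2.2, e0])))
    subst ez
    rw [mul_right_cancel_iff] at e
    exact Prod.ext (Subtype.ext (Subtype.ext e)) rfl
  · rintro ⟨y, hy⟩
    obtain ⟨h10, hdiag⟩ := (Fusion.Dickson.mem_centralizer_transIn hu).1 hy
    have hd := Fusion.Dickson.det_eq (y : SL2)
    rw [h10, ← hdiag, mul_zero, sub_zero] at hd
    obtain ⟨c, hc⟩ : ∃ c : SL2, c.1 = (y : SL2).1 0 0 • (1 : Matrix (Fin 2) (Fin 2) F) :=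
      ⟨⟨_, by rw [Matrix.det_smul, Matrix.det_one, mul_one, Fintype.card_fin, pow_two, hd]⟩, rfl⟩
    have hcZ : IsSc c.1 := ⟨_, hc⟩
    have hcG : c ∈ G := hG (mem_center_iff.mpr hcZ)
    refine ⟨(⟨⟨c, hcG⟩ * y, ?_, ?_⟩, ⟨⟨c, hcG⟩, mem_Z.mpr hcZ⟩), Subtype.ext (Subtype.ext ?_)⟩
    · show (c * (y : SL2)).1 1 0 = 0
      rw [Fusion.Dickson.mul_entry, hc, h10]; simp
    · show (c * (y : SL2)).1 0 0 = 1
      rw [Fusion.Dickson.mul_entry, hc, h10]; simp [hd]
    · show c * (y : SL2) * c = (y : SL2)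
      have hcc := Fusion.Dickson.isScalar_sq (isScalar_iff.mpr hcZ)
      rw [Fusion.Dickson.isScalar_commute (isScalar_iff.mpr hcZ), mul_assoc, hcc, mul_one]

theorem mem_classSet_u (hG : Subgroup.center SL2 ≤ G) {h : G} (hh : h ∉ scalarsIn G)
    (ht : (h : SL2).1.trace * (h : SL2).1.trace = 4) :
    h ∈ classSet (scalarsIn G) (Subgroup.centralizer ({Fusion.Dickson.transIn hu} : Set G)) := by
  obtain ⟨p, hp⟩ := CharP.exists F
  haveI : Fact p.Prime := ⟨CharP.char_is_prime F p⟩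
  have hS : IsPGroup p (unipIn G) := fun y => ⟨1, Subtype.ext (Subtype.ext (by
    show (y.1 : SL2) ^ p ^ 1 = 1
    rw [Fusion.Dickson.eq_upU y.2.1 y.2.2, pow_one, Fusion.Dickson.upU_pow, CharP.cast_eq_zero, zero_mul,
      Fusion.Dickson.upU_zero]))⟩
  obtain ⟨P, hP⟩ := hS.exists_le_sylow
  have hne : Fusion.Dickson.transIn hu ∈ (P : Subgroup G) :=
    hP ⟨by simp [Fusion.Dickson.transIn, PSL2.uS], by simp [Fusion.Dickson.transIn, PSL2.uS]⟩
  haveI : Nontrivial (P : Subgroup G) := ⟨⟨⟨_, hne⟩, 1, fun he =>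
    Fusion.Dickson.transIn_not_scalar hu (show Fusion.Dickson.transIn hu ∈ scalarsIn G from by
      rw [show Fusion.Dickson.transIn hu = 1 from congrArg Subtype.val he]; exact one_mem _)⟩⟩
  haveI := P.2.center_nontrivial
  obtain ⟨⟨z, hz⟩, hz1⟩ := exists_ne (1 : Subgroup.center (P : Subgroup G))
  have htr : ∀ y : (P : Subgroup G), Fusion.Dickson.tr ((y : G) : SL2) = 2 := fun y => by
    obtain ⟨j, hj⟩ := P.2 y
    exact Fusion.Dickson.tr_of_pow_eq_one p (congrArg Subtype.val (congrArg Subtype.val hj))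
  have hzc : (z : G) ∈ unipIn G := mem_unip_of_commute hu (htr z) (Subgroup.mem_centralizer_singleton_iff.2
      (congrArg Subtype.val (Subgroup.mem_center_iff.1 hz ⟨_, hne⟩)).symm)
  have hPS : ∀ y ∈ (P : Subgroup G), y ∈ unipIn G := by
    intro y hy
    have hzs : (z : G) ∉ scalarsIn G := by
      intro hs
      refine hz1 (Subtype.ext (Subtype.ext (Subtype.ext ?_)))
      show ((z : G) : SL2) = 1
      rw [Fusion.Dickson.eq_upU hzc.1 hzc.2, hs.1, Fusion.Dickson.upU_zero]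
    refine mem_unip_of_commute hu (htr ⟨y, hy⟩) ?_
    rw [← Fusion.Dickson.centralizer_eq_self (Fusion.Dickson.transIn_not_scalar hu) _
      (Fusion.Dickson.unipIn_le_centralizer hu hzc) hzs, Subgroup.mem_centralizer_singleton_iff]
    exact congrArg Subtype.val (Subgroup.mem_center_iff.1 hz ⟨y, hy⟩)
  obtain ⟨ε, hε, hte⟩ := exists_eps ht
  obtain ⟨c, hc⟩ : ∃ c : SL2, c.1 = ε • (1 : Matrix (Fin 2) (Fin 2) F) :=
    ⟨⟨_, by rw [Matrix.det_smul, Matrix.det_one, mul_one, Fintype.card_fin, pow_two, hε]⟩, rfl⟩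
  have hcG : c ∈ G := hG (mem_center_iff.mpr ⟨ε, hc⟩)
  have hcZ : (⟨c, hcG⟩ : G) ∈ scalarsIn G := mem_Z.mpr ⟨ε, hc⟩
  obtain ⟨x, hx⟩ : ∃ x : G, x = ⟨c, hcG⟩ * h := ⟨_, rfl⟩
  have hxt : Fusion.Dickson.tr (x : SL2) = 2 := by
    rw [hx, Fusion.Dickson.tr, ← Matrix.trace_fin_two]
    show (c.1 * (h : SL2).1).trace = 2
    rw [hc, Matrix.smul_mul, Matrix.one_mul, Matrix.trace_smul, smul_eq_mul, hte]
    linear_combination 2 * hε
  have hxp : x ^ p = 1 := Subtype.ext (Fusion.Dickson.pow_eq_one_of_tr p hxt)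
  obtain ⟨R, hR⟩ := (show IsPGroup p (Subgroup.zpowers x) by
    rintro ⟨_, k, rfl⟩
    exact ⟨1, Subtype.ext (by
      show (x ^ k) ^ p ^ 1 = 1
      rw [pow_one, ← zpow_natCast, zpow_comm, zpow_natCast, hxp, _root_.one_zpow])⟩).exists_le_sylow
  obtain ⟨g, hg⟩ := MulAction.exists_smul_eq G R P
  have hm : g * x * g⁻¹ ∈ unipIn G := hPS _ (by rw [← hg]; exact ⟨x, hR (Subgroup.mem_zpowers x), rfl⟩)
  have hcc : (⟨c, hcG⟩ : G)⁻¹ * x = h := by rw [hx, inv_mul_cancel_left]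
  refine ⟨g⁻¹, (⟨c, hcG⟩ : G)⁻¹ * (g * x * g⁻¹), mul_mem
    (Fusion.Dickson.scalarsIn_le_centralizer _ (inv_mem hcZ)) (Fusion.Dickson.unipIn_le_centralizer hu hm),
    fun hz' => hh ?_, ?_⟩
  · rw [← hcc]
    refine mul_mem (inv_mem hcZ) ?_
    have := (Fusion.Dickson.scalarsIn_normal (H := G)).conj_mem _
      ((Subgroup.mul_mem_cancel_left _ (inv_mem hcZ)).1 hz') g⁻¹
    rwa [show g⁻¹ * (g * x * g⁻¹) * g⁻¹⁻¹ = x by group] at this
  · have hcomm : ∀ y : G, (⟨c, hcG⟩ : G)⁻¹ * y = y * (⟨c, hcG⟩ : G)⁻¹ := fun y =>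
      Subtype.ext (Fusion.Dickson.isScalar_commute (inv_mem hcZ : (⟨c, hcG⟩ : G)⁻¹ ∈ scalarsIn G) _)
    calc g⁻¹ * ((⟨c, hcG⟩ : G)⁻¹ * (g * x * g⁻¹)) * g⁻¹⁻¹
        = g⁻¹ * (⟨c, hcG⟩ : G)⁻¹ * g * x := by group
      _ = (⟨c, hcG⟩ : G)⁻¹ * g⁻¹ * g * x := by rw [hcomm]
      _ = h := by rw [inv_mul_cancel_right, hcc]

theorem size_u (hG : Subgroup.center SL2 ≤ G) :
    ∃ d, 0 < d ∧ d + 1 ≤ Nat.card (shifts G) ∧
      Nat.card (upperIn G) = d * (Nat.card (shifts G) * Nat.card (scalarsIn G)) ∧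
      (Nat.card (classSet (scalarsIn G) (Subgroup.centralizer ({Fusion.Dickson.transIn hu} : Set G))) : ℤ) *
        (d * Nat.card (shifts G)) = Nat.card G * (Nat.card (shifts G) - 1) := by
  obtain ⟨d, hd0, hdQ, hN⟩ := Fusion.Dickson.card_upperIn hu
  rw [card_centralizer_u hu hG, Fusion.Dickson.card_unipIn] at hN
  rw [Fusion.Dickson.card_unipIn] at hdQ
  refine ⟨d, hd0, hdQ, hN, ?_⟩
  have h1 := Fusion.Dickson.card_classSet_mul (Fusion.Dickson.scalarsIn_le_centralizer _)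
    (Fusion.Dickson.centralizer_eq_self (Fusion.Dickson.transIn_not_scalar hu))
  rw [Fusion.Dickson.normalizer_centralizer_transIn hu, hN, card_centralizer_u hu hG,
    Fusion.Dickson.card_unipIn] at h1
  have hz : 0 < Nat.card (scalarsIn G) := Nat.card_pos
  have h2 : Nat.card (classSet (scalarsIn G) (Subgroup.centralizer ({Fusion.Dickson.transIn hu} : Set G))) *
      (d * Nat.card (shifts G)) = Nat.card G * (Nat.card (shifts G) - 1) := by
    apply Nat.eq_of_mul_eq_mul_right hz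
    calc _ = Nat.card (classSet (scalarsIn G) (Subgroup.centralizer ({Fusion.Dickson.transIn hu} : Set G))) *
          (d * (Nat.card (shifts G) * Nat.card (scalarsIn G))) := by ring
      _ = _ := h1
      _ = _ := by rw [mul_assoc, Nat.sub_mul, one_mul]
  have h3 := congrArg (fun n : ℕ => (n : ℤ)) h2
  simpa [Nat.cast_sub (show 1 ≤ Nat.card (shifts G) by omega)] using h3

end Transvection

end Cfsg.Agent.Classical.Dickson
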