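import Cfsg.Agent.Lib.Classical.Dickson.Subgroups
import Cfsg.Agent.Lib.Classical.Dickson.Overgroup

/-!
# Subgroups containing a subfield subgroup
-/

set_option autoImplicit false
set_option linter.unusedSectionVars false

namespace Cfsg.Agent.Classical.Dickson

open Cfsg.Agent.Small Cfsg.Agent.Small.SL2C

/-- The arithmetic of nested subfield subgroups. -/
theorem subfield_eq {q Q m r : ℕ} (hr : r.Prime) (hq : 3 ≤ q) (hqp : IsPrimePow q)
    (hm : 2 ≤ m) (hQ : Q ^ m = q ^ r) (hd : q * (q ^ 2 - 1) ∣ 2 * (Q * (Q ^ 2 - 1))) : Q = q ∧ m = r := by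
  obtain ⟨p, e, hp, he, rfl⟩ := (isPrimePow_nat_iff q).mp hqp
  obtain ⟨f, -, rfl⟩ := (Nat.dvd_prime_pow hp).mp
    ((dvd_pow_self Q (by omega : m ≠ 0)).trans (dvd_of_eq (hQ.trans (pow_mul p e r).symm)))
  rw [← pow_mul, ← pow_mul] at hQ
  have hfm : f * m = e * r := Nat.pow_right_injective hp.two_le hQ
  have hco : Nat.Coprime ((p ^ e) ^ 2 - 1) (p ^ f) := by
    refine Nat.Coprime.pow_right f ((Nat.Prime.coprime_iff_not_dvd hp).mpr fun h => ?_).symm
    have h1 : p ∣ (p ^ e) ^ 2 := dvd_pow (dvd_pow_self p he.ne') two_ne_zero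
    have := Nat.dvd_sub h1 h
    rw [Nat.sub_sub_self (Nat.one_le_pow _ _ (by positivity))] at this
    exact hp.one_lt.ne' (Nat.dvd_one.mp this)
  have h1 : (p ^ e) ^ 2 - 1 ∣ 2 * ((p ^ f) ^ 2 - 1) := by
    refine hco.dvd_of_dvd_mul_left ?_
    rw [← mul_assoc, mul_comm _ 2, mul_assoc]
    exact (dvd_mul_left _ _).trans hd
  have h2 : (p ^ e) ^ 2 - 1 ∣ 2 * (p ^ (2 * Nat.gcd e f) - 1) := by
    rw [← Nat.gcd_mul_left, ← Nat.pow_sub_one_gcd_pow_sub_one, ← Nat.gcd_mul_left, mul_comm 2 e, mul_comm 2 f,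
      pow_mul, pow_mul]
    exact Nat.dvd_gcd (dvd_mul_left _ _) h1
  obtain ⟨g, hg⟩ : ∃ g, g = Nat.gcd e f := ⟨_, rfl⟩
  rw [← hg] at h2
  have hge : g ∣ e := hg ▸ Nat.gcd_dvd_left e f
  have heq : g = e := by
    by_contra hne
    have hle : 2 * g ≤ e := by
      obtain ⟨c, hc⟩ := hge
      have : 2 ≤ c := by
        rcases c with _ | _ | c
        · omega
        · omega
        · omega
      rw [hc, mul_comm 2]; exact Nat.mul_le_mul_left g this
    have h3 : p ^ (2 * g) ≤ p ^ e := Nat.pow_le_pow_right hp.pos hle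
    have hg0 : 0 < g := Nat.pos_of_dvd_of_pos hge he
    have h5 : 1 < p ^ (2 * g) := Nat.one_lt_pow (by omega) hp.one_lt
    have h4 := Nat.le_of_dvd (by omega) h2
    have h6 : 3 * p ^ e ≤ (p ^ e) ^ 2 := by rw [pow_two]; exact Nat.mul_le_mul_right _ hq
    omega
  obtain ⟨j, rfl⟩ : e ∣ f := heq ▸ hg ▸ Nat.gcd_dvd_right e f
  have hjm : j * m = r := Nat.eq_of_mul_eq_mul_left he (by rw [← mul_assoc]; exact hfm)
  rcases hr.eq_one_or_self_of_dvd j ⟨m, hjm.symm⟩ with rfl | rfl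
  · exact ⟨by rw [mul_one], by omega⟩
  · exfalso
    have : m = 1 := Nat.eq_of_mul_eq_mul_left hr.pos (by rw [hjm, mul_one])
    omega

/-- `PGL₂(Q)` does not fit into `PSL₂(Q^m)` for odd `m`. -/
theorem pgl_not_dvd {Q m : ℕ} (hQ : Odd Q) (hQ2 : 2 ≤ Q) (hm : Odd m) :
    ¬ Q * (Q ^ 2 - 1) * 2 ∣ Q ^ m * ((Q ^ m) ^ 2 - 1) := by
  obtain ⟨j, rfl⟩ := hm
  intro h3
  have e4 : (Q ^ (2 * j + 1)) ^ 2 - 1 = (Q ^ 2 - 1) * ∑ i ∈ Finset.range (2 * j + 1), (Q ^ 2) ^ i := by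
    rw [← pow_mul, mul_comm _ 2, pow_mul, mul_comm (Q ^ 2 - 1)]
    exact (geom_sum_mul_of_one_le (Nat.one_le_pow _ _ (by omega)) _).symm
  rw [e4, show Q ^ (2 * j + 1) = Q ^ (2 * j) * Q from pow_succ _ _] at h3
  have h5 : 2 ∣ Q ^ (2 * j) * ∑ i ∈ Finset.range (2 * j + 1), (Q ^ 2) ^ i := by
    refine Nat.dvd_of_mul_dvd_mul_left (k := Q * (Q ^ 2 - 1)) (Nat.mul_pos (by omega) ?_) (h3.trans (dvd_of_eq (by ring)))
    have := Nat.pow_le_pow_left hQ2 2
    omega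
  rcases Nat.prime_two.dvd_mul.mp h5 with h | h
  · exact hQ.not_two_dvd_nat (Nat.prime_two.dvd_of_dvd_pow h)
  · rw [Nat.dvd_iff_mod_eq_zero, Finset.sum_nat_mod] at h
    simp [Nat.pow_mod, Nat.odd_iff.mp hQ] at h

variable {F : Type*} [Field F] [Fintype F]

local notation "P2" => Matrix.ProjectiveSpecialLinearGroup (Fin 2) F

/-- The order of a cyclic or dihedral subgroup of the list divides `2 (q ± 1) / d`. -/
theorem card_dvd_torus {M : Subgroup P2} {k : ℕ}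
    (hk : k ∣ (Fintype.card F - 1) / Nat.gcd 2 (Fintype.card F - 1) ∨
      k ∣ (Fintype.card F + 1) / Nat.gcd 2 (Fintype.card F - 1))
    (hc : (IsCyclic M ∧ Nat.card M = k) ∨ (2 ≤ k ∧ Nonempty (M ≃* DihedralGroup k))) :
    Nat.card M ∣ 2 * ((Fintype.card F - 1) / Nat.gcd 2 (Fintype.card F - 1)) ∨
      Nat.card M ∣ 2 * ((Fintype.card F + 1) / Nat.gcd 2 (Fintype.card F - 1)) := by
  have hM : Nat.card M ∣ 2 * k := by
    rcases hc with ⟨-, hc⟩ | ⟨-, ⟨e⟩⟩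
    · rw [hc]; exact dvd_mul_left _ _
    · rw [Nat.card_congr e.toEquiv, DihedralGroup.nat_card]
  exact hk.imp (fun h => hM.trans (mul_dvd_mul_left 2 h)) fun h => hM.trans (mul_dvd_mul_left 2 h)

theorem card_map_conj (g : GL (Fin 2) F) (M : Subgroup P2) :
    Nat.card (M.map (PSL2.conjP g).toMonoidHom) = Nat.card M :=
  (Nat.card_congr (M.equivMapOfInjective (PSL2.conjP g).toMonoidHom (PSL2.conjP g).injective).toEquiv).symm

theorem card_dvd_borel {g : GL (Fin 2) F} {M : Subgroup P2} (h : M.map (PSL2.conjP g).toMonoidHom ≤ borelP F) :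
    Nat.card M * Nat.gcd 2 (Fintype.card F - 1) ∣ (Fintype.card F - 1) * Fintype.card F := by
  rw [← card_borelP, ← card_map_conj g M]
  exact Nat.mul_dvd_mul_right (Subgroup.card_dvd_of_le h) _

/-- Involutions of the Borel subgroup commute in characteristic two. -/
theorem borel_involutions (h2 : (2 : F) = 0) {x y : P2} (hx : x ∈ borelP F) (hy : y ∈ borelP F)
    (hxx : x * x = 1) (hyy : y * y = 1) : x * y = y * x := by
  have key : ∀ z ∈ borelP F, z * z = 1 → ∃ s, z = PSL2.pr (PSL2.uS s) := by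
    rintro _ ⟨A, hA, rfl⟩ h
    rw [← map_mul, pr_eq_one_iff] at h
    have hd := Fusion.Dickson.det_eq A
    rw [show A.1 1 0 = 0 from hA, mul_zero, sub_zero] at hd
    have h00 : A.1 0 0 = 1 := by
      obtain ⟨-, -, he⟩ := (isSc_iff _).mp h
      rw [Fusion.Dickson.mul_entry, Fusion.Dickson.mul_entry, show A.1 1 0 = 0 from hA] at he
      have h1 : (A.1 0 0 * A.1 0 0 - 1) * (A.1 0 0 * A.1 0 0 - 1) = 0 := by
        linear_combination (A.1 0 0 * A.1 0 0) * he + (A.1 0 0 * A.1 1 1 + 1) * hd - (A.1 0 0 * A.1 0 0 - 1) * h2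
      refine sub_eq_zero.mp (mul_self_eq_zero.mp ?_)
      linear_combination (mul_self_eq_zero.mp h1) - (A.1 0 0 - 1) * h2
    exact ⟨A.1 0 1, by rw [uS_eq_upU, ← Fusion.Dickson.eq_upU (show A.1 1 0 = 0 from hA) h00]⟩
  obtain ⟨s, rfl⟩ := key x hx hxx
  obtain ⟨t, rfl⟩ := key y hy hyy
  rw [← map_mul, ← map_mul, ← PSL2.uS_add, ← PSL2.uS_add, add_comm]

theorem psl_has_involutions (K : Type*) [Field K] [Fintype K] (h2 : (2 : K) = 0) :
    ∃ x y : Matrix.ProjectiveSpecialLinearGroup (Fin 2) K, x * x = 1 ∧ y * y = 1 ∧ x * y ≠ y * x := by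
  refine ⟨PSL2.pr (PSL2.uS (1 : K)), PSL2.pr (PSL2.vS (1 : K)), ?_, ?_, ?_⟩
  · rw [← map_mul, ← PSL2.uS_add, show (1 : K) + 1 = 0 by rw [← h2]; norm_num, uS_eq_upU, Fusion.Dickson.upU_zero, map_one]
  · rw [← map_mul, vS_eq_lowL, Fusion.Dickson.lowL_mul, show (1 : K) + 1 = 0 by rw [← h2]; norm_num,
      Fusion.Dickson.lowL_zero, map_one]
  · rw [← map_mul, ← map_mul, ne_eq, PSL2.pr_eq_iff]
    rintro ⟨ε, hε, he⟩
    have h00 := congrFun (congrFun he 0) 0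
    have h01 := congrFun (congrFun he 0) 1
    simp [PSL2.val_mul, Matrix.mul_fin_two] at h00 h01
    rw [← h01] at h00
    exact one_ne_zero (α := K) (by linear_combination h00)

end Cfsg.Agent.Classical.Dickson
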