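import Cfsg.Agent.Lib.Classical.Dickson.Tools
import Cfsg.Agent.Lib.Classical.Subfield

/-!
# Subgroups of `PSL₂` on Dickson's list
-/

set_option autoImplicit false
set_option linter.unusedSectionVars false

namespace Cfsg.Agent.Classical.Dickson

open Cfsg.Agent.Small Cfsg.Agent.Small.SL2C
open Cfsg.Agent.Fusion.Dickson (scalarsIn)

variable {F : Type*} [Field F] [Fintype F]

local notation "SL2" => Matrix.SpecialLinearGroup (Fin 2) F
local notation "P2" => Matrix.ProjectiveSpecialLinearGroup (Fin 2) F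

/-- The image of the normaliser of a torus is dihedral. -/
theorem dihedral_normalizer {g : SL2} (ht : g.1.trace * g.1.trace ≠ 4) (hns : ¬ IsSc g.1)
    (h2 : 2 ≤ sol g.1.trace 1 / Nat.gcd 2 (Fintype.card F - 1)) :
    Nat.card ((Subgroup.normalizer (tor g : Set SL2)).map PSL2.pr) = 2 * (sol g.1.trace 1 / Nat.gcd 2 (Fintype.card F - 1)) ∧
      Nonempty ((Subgroup.normalizer (tor g : Set SL2)).map PSL2.pr ≃* DihedralGroup (sol g.1.trace 1 / Nat.gcd 2 (Fintype.card F - 1))) := by
  classical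
  obtain ⟨G, hGdef⟩ : ∃ G, G = Subgroup.normalizer (tor g : Set SL2) := ⟨_, rfl⟩
  have hgG : g ∈ G := hGdef ▸ Subgroup.le_normalizer (self_mem_tor g)
  have hG : Subgroup.center SL2 ≤ G := hGdef ▸
    (Subgroup.center_le_centralizer _).trans Subgroup.le_normalizer
  obtain ⟨A, a, ε, hA, hgA⟩ := exists_semi hG (h := ⟨g, hgG⟩) (fun h => hns (mem_Z.mp h)) ht
  have hAt : A = (tor g).subgroupOf G := by
    rw [← hA.ct ⟨g, hgG⟩ hgA fun h => hns (mem_Z.mp h)]
    ext x
    rw [Subgroup.mem_centralizer_singleton_iff, Subgroup.mem_subgroupOf, Subgroup.mem_centralizer_singleton_iff]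
    exact ⟨fun e => congrArg Subtype.val e, fun e => Subtype.ext e⟩
  have hle : tor g ≤ G := hGdef ▸ Subgroup.le_normalizer
  have hca : Nat.card A = sol g.1.trace 1 := by
    rw [hAt, Nat.card_congr (Subgroup.subgroupOfEquivOfLe hle).toEquiv]
    exact card_centralizer g hns
  have hcG : Nat.card G = 2 * Nat.card A := by rw [hca, hGdef]; exact (card_normalizer ht).1
  have hN : Subgroup.normalizer (A : Set G) = ⊤ := by
    refine Subgroup.normalizer_eq_top_iff.mpr ?_
    rw [hAt]
    subst hGdef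
    exact Subgroup.normal_in_normalizer
  obtain rfl : ε = 2 := by
    have h := hA.cardN
    rw [hN, Subgroup.card_top, hcG] at h
    exact (Nat.eq_of_mul_eq_mul_right Nat.card_pos h).symm
  have haz : a = sol g.1.trace 1 / Nat.gcd 2 (Fintype.card F - 1) := by
    rw [← hca, hA.card, card_Z hG, Nat.mul_div_cancel _ (by
      rcases Nat.eq_zero_or_pos (Nat.gcd 2 (Fintype.card F - 1)) with h | h
      · rw [Nat.gcd_eq_zero_iff] at h; omega
      · exact h)]
  have hcard : Nat.card ↥(G.map PSL2.pr) = 2 * a := by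
    have h := card_G (G := G)
    rw [hcG, hA.card, ← mul_assoc] at h
    exact (Nat.eq_of_mul_eq_mul_right Nat.card_pos h).symm
  rw [← haz]
  rw [← hGdef]
  exact ⟨hcard, hA.dihedral_iso hcard⟩

/-- There is a dihedral subgroup for each trace of a semisimple element. -/
theorem exists_dihedral {t : F} (ht : t * t ≠ 4) (h2 : 2 ≤ sol t 1 / Nat.gcd 2 (Fintype.card F - 1)) :
    ∃ H : Subgroup P2, Nat.card H = 2 * (sol t 1 / Nat.gcd 2 (Fintype.card F - 1)) ∧
      Nonempty (H ≃* DihedralGroup (sol t 1 / Nat.gcd 2 (Fintype.card F - 1))) := by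
  obtain ⟨g, hg, hns⟩ := comp_elt t
  rw [← hg] at ht h2 ⊢
  exact ⟨_, dihedral_normalizer ht hns h2⟩

theorem exists_dihedral_plus (h3 : 3 ≤ Fintype.card F) :
    ∃ H : Subgroup P2, Nat.card H = 2 * ((Fintype.card F + 1) / Nat.gcd 2 (Fintype.card F - 1)) ∧
      Nonempty (H ≃* DihedralGroup ((Fintype.card F + 1) / Nat.gcd 2 (Fintype.card F - 1))) := by
  obtain ⟨t, ht, hr⟩ := exists_roots_zero (F := F)
  have hs : sol t 1 = Fintype.card F + 1 := by
    rcases sol_eq ht with ⟨h, -⟩ | ⟨-, h⟩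
    · omega
    · exact h
  have := exists_dihedral ht (by
    rw [hs]
    have hd := Nat.le_of_dvd two_pos (Nat.gcd_dvd_left 2 (Fintype.card F - 1))
    rw [Nat.le_div_iff_mul_le (Nat.gcd_pos_of_pos_left _ two_pos)]
    omega)
  rwa [hs] at this

theorem exists_dihedral_minus (h4 : 4 ≤ Fintype.card F) (h5 : Fintype.card F ≠ 3) :
    ∃ H : Subgroup P2, Nat.card H = 2 * ((Fintype.card F - 1) / Nat.gcd 2 (Fintype.card F - 1)) ∧
      Nonempty (H ≃* DihedralGroup ((Fintype.card F - 1) / Nat.gcd 2 (Fintype.card F - 1))) := by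
  obtain ⟨a, ha, ha2⟩ := exists_sq_ne_one h4
  obtain ⟨ht, hr⟩ := exists_split ha ha2
  have hs : sol (a + a⁻¹) 1 = Fintype.card F - 1 := by
    rcases sol_eq ht with ⟨-, h⟩ | ⟨h, -⟩
    · exact h
    · omega
  have := exists_dihedral ht (by
    rw [hs]
    by_cases h20 : (2 : F) = 0
    · rw [gcd_eq_one_of_even h20]; omega
    · rw [two_dvd_pred h20]
      have := not_two_dvd_iff.mpr h20
      omega)
  rwa [hs] at this

/-- A field of the right order is a subfield. -/
theorem exists_embedding {K : Type*} [Field K] [Fintype K] (m : ℕ) (hm : 1 ≤ m)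
    (hK : Fintype.card K ^ m = Fintype.card F) : Nonempty (K →+* F) := by
  classical
  obtain ⟨p, hp⟩ := CharP.exists F
  obtain ⟨e, hpp, he⟩ := FiniteField.card F p
  obtain ⟨r, hr⟩ := CharP.exists K
  obtain ⟨f, hrr, hf⟩ := FiniteField.card K r
  rw [hf, he, ← pow_mul] at hK
  have hrp : r = p := (Nat.prime_dvd_prime_iff_eq hrr hpp).mp
    (hrr.dvd_of_dvd_pow (hK ▸ dvd_pow_self r (Nat.mul_ne_zero f.ne_zero (by omega))))
  subst hrp
  have hfe : (f : ℕ) ∣ (e : ℕ) := ⟨m, (Nat.pow_right_injective hpp.two_le hK).symm⟩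
  obtain ⟨F₀, hc, -⟩ := Classical.exists_subfield_pow hpp he hfe f.pos
  haveI : Fintype F₀ := Fintype.ofFinite F₀
  exact ⟨F₀.subtype.comp (FiniteField.ringEquivOfCardEq (K := K) (K' := F₀) (by
    rw [← Nat.card_eq_fintype_card, ← Nat.card_eq_fintype_card, hc, Nat.card_eq_fintype_card, hf])).toRingHom⟩

theorem exists_psl {K : Type*} [Field K] [Fintype K] (ι : K →+* F) :
    ∃ H : Subgroup P2, Nonempty (H ≃* Matrix.ProjectiveSpecialLinearGroup (Fin 2) K) := by
  obtain ⟨φ, hφ⟩ : ∃ φ : Matrix.SpecialLinearGroup (Fin 2) K →* P2,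
      φ = PSL2.pr.comp (Matrix.SpecialLinearGroup.map ι) := ⟨_, rfl⟩
  have hker : φ.ker = Subgroup.center _ := by
    ext x
    rw [MonoidHom.mem_ker, hφ, MonoidHom.comp_apply, pr_eq_one_iff, mem_center_iff, isSc_iff, isSc_iff]
    simp [ι.injective.eq_iff]
  exact ⟨φ.range, ⟨((QuotientGroup.quotientMulEquivOfEq hker.symm).trans (QuotientGroup.quotientKerEquivRange φ)).symm⟩⟩

theorem exists_pgl {K : Type*} [Field K] [Fintype K] (ι : K →+* F) (hsq : ∀ a : K, IsSquare (ι a)) :
    ∃ H : Subgroup P2, Nonempty (H ≃* Matrix.ProjGenLinGroup (Fin 2) K) := by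
  classical
  choose s hs using hsq
  have hdet : ∀ g : GL (Fin 2) K, ((s g.val.det)⁻¹ • g.val.map ι).det = 1 := fun g => by
    rw [Matrix.det_smul, Fintype.card_fin, show (g.val.map ι).det = ι g.val.det from (RingHom.map_det ι g.val).symm,
      hs g.val.det]
    have hne : s g.val.det ≠ 0 := fun h => by
      have h1 := hs g.val.det
      rw [h, mul_zero, map_eq_zero] at h1
      exact ((Matrix.isUnit_iff_isUnit_det _).mp g.isUnit).ne_zero h1
    field_simp
  let L : GL (Fin 2) K → SL2 := fun g => ⟨_, hdet g⟩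
  have key : ∀ (g : GL (Fin 2) K) (A : SL2) (c : F), A.1 = c • g.val.map ι → PSL2.pr A = PSL2.pr (L g) := by
    intro g A c hA
    refine (PSL2.pr_eq_iff _ _).mpr ⟨c * s g.val.det, ?_, ?_⟩
    · have h1 := A.2
      rw [hA, Matrix.det_smul, Fintype.card_fin,
        show (g.val.map ι).det = ι g.val.det from (RingHom.map_det ι g.val).symm, hs] at h1
      linear_combination h1
    · have hne : s g.val.det ≠ 0 := fun h => by
        have h1 := hs g.val.det
        rw [h, mul_zero, map_eq_zero] at h1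
        exact ((Matrix.isUnit_iff_isUnit_det _).mp g.isUnit).ne_zero h1
      show A.1 = (c * s g.val.det) • ((s g.val.det)⁻¹ • g.val.map ι)
      rw [smul_smul, mul_assoc, mul_inv_cancel₀ hne, mul_one, hA]
  let φ : GL (Fin 2) K →* P2 := MonoidHom.mk' (fun g => PSL2.pr (L g)) (fun g g' => by
    rw [← map_mul]
    refine (key (g * g') _ ((s g.val.det)⁻¹ * (s g'.val.det)⁻¹) ?_).symm
    show ((s g.val.det)⁻¹ • g.val.map ι) * ((s g'.val.det)⁻¹ • g'.val.map ι) = _
    rw [Matrix.smul_mul, Matrix.mul_smul, smul_smul, ← Matrix.map_mul]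
    rfl)
  have hker : φ.ker = Subgroup.center _ := by
    ext g
    rw [MonoidHom.mem_ker, Matrix.GeneralLinearGroup.center_eq_range_scalar]
    constructor
    · intro h
      obtain ⟨c, hc⟩ := pr_eq_one_iff.mp (show PSL2.pr (L g) = 1 from h)
      have hne : (s g.val.det)⁻¹ ≠ 0 := fun h0 => by
        have := hdet g
        rw [h0, zero_smul, Matrix.det_zero] at this
        exact zero_ne_one this
      have hg : ∀ i j, ι (g.val i j) = if i = j then c / (s g.val.det)⁻¹ else 0 := fun i j => by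
        have := congrFun (congrFun hc i) j
        simp only [L, Matrix.smul_apply, Matrix.map_apply, smul_eq_mul, Matrix.one_apply] at this
        split_ifs with hij <;> simp only [hij, if_true, if_false, mul_one, mul_zero] at this
        · rw [eq_div_iff hne, mul_comm, hij]; exact this
        · exact (mul_eq_zero.mp this).resolve_left hne
      have h01 : g.val 0 1 = 0 := ι.injective (by rw [hg, map_zero]; simp)
      have h10 : g.val 1 0 = 0 := ι.injective (by rw [hg, map_zero]; simp)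
      have h11 : g.val 1 1 = g.val 0 0 := ι.injective (by rw [hg, hg]; simp)
      have h00 : g.val 0 0 ≠ 0 := fun h0 => ((Matrix.isUnit_iff_isUnit_det _).mp g.isUnit).ne_zero (by
        rw [Matrix.det_fin_two, h0, h01]; ring)
      refine ⟨Units.mk0 _ h00, Units.ext ?_⟩
      ext i j
      fin_cases i <;> fin_cases j <;> simp [h01, h10, h11]
    · rintro ⟨u, rfl⟩
      refine pr_eq_one_iff.mpr ⟨(s (Matrix.GeneralLinearGroup.scalar (Fin 2) u).val.det)⁻¹ * ι u, ?_⟩
      show _ • _ = _
      rw [mul_smul]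
      congr 1
      ext i j
      fin_cases i <;> fin_cases j <;> simp
  exact ⟨φ.range, ⟨((QuotientGroup.quotientMulEquivOfEq hker.symm).trans (QuotientGroup.quotientKerEquivRange φ)).symm⟩⟩

/-- Every element of a subfield of even degree is a square. -/
theorem isSquare_of_even_degree {K : Type*} [Field K] [Fintype K] (ι : K →+* F) {m : ℕ} (hm : Even m)
    (hK : Fintype.card K ^ m = Fintype.card F) (a : K) : IsSquare (ι a) := by
  by_cases h2 : (2 : F) = 0
  · obtain ⟨s, hs⟩ := isSquare_of_two h2 (ι a); exact ⟨s, hs.symm⟩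
  by_cases ha : a = 0
  · exact ⟨0, by simp [ha]⟩
  have hch : ringChar F ≠ 2 := fun h => h2 (by
    haveI := ringChar.charP F
    exact_mod_cast (CharP.cast_eq_zero_iff F (ringChar F) 2).mpr (by rw [h]))
  rw [FiniteField.isSquare_iff hch ((map_ne_zero ι).mpr ha), ← map_pow, map_eq_one_iff ι ι.injective]
  have hFodd := not_two_dvd_iff.mpr h2
  obtain ⟨j, rfl⟩ := hm
  obtain ⟨Q, hQ⟩ : ∃ Q, Q = Fintype.card K := ⟨_, rfl⟩
  rw [← hQ] at hK
  have hQodd : Q % 2 = 1 := by
    by_contra hc
    rcases Nat.eq_zero_or_pos j with rfl | hj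
    · rw [Nat.add_zero, pow_zero] at hK
      have := Fintype.one_lt_card (α := F)
      omega
    · exact hFodd (hK ▸ (Nat.dvd_of_mod_eq_zero (by omega : Q % 2 = 0)).pow (by omega))
  have hdvd : Q - 1 ∣ Fintype.card F / 2 := by
    have h1 : Q ^ 2 - 1 ∣ Fintype.card F - 1 := by
      rw [← hK, ← two_mul, pow_mul]
      simpa using Nat.sub_dvd_pow_sub_pow (Q ^ 2) 1 j
    have h3 : Q ^ 2 - 1 = (Q - 1) * (Q + 1) := by rw [mul_comm, ← Nat.sq_sub_sq, one_pow]
    have h4 : 2 * (Q - 1) ∣ Q ^ 2 - 1 := by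
      rw [h3, mul_comm 2]; exact Nat.mul_dvd_mul_left _ (Nat.dvd_of_mod_eq_zero (by omega))
    have h5 := h4.trans h1
    rw [show Fintype.card F - 1 = 2 * (Fintype.card F / 2) by omega] at h5
    exact Nat.dvd_of_mul_dvd_mul_left two_pos h5
  obtain ⟨c, hc⟩ := hdvd
  rw [hc, pow_mul, hQ, FiniteField.pow_card_sub_one_eq_one a ha, one_pow]

end Cfsg.Agent.Classical.Dickson
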